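import Mathlib
import Cfsg.Agent.Helper8.MCTS

set_option autoImplicit false

/-!
# S5316 (project MC5): the pure base

`G` a `p`-group of maximal class of order `p ^ n` (`n ≥ 5`, `p ≥ 5`), `E ≤ G` elementary abelian of order
`p ^ 3` with `C_G(E) = E` and `|N_G(E)| = p ^ 4` (structure `Cfg`).  `N := N_G(E)`, `Z₃ := gam G (n-3)`,
`H := E ⊓ Z₃`.  Headers frozen in `notes/S5316_headers.lean.txt`.
-/

namespace Cfsg.Agent.MC5

open scoped commutatorElement
open Cfsg.Agent.Helper4.MC

/-- the configuration in `G = ↥S` -/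
structure Cfg (p n : ℕ) (G : Type*) [Group G] (E : Subgroup G) : Prop where
  mc : IsMC p n G
  hp : 5 ≤ p
  hn : 5 ≤ n
  comm : ∀ a ∈ E, ∀ b ∈ E, a * b = b * a
  exp : ∀ a ∈ E, a ^ p = 1
  card : Nat.card E = p ^ 3
  cent : ∀ u : G, (∀ e ∈ E, Commute u e) → u ∈ E
  norm : Nat.card (Subgroup.normalizer (E : Set G)) = p ^ 4

section gen

variable {G : Type*} [Group G]

/-- a subgroup all of whose elements conjugate `E` into `E` normalizes `E` -/
theorem mc5_le_normalizer {E K : Subgroup G} (h : ∀ k ∈ K, ∀ e ∈ E, k * e * k⁻¹ ∈ E) :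
    K ≤ Subgroup.normalizer (E : Set G) := by
  intro k hk
  rw [Subgroup.mem_normalizer_iff]
  intro x
  constructor
  · exact h k hk x
  · intro hx
    have := h k⁻¹ (K.inv_mem hk) _ hx
    simpa [mul_assoc] using this

/-- an element conjugating the finite subgroup `E` into itself normalizes it -/
theorem mc5_mem_normalizer [Finite G] {E : Subgroup G} {k : G} (h : ∀ e ∈ E, k * e * k⁻¹ ∈ E) :
    k ∈ Subgroup.normalizer (E : Set G) := by
  have hpow : ∀ m : ℕ, ∀ e ∈ E, k ^ m * e * (k ^ m)⁻¹ ∈ E := by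
    intro m
    induction m with
    | zero => intro e he; simpa using he
    | succ m ih =>
      intro e he
      have h1 := h _ (ih e he)
      have h2 : k ^ (m + 1) * e * (k ^ (m + 1))⁻¹ = k * (k ^ m * e * (k ^ m)⁻¹) * k⁻¹ := by
        rw [pow_succ']
        group
      rw [h2]
      exact h1
  have hinv : k⁻¹ = k ^ (orderOf k - 1) := by
    apply inv_eq_of_mul_eq_one_right
    rw [← pow_succ', Nat.sub_add_cancel (orderOf_pos k), pow_orderOf_eq_one]
  rw [Subgroup.mem_normalizer_iff]
  intro x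
  constructor
  · exact h x
  · intro hx
    have := hpow (orderOf k - 1) _ hx
    rw [← hinv] at this
    simpa [mul_assoc] using this

theorem mc5_conj_eq_comm_mul (a b : G) : a * b * a⁻¹ = ⁅a, b⁆ * b := by
  rw [commutatorElement_def]
  group

theorem mc5_card_mul_relIndex {H K : Subgroup G} (h : H ≤ K) :
    Nat.card H * H.relIndex K = Nat.card K := by
  have := Subgroup.relIndex_mul_relIndex ⊥ H K bot_le h
  rwa [Subgroup.relIndex_bot_left, Subgroup.relIndex_bot_left] at this

/-- normalizers grow in finite `p`-groups -/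
theorem mc5_exists_normalizer [Finite G] {p : ℕ} [Fact p.Prime] (hG : IsPGroup p G)
    {A B : Subgroup G} (hlt : A < B) :
    ∃ x ∈ B, x ∉ A ∧ x ∈ Subgroup.normalizer (A : Set G) := by
  haveI : Group.IsNilpotent ↥B := (hG.to_subgroup B).isNilpotent
  have hnc := Group.normalizerCondition_of_isNilpotent (G := ↥B) (A.subgroupOf B) (by
    rw [lt_top_iff_ne_top]
    intro htop
    rw [Subgroup.subgroupOf_eq_top] at htop
    exact absurd (le_antisymm hlt.le htop) hlt.ne)
  rw [← Subgroup.subgroupOf_normalizer_eq hlt.le] at hnc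
  obtain ⟨x, hxN, hxA⟩ := SetLike.exists_of_lt hnc
  exact ⟨x.1, x.2, fun hx => hxA (Subgroup.mem_subgroupOf.mpr hx), Subgroup.mem_subgroupOf.mp hxN⟩

end gen

universe u
variable {G : Type u} [Group G] [Finite G] {p n : ℕ} [Fact p.Prime] {E : Subgroup G}

theorem Cfg.card_Z3 (h : Cfg p n G E) : Nat.card (gam G (n - 3)) = p ^ 3 := by
  have hn := h.hn
  have := h.mc.card_gam (i := n - 3) (by omega) (by omega)
  rwa [show n - (n - 3) = 3 by omega] at this

theorem Cfg.center_le (h : Cfg p n G E) : gam G (n - 1) ≤ E := by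
  intro x hx
  apply h.cent
  intro e _
  have hxc : x ∈ Subgroup.center G := by rw [h.mc.center_eq]; exact hx
  exact (Subgroup.mem_center_iff.mp hxc e).symm

theorem Cfg.pow_lt (h : Cfg p n G E) {a b : ℕ} (hab : a < b) : p ^ a < p ^ b :=
  Nat.pow_lt_pow_right (Fact.out : p.Prime).one_lt hab

theorem Cfg.not_uniform (h : Cfg p n G E) {e : G} (he : e ∈ E) : ¬ IsUniform p e := by
  intro hu
  unfold IsUniform at hu
  have hle : E ≤ Subgroup.centralizer ({e} : Set G) := by
    intro x hx
    rw [Subgroup.mem_centralizer_iff]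
    rintro _ rfl
    exact h.comm _ he x hx
  have h1 := Subgroup.card_le_of_le hle
  rw [h.card, hu] at h1
  exact absurd (h.pow_lt (show 2 < 3 by norm_num)) (not_lt.mpr h1)

theorem Cfg.le_or_le (h : Cfg p n G E) : E ≤ twoStep G 2 ∨ E ≤ twoStep G (n - 2) := by
  have hn := h.hn
  rw [← SubgroupClass.subset_union]
  intro e he
  by_contra hne
  rw [Set.mem_union, not_or] at hne
  exact h.not_uniform he
    (Cfsg.Agent.Helper8.MC.isUniform_of_not_mem h.mc (by omega) hne.1 hne.2)

theorem Cfg.Z2_le (h : Cfg p n G E) (h2 : E ≤ twoStep G (n - 2)) : gam G (n - 2) ≤ E := by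
  have hn := h.hn
  intro y hy
  apply h.cent
  intro e he
  have := (mem_twoStep (n - 2) e).mp (h2 he) y hy
  rw [h.mc.gam_eq_bot (by omega), Subgroup.mem_bot, commutatorElement_eq_one_iff_commute] at this
  exact this.symm

theorem Cfg.Z3_comm (h : Cfg p n G E) {a b : G} (ha : a ∈ gam G (n - 3)) (hb : b ∈ gam G (n - 3)) :
    Commute a b := by
  have hn := h.hn
  have h1 := h.mc.gam_comm_self_le (i := n - 3) (by omega)
  have h2 := h1 (Subgroup.commutator_mem_commutator ha hb)
  rw [h.mc.gam_eq_bot (by omega), Subgroup.mem_bot, commutatorElement_eq_one_iff_commute] at h2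
  exact h2

theorem mc5_base_Z3_le (h : Cfg p n G E) : gam G (n - 3) ≤ Subgroup.normalizer (E : Set G) := by
  have hn := h.hn
  apply mc5_le_normalizer
  intro z hz e he
  rw [mc5_conj_eq_comm_mul]
  refine E.mul_mem ?_ he
  rcases h.le_or_le with h1 | h2
  · apply h.center_le
    have hle := Cfsg.Agent.Helper8.MC.lev_comm_gam_le' h.mc (by omega : 4 ≤ n) (i := 1) (j := n - 3)
      le_rfl (by omega) (by omega)
    have h3 : ⁅e, z⁆ ∈ gam G (1 + (n - 3) + 1) :=
      hle (Subgroup.commutator_mem_commutator (by rw [lev_one]; exact h1 he) hz)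
    have e1 : 1 + (n - 3) + 1 = n - 1 := by omega
    rw [e1] at h3
    have h4 : ⁅z, e⁆ = ⁅e, z⁆⁻¹ := (commutatorElement_inv e z).symm
    rw [h4]
    exact (gam G (n - 1)).inv_mem h3
  · apply h.Z2_le h2
    have := comm_mem_gam_succ' (G := G) (i := n - 3) (by omega) e hz
    rwa [show n - 3 + 1 = n - 2 by omega] at this

theorem mc5_base_sup (h : Cfg p n G E) : E ⊔ gam G (n - 3) = Subgroup.normalizer (E : Set G) := by
  have hn := h.hn
  have hle : E ⊔ gam G (n - 3) ≤ Subgroup.normalizer (E : Set G) :=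
    sup_le Subgroup.le_normalizer (mc5_base_Z3_le h)
  refine eq_of_lt_of_card (p := p) (m := 3) h.norm h.card ?_ hle
  refine lt_of_le_of_ne le_sup_left ?_
  intro heq
  have hZE : gam G (n - 3) ≤ E := by
    rw [heq]
    exact le_sup_right
  have hEZ : gam G (n - 3) = E :=
    Subgroup.eq_of_le_of_card_ge hZE (by rw [h.card, h.card_Z3])
  have hnorm : Subgroup.normalizer (E : Set G) = ⊤ := by
    rw [← hEZ]
    exact Subgroup.normalizer_eq_top_iff.mpr inferInstance
  have h1 := h.norm
  rw [hnorm, Subgroup.card_top, h.mc.card] at h1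
  have := Nat.pow_right_injective (Fact.out : p.Prime).two_le h1
  omega

theorem mc5_base_card_H (h : Cfg p n G E) :
    Nat.card (E ⊓ gam G (n - 3) : Subgroup G) = p ^ 2 := by
  have hpp := (Fact.out : p.Prime)
  have h1 := mc5_card_mul_relIndex (le_sup_right : gam G (n - 3) ≤ E ⊔ gam G (n - 3))
  rw [Subgroup.relIndex_sup_right, mc5_base_sup h, h.norm, h.card_Z3] at h1
  have h2 : (gam G (n - 3)).relIndex E = p := by
    have : p ^ 3 * (gam G (n - 3)).relIndex E = p ^ 3 * p := by rw [h1]; ring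
    exact Nat.eq_of_mul_eq_mul_left (pow_pos hpp.pos 3) this
  have h3 := mc5_card_mul_relIndex (inf_le_left : E ⊓ gam G (n - 3) ≤ E)
  rw [Subgroup.inf_relIndex_left, h2, h.card] at h3
  have : Nat.card (E ⊓ gam G (n - 3) : Subgroup G) * p = p ^ 2 * p := by rw [h3]; ring
  exact Nat.eq_of_mul_eq_mul_right hpp.pos this

/-- `H ≤ Z(N)` -/
theorem mc5_base_H_central (h : Cfg p n G E) {c y : G} (hc : c ∈ E ⊓ gam G (n - 3))
    (hy : y ∈ Subgroup.normalizer (E : Set G)) : Commute c y := by
  rw [← mc5_base_sup h] at hy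
  have hle : E ⊔ gam G (n - 3) ≤ Subgroup.centralizer ({c} : Set G) := by
    apply sup_le
    · intro e he
      rw [Subgroup.mem_centralizer_iff]
      rintro _ rfl
      exact h.comm _ hc.1 e he
    · intro z hz
      rw [Subgroup.mem_centralizer_iff]
      rintro _ rfl
      exact (h.Z3_comm hc.2 hz).eq
  exact (Subgroup.mem_centralizer_iff.mp (hle hy)) c rfl

/-- `Z(N) ≤ H` -/
theorem mc5_base_center_le (h : Cfg p n G E) {c : G} (hc : c ∈ Subgroup.normalizer (E : Set G))
    (hcc : ∀ y ∈ Subgroup.normalizer (E : Set G), Commute c y) : c ∈ E ⊓ gam G (n - 3) := by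
  have hcE : c ∈ E := h.cent c (fun e he => hcc e (Subgroup.le_normalizer he))
  by_contra hcH
  have hlt : E ⊓ gam G (n - 3) < (E ⊓ gam G (n - 3)) ⊔ Subgroup.zpowers c := by
    refine lt_of_le_of_ne le_sup_left ?_
    intro heq
    apply hcH
    have : c ∈ (E ⊓ gam G (n - 3)) ⊔ Subgroup.zpowers c :=
      (le_sup_right : Subgroup.zpowers c ≤ _) (Subgroup.mem_zpowers c)
    rwa [← heq] at this
  have hKE : (E ⊓ gam G (n - 3)) ⊔ Subgroup.zpowers c ≤ E :=
    sup_le inf_le_left (by rw [Subgroup.zpowers_le]; exact hcE)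
  have hK : (E ⊓ gam G (n - 3)) ⊔ Subgroup.zpowers c = E :=
    eq_of_lt_of_card (p := p) (m := 2) h.card (mc5_base_card_H h) hlt hKE
  have hNE : Subgroup.normalizer (E : Set G) ≤ E := by
    intro y hy
    apply h.cent
    intro e he
    have hle : (E ⊓ gam G (n - 3)) ⊔ Subgroup.zpowers c ≤ Subgroup.centralizer ({y} : Set G) := by
      apply sup_le
      · intro x hx
        rw [Subgroup.mem_centralizer_iff]
        rintro _ rfl
        exact (mc5_base_H_central h hx hy).symm.eq
      · rw [Subgroup.zpowers_le, Subgroup.mem_centralizer_iff]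
        rintro _ rfl
        exact (hcc _ hy).symm.eq
    rw [← hK] at he
    exact (Subgroup.mem_centralizer_iff.mp (hle he)) y rfl
  have h1 := Subgroup.card_le_of_le hNE
  rw [h.norm, h.card] at h1
  exact absurd (h.pow_lt (show 3 < 4 by norm_num)) (not_lt.mpr h1)

/-- `A₁ = [N, E] ≤ H` -/
theorem mc5_base_comm_mem (h : Cfg p n G E) {y e : G} (hy : y ∈ Subgroup.normalizer (E : Set G))
    (he : e ∈ E) : ⁅y, e⁆ ∈ E ⊓ gam G (n - 3) := by
  constructor
  · have h1 : y * e * y⁻¹ ∈ E := (Subgroup.mem_normalizer_iff.mp hy e).mp he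
    rw [commutatorElement_def]
    exact E.mul_mem h1 (E.inv_mem he)
  · rw [← mc5_base_sup h] at hy
    have hy' : y ∈ ((E ⊔ gam G (n - 3) : Subgroup G) : Set G) := hy
    rw [Subgroup.mul_normal] at hy'
    obtain ⟨a, ha, z, hz, rfl⟩ := Set.mem_mul.mp hy'
    have hae : ⁅a, e⁆ = 1 := by
      rw [commutatorElement_eq_one_iff_commute]
      exact h.comm a ha e he
    have hexp : ⁅a * z, e⁆ = a * ⁅z, e⁆ * a⁻¹ * ⁅a, e⁆ := by
      simp only [commutatorElement_def]
      group
    rw [hexp, hae, mul_one]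
    have hze : ⁅z, e⁆ ∈ gam G (n - 3) := by
      rw [commutatorElement_def]
      have : z * e * z⁻¹ * e⁻¹ = z * (e * z⁻¹ * e⁻¹) := by group
      rw [this]
      exact (gam G (n - 3)).mul_mem hz
        ((gam_normal (n - 3)).conj_mem _ ((gam G (n - 3)).inv_mem hz) e)
    exact (gam_normal (n - 3)).conj_mem _ hze a

/-- Fact 1 -/
theorem mc5_base_fact1 (h : Cfg p n G E) {v u : G} (hv : v ∈ E) (hv' : v ∉ gam G (n - 3))
    (hu : Commute u v) : u ∈ E := by
  by_contra huE
  have hECv : E ≤ Subgroup.centralizer ({v} : Set G) := by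
    intro e he
    rw [Subgroup.mem_centralizer_iff]
    rintro _ rfl
    exact h.comm _ hv e he
  have huCv : u ∈ Subgroup.centralizer ({v} : Set G) := by
    rw [Subgroup.mem_centralizer_iff]
    rintro _ rfl
    exact hu.symm.eq
  have hlt : E < Subgroup.centralizer ({v} : Set G) :=
    lt_of_le_of_ne hECv (fun heq => huE (by rw [heq]; exact huCv))
  obtain ⟨x, hxCv, hxE, hxN⟩ := mc5_exists_normalizer h.mc.isPGroup hlt
  have hlt2 : E < E ⊔ Subgroup.zpowers x := by
    refine lt_of_le_of_ne le_sup_left ?_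
    intro heq
    apply hxE
    have : x ∈ E ⊔ Subgroup.zpowers x :=
      (le_sup_right : Subgroup.zpowers x ≤ _) (Subgroup.mem_zpowers x)
    rwa [← heq] at this
  have hK : E ⊔ Subgroup.zpowers x = Subgroup.normalizer (E : Set G) :=
    eq_of_lt_of_card (p := p) (m := 3) h.norm h.card hlt2
      (sup_le Subgroup.le_normalizer (by rw [Subgroup.zpowers_le]; exact hxN))
  have hvc : ∀ y ∈ Subgroup.normalizer (E : Set G), Commute v y := by
    intro y hy
    rw [← hK] at hy
    have hle : E ⊔ Subgroup.zpowers x ≤ Subgroup.centralizer ({v} : Set G) :=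
      sup_le hECv (by rw [Subgroup.zpowers_le]; exact hxCv)
    exact (Subgroup.mem_centralizer_iff.mp (hle hy)) v rfl
  exact hv' (mc5_base_center_le h (Subgroup.le_normalizer hv) hvc).2

end Cfsg.Agent.MC5
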