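import Mathlib
import Cfsg.Agent.MC5.BaseA

set_option autoImplicit false

/-!
# S5316 (project MC5): the pure base, part B: `N_G(N)` and the maximal subgroups of `N` over `H`
-/

namespace Cfsg.Agent.MC5

open scoped commutatorElement
open Cfsg.Agent.Helper4.MC

section gen

variable {Q : Type*} [Group Q]

/-- a `p`-element `g` with `g x g⁻¹ ∈ ⟨x⟩`, `x ^ p = 1`, centralizes `x` -/
theorem mc5_conj_eq_self (p : ℕ) [Fact p.Prime] {x g : Q} (hx : x ^ p = 1) {k : ℕ}
    (hg : g ^ p ^ k = 1) {j : ℕ} (hj : g * x * g⁻¹ = x ^ j) : g * x * g⁻¹ = x := by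
  by_cases hx1 : x = 1
  · rw [hx1]
    simp
  have hord : orderOf x = p := by
    have hdvd : orderOf x ∣ p := orderOf_dvd_of_pow_eq_one hx
    rcases (Nat.dvd_prime (Fact.out : p.Prime)).mp hdvd with h | h
    · exact absurd (orderOf_eq_one_iff.mp h) hx1
    · exact h
  have hiter : ∀ i : ℕ, g ^ i * x * (g ^ i)⁻¹ = x ^ (j ^ i) := by
    intro i
    induction i with
    | zero => simp
    | succ i ih =>
      have e1 : g ^ (i + 1) * x * (g ^ (i + 1))⁻¹ = g * (g ^ i * x * (g ^ i)⁻¹) * g⁻¹ := by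
        rw [pow_succ']
        group
      rw [e1, ih, ← conj_pow, hj, ← pow_mul, pow_succ']
  have h1 : x ^ (j ^ p ^ k) = x ^ 1 := by
    rw [← hiter, hg]
    simp
  rw [pow_eq_pow_iff_modEq, hord] at h1
  have h2 : ((j ^ p ^ k : ℕ) : ZMod p) = ((1 : ℕ) : ZMod p) :=
    (ZMod.natCast_eq_natCast_iff _ _ _).mpr h1
  rw [Nat.cast_pow, ZMod.pow_card_pow] at h2
  have h3 : j ≡ 1 [MOD p] := (ZMod.natCast_eq_natCast_iff _ _ _).mp h2
  rw [hj]
  have h4 : x ^ j = x ^ 1 := by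
    rw [pow_eq_pow_iff_modEq, hord]
    exact h3
  rw [h4, pow_one]

end gen

universe u
variable {G : Type u} [Group G] [Finite G] {p n : ℕ} [Fact p.Prime] {E : Subgroup G}

/-- for `e₀ ∈ E ∖ Z₃`: `E = H ⊔ ⟨e₀⟩` -/
theorem Cfg.E_eq (h : Cfg p n G E) {e0 : G} (he : e0 ∈ E) (he' : e0 ∉ gam G (n - 3)) :
    (E ⊓ gam G (n - 3)) ⊔ Subgroup.zpowers e0 = E := by
  refine eq_of_lt_of_card (p := p) (m := 2) h.card (mc5_base_card_H h) ?_
    (sup_le inf_le_left (by rw [Subgroup.zpowers_le]; exact he))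
  refine lt_of_le_of_ne le_sup_left ?_
  intro heq
  apply he'
  have : e0 ∈ (E ⊓ gam G (n - 3)) ⊔ Subgroup.zpowers e0 :=
    (le_sup_right : Subgroup.zpowers e0 ≤ _) (Subgroup.mem_zpowers e0)
  rw [← heq] at this
  exact this.2

theorem Cfg.exists_e0 (h : Cfg p n G E) : ∃ e0 ∈ E, e0 ∉ gam G (n - 3) := by
  by_contra hno
  push Not at hno
  have hle : E ≤ E ⊓ gam G (n - 3) := fun e he => ⟨he, hno e he⟩
  have h1 := Subgroup.card_le_of_le hle
  rw [h.card, mc5_base_card_H h] at h1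
  exact absurd (h.pow_lt (show 2 < 3 by norm_num)) (not_lt.mpr h1)

/-- `N_G(N)` normalizes `H = Z(N)` -/
theorem Cfg.conj_H (h : Cfg p n G E) {g c : G}
    (hg : g ∈ Subgroup.normalizer ((Subgroup.normalizer (E : Set G) : Subgroup G) : Set G))
    (hc : c ∈ E ⊓ gam G (n - 3)) : g * c * g⁻¹ ∈ E ⊓ gam G (n - 3) := by
  have hcN : c ∈ Subgroup.normalizer (E : Set G) := Subgroup.le_normalizer hc.1
  have h1 : g * c * g⁻¹ ∈ Subgroup.normalizer (E : Set G) :=
    (Subgroup.mem_normalizer_iff.mp hg c).mp hcN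
  apply mc5_base_center_le h h1
  intro y hy
  have hy' : g⁻¹ * y * g ∈ Subgroup.normalizer (E : Set G) :=
    (Subgroup.mem_normalizer_iff''.mp hg y).mp hy
  have hcomm := mc5_base_H_central h hc hy'
  show g * c * g⁻¹ * y = y * (g * c * g⁻¹)
  have e1 : g * c * g⁻¹ * y = g * (c * (g⁻¹ * y * g)) * g⁻¹ := by group
  have e2 : y * (g * c * g⁻¹) = g * ((g⁻¹ * y * g) * c) * g⁻¹ := by group
  rw [e1, e2, hcomm.eq]

/-- `[N_G(N), e₀] ≤ Z₃` -/
theorem Cfg.comm_mem_Z3 (h : Cfg p n G E) {g e0 : G}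
    (hg : g ∈ Subgroup.normalizer ((Subgroup.normalizer (E : Set G) : Subgroup G) : Set G))
    (he : e0 ∈ E) (he' : e0 ∉ gam G (n - 3)) : ⁅g, e0⁆ ∈ gam G (n - 3) := by
  have h1 : g * e0 * g⁻¹ ∈ Subgroup.normalizer (E : Set G) :=
    (Subgroup.mem_normalizer_iff.mp hg e0).mp (Subgroup.le_normalizer he)
  rw [← mc5_base_sup h] at h1
  have h1' : g * e0 * g⁻¹ ∈ ((E ⊔ gam G (n - 3) : Subgroup G) : Set G) := h1
  rw [Subgroup.mul_normal] at h1'
  obtain ⟨a, ha, z, hz, haz⟩ := Set.mem_mul.mp h1'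
  have hmapE : E.map (QuotientGroup.mk' (gam G (n - 3))) =
      Subgroup.zpowers (QuotientGroup.mk' (gam G (n - 3)) e0) := by
    have hbot : (E ⊓ gam G (n - 3)).map (QuotientGroup.mk' (gam G (n - 3))) = ⊥ := by
      rw [Subgroup.map_eq_bot_iff, QuotientGroup.ker_mk']
      exact inf_le_right
    conv_lhs => rw [← h.E_eq he he']
    rw [Subgroup.map_sup, MonoidHom.map_zpowers, hbot, bot_sup_eq]
  have hπa : QuotientGroup.mk' (gam G (n - 3)) a ∈
      Subgroup.zpowers (QuotientGroup.mk' (gam G (n - 3)) e0) := by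
    rw [← hmapE]
    exact Subgroup.mem_map_of_mem _ ha
  rw [← mem_powers_iff_mem_zpowers] at hπa
  obtain ⟨j, hj0⟩ := hπa
  have hj : (QuotientGroup.mk' (gam G (n - 3)) e0) ^ j = QuotientGroup.mk' (gam G (n - 3)) a := hj0
  have hπz : QuotientGroup.mk' (gam G (n - 3)) z = 1 := (QuotientGroup.eq_one_iff z).mpr hz
  have hconj : QuotientGroup.mk' (gam G (n - 3)) g * QuotientGroup.mk' (gam G (n - 3)) e0 *
      (QuotientGroup.mk' (gam G (n - 3)) g)⁻¹ = (QuotientGroup.mk' (gam G (n - 3)) e0) ^ j := by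
    rw [hj, ← map_inv, ← map_mul, ← map_mul, ← haz, map_mul, hπz, mul_one]
  obtain ⟨k, hk⟩ := h.mc.isPGroup g
  have hx : (QuotientGroup.mk' (gam G (n - 3)) e0) ^ p = 1 := by
    rw [← map_pow, h.exp e0 he, map_one]
  have hgk : (QuotientGroup.mk' (gam G (n - 3)) g) ^ p ^ k = 1 := by
    rw [← map_pow, hk, map_one]
  have hfix := mc5_conj_eq_self p hx hgk hconj
  have hone : QuotientGroup.mk' (gam G (n - 3)) ⁅g, e0⁆ = 1 := by
    rw [commutatorElement_def, map_mul, map_mul, map_mul, map_inv, map_inv, hfix, mul_inv_cancel]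
  exact (QuotientGroup.eq_one_iff _).mp hone

/-- an element of `N_G(N)` with `[g, e₀] ∈ H` lies in `N` -/
theorem Cfg.mem_N_of_comm (h : Cfg p n G E) {g e0 : G}
    (hg : g ∈ Subgroup.normalizer ((Subgroup.normalizer (E : Set G) : Subgroup G) : Set G))
    (he : e0 ∈ E) (he' : e0 ∉ gam G (n - 3)) (hc : ⁅g, e0⁆ ∈ E ⊓ gam G (n - 3)) :
    g ∈ Subgroup.normalizer (E : Set G) := by
  apply mc5_mem_normalizer
  intro e hee
  have hle : (E ⊓ gam G (n - 3)) ⊔ Subgroup.zpowers e0 ≤ E.comap (MulAut.conj g).toMonoidHom := by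
    apply sup_le
    · intro c hc'
      rw [Subgroup.mem_comap]
      exact (h.conj_H hg hc').1
    · rw [Subgroup.zpowers_le, Subgroup.mem_comap]
      change g * e0 * g⁻¹ ∈ E
      rw [mc5_conj_eq_comm_mul]
      exact E.mul_mem hc.1 he
  rw [h.E_eq he he'] at hle
  exact hle hee

theorem Cfg.mem_N_of_coset (h : Cfg p n G E) {g1 g2 e0 : G}
    (hg1 : g1 ∈ Subgroup.normalizer ((Subgroup.normalizer (E : Set G) : Subgroup G) : Set G))
    (hg2 : g2 ∈ Subgroup.normalizer ((Subgroup.normalizer (E : Set G) : Subgroup G) : Set G))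
    (he : e0 ∈ E) (he' : e0 ∉ gam G (n - 3))
    (hc : ⁅g1, e0⁆⁻¹ * ⁅g2, e0⁆ ∈ E ⊓ gam G (n - 3)) :
    g1⁻¹ * g2 ∈ Subgroup.normalizer (E : Set G) := by
  have hM : g1⁻¹ * g2 ∈
      Subgroup.normalizer ((Subgroup.normalizer (E : Set G) : Subgroup G) : Set G) :=
    Subgroup.mul_mem _ (Subgroup.inv_mem _ hg1) hg2
  apply h.mem_N_of_comm hM he he'
  have hz1 := h.comm_mem_Z3 hg1 he he'
  have hz2 := h.comm_mem_Z3 hg2 he he'
  have key : ⁅g1⁻¹ * g2, e0⁆ = g1⁻¹ * (⁅g2, e0⁆ * ⁅g1, e0⁆⁻¹) * g1⁻¹⁻¹ := by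
    simp only [commutatorElement_def]
    group
  rw [key]
  apply h.conj_H (Subgroup.inv_mem _ hg1)
  have e1 : ⁅g2, e0⁆ * ⁅g1, e0⁆⁻¹ = ⁅g1, e0⁆⁻¹ * ⁅g2, e0⁆ :=
    (h.Z3_comm hz2 (Subgroup.inv_mem _ hz1)).eq
  rw [e1]
  exact hc

/-- the coset map `N_G(N) / N → Z₃ / H`, `g ↦ [g, e₀] H` -/
noncomputable def Cfg.phi (h : Cfg p n G E) {e0 : G} (he : e0 ∈ E) (he' : e0 ∉ gam G (n - 3)) :
    (↥(Subgroup.normalizer ((Subgroup.normalizer (E : Set G) : Subgroup G) : Set G)) ⧸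
      (Subgroup.normalizer (E : Set G)).subgroupOf
        (Subgroup.normalizer ((Subgroup.normalizer (E : Set G) : Subgroup G) : Set G))) →
    (↥(gam G (n - 3)) ⧸ (E ⊓ gam G (n - 3)).subgroupOf (gam G (n - 3))) :=
  fun q => QuotientGroup.mk ⟨⁅(q.out : G), e0⁆, h.comm_mem_Z3 q.out.2 he he'⟩

theorem Cfg.phi_injective (h : Cfg p n G E) {e0 : G} (he : e0 ∈ E) (he' : e0 ∉ gam G (n - 3)) :
    Function.Injective (h.phi he he') := by
  intro q1 q2 heq
  unfold Cfg.phi at heq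
  rw [QuotientGroup.eq, Subgroup.mem_subgroupOf] at heq
  have h1 := h.mem_N_of_coset q1.out.2 q2.out.2 he he' heq
  have h2 : (QuotientGroup.mk q1.out : _ ⧸ (Subgroup.normalizer (E : Set G)).subgroupOf
      (Subgroup.normalizer ((Subgroup.normalizer (E : Set G) : Subgroup G) : Set G))) =
      QuotientGroup.mk q2.out := by
    rw [QuotientGroup.eq, Subgroup.mem_subgroupOf]
    exact h1
  rwa [QuotientGroup.out_eq', QuotientGroup.out_eq'] at h2

theorem Cfg.relIndex_H (h : Cfg p n G E) : (E ⊓ gam G (n - 3)).relIndex (gam G (n - 3)) = p := by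
  have hpp := (Fact.out : p.Prime)
  have h1 := mc5_card_mul_relIndex (inf_le_right : E ⊓ gam G (n - 3) ≤ gam G (n - 3))
  rw [mc5_base_card_H h, h.card_Z3] at h1
  have : p ^ 2 * (E ⊓ gam G (n - 3)).relIndex (gam G (n - 3)) = p ^ 2 * p := by rw [h1]; ring
  exact Nat.eq_of_mul_eq_mul_left (pow_pos hpp.pos 2) this

theorem Cfg.relIndex_N_le (h : Cfg p n G E) :
    (Subgroup.normalizer (E : Set G)).relIndex
      (Subgroup.normalizer ((Subgroup.normalizer (E : Set G) : Subgroup G) : Set G)) ≤ p := by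
  obtain ⟨e0, he, he'⟩ := h.exists_e0
  have h1 := Nat.card_le_card_of_injective _ (h.phi_injective he he')
  have h2 : Nat.card (↥(gam G (n - 3)) ⧸ (E ⊓ gam G (n - 3)).subgroupOf (gam G (n - 3))) = p :=
    h.relIndex_H
  rw [h2] at h1
  exact h1

theorem mc5_base_card_NN (h : Cfg p n G E) :
    Nat.card (Subgroup.normalizer ((Subgroup.normalizer (E : Set G) : Subgroup G) : Set G)) =
      p ^ 5 := by
  have hpp := (Fact.out : p.Prime)
  have hn := h.hn
  have hA := h.relIndex_N_le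
  have hmul := mc5_card_mul_relIndex (Subgroup.le_normalizer :
    Subgroup.normalizer (E : Set G) ≤
      Subgroup.normalizer ((Subgroup.normalizer (E : Set G) : Subgroup G) : Set G))
  have hNtop : Subgroup.normalizer (E : Set G) < ⊤ := by
    rw [lt_top_iff_ne_top]
    intro htop
    have h1 := h.norm
    rw [htop, Subgroup.card_top, h.mc.card] at h1
    have := Nat.pow_right_injective hpp.two_le h1
    omega
  obtain ⟨x, -, hxN, hxM⟩ := mc5_exists_normalizer h.mc.isPGroup hNtop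
  have hne1 : (Subgroup.normalizer (E : Set G)).relIndex
      (Subgroup.normalizer ((Subgroup.normalizer (E : Set G) : Subgroup G) : Set G)) ≠ 1 := by
    rw [Ne, Subgroup.relIndex_eq_one]
    intro hle
    exact hxN (hle hxM)
  have hdvd := Subgroup.relIndex_dvd_card (Subgroup.normalizer (E : Set G))
    (Subgroup.normalizer ((Subgroup.normalizer (E : Set G) : Subgroup G) : Set G))
  obtain ⟨m, hm⟩ := IsPGroup.iff_card.mp (h.mc.isPGroup.to_subgroup
    (Subgroup.normalizer ((Subgroup.normalizer (E : Set G) : Subgroup G) : Set G)))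
  rw [hm] at hdvd
  obtain ⟨k, -, hk'⟩ := (Nat.dvd_prime_pow hpp).mp hdvd
  have hk1 : k = 1 := by
    rcases k with _ | _ | k
    · rw [pow_zero] at hk'
      exact absurd hk' hne1
    · rfl
    · exfalso
      rw [hk'] at hA
      have h3 := Nat.pow_lt_pow_right hpp.one_lt (show 1 < k + 1 + 1 by omega)
      rw [pow_one] at h3
      omega
  rw [← hmul, h.norm, hk', hk1, pow_one]
  ring

theorem Cfg.relIndex_N (h : Cfg p n G E) :
    (Subgroup.normalizer (E : Set G)).relIndex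
      (Subgroup.normalizer ((Subgroup.normalizer (E : Set G) : Subgroup G) : Set G)) = p := by
  have hpp := (Fact.out : p.Prime)
  have hmul := mc5_card_mul_relIndex (Subgroup.le_normalizer :
    Subgroup.normalizer (E : Set G) ≤
      Subgroup.normalizer ((Subgroup.normalizer (E : Set G) : Subgroup G) : Set G))
  rw [h.norm, mc5_base_card_NN h] at hmul
  have : p ^ 4 * (Subgroup.normalizer (E : Set G)).relIndex
      (Subgroup.normalizer ((Subgroup.normalizer (E : Set G) : Subgroup G) : Set G)) = p ^ 4 * p := by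
    rw [hmul]; ring
  exact Nat.eq_of_mul_eq_mul_left (pow_pos hpp.pos 4) this

/-- every coset of `H` in `Z₃` is hit by `g ↦ [g, e₀]` -/
theorem Cfg.surj (h : Cfg p n G E) {e0 : G} (he : e0 ∈ E) (he' : e0 ∉ gam G (n - 3)) {z : G}
    (hz : z ∈ gam G (n - 3)) :
    ∃ g ∈ Subgroup.normalizer ((Subgroup.normalizer (E : Set G) : Subgroup G) : Set G),
      ⁅g, e0⁆⁻¹ * z ∈ E ⊓ gam G (n - 3) := by
  have hbij : Function.Bijective (h.phi he he') := by
    apply (h.phi_injective he he').bijective_of_nat_card_le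
    have h2 : Nat.card (↥(gam G (n - 3)) ⧸ (E ⊓ gam G (n - 3)).subgroupOf (gam G (n - 3))) = p :=
      h.relIndex_H
    have h3 : Nat.card
      (↥(Subgroup.normalizer ((Subgroup.normalizer (E : Set G) : Subgroup G) : Set G)) ⧸
      (Subgroup.normalizer (E : Set G)).subgroupOf
        (Subgroup.normalizer ((Subgroup.normalizer (E : Set G) : Subgroup G) : Set G))) = p :=
      h.relIndex_N
    rw [h2, h3]
  obtain ⟨q, hq⟩ := hbij.2 (QuotientGroup.mk ⟨z, hz⟩)
  refine ⟨q.out.1, q.out.2, ?_⟩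
  unfold Cfg.phi at hq
  rw [QuotientGroup.eq, Subgroup.mem_subgroupOf] at hq
  exact hq

/-- the maximal subgroups of `N` over `H` other than `Z₃` are `N_G(N)`-conjugates of `E` -/
theorem mc5_base_max (h : Cfg p n G E) (B : Subgroup G) (hHB : E ⊓ gam G (n - 3) ≤ B)
    (hBN : B ≤ Subgroup.normalizer (E : Set G)) (hB : Nat.card B = p ^ 3) (hBZ : B ≠ gam G (n - 3)) :
    ∃ g ∈ Subgroup.normalizer ((Subgroup.normalizer (E : Set G) : Subgroup G) : Set G),
      ∀ b : G, b ∈ B ↔ g⁻¹ * b * g ∈ E := by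
  obtain ⟨b0, hb0B, hb0Z⟩ : ∃ b0 ∈ B, b0 ∉ gam G (n - 3) := by
    by_contra hno
    push Not at hno
    exact hBZ (Subgroup.eq_of_le_of_card_ge (fun b hb => hno b hb) (by rw [hB, h.card_Z3]))
  have hb0N := hBN hb0B
  rw [← mc5_base_sup h] at hb0N
  have hb0' : b0 ∈ ((E ⊔ gam G (n - 3) : Subgroup G) : Set G) := hb0N
  rw [Subgroup.mul_normal] at hb0'
  obtain ⟨a, ha, z, hz, haz⟩ := Set.mem_mul.mp hb0'
  have haZ : a ∉ gam G (n - 3) := fun haZ => hb0Z (haz ▸ Subgroup.mul_mem _ haZ hz)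
  have hconjz : a * z * a⁻¹ ∈ gam G (n - 3) := (gam_normal (n - 3)).conj_mem z hz a
  obtain ⟨g, hgM, hgc⟩ := h.surj ha haZ hconjz
  refine ⟨g, hgM, ?_⟩
  have hh0c : Commute (⁅g, a⁆⁻¹ * (a * z * a⁻¹)) a :=
    mc5_base_H_central h hgc (Subgroup.le_normalizer ha)
  have hga : g * a * g⁻¹ = b0 * (⁅g, a⁆⁻¹ * (a * z * a⁻¹))⁻¹ := by
    have e1 : ⁅g, a⁆ = a * z * a⁻¹ * (⁅g, a⁆⁻¹ * (a * z * a⁻¹))⁻¹ := by group
    have e2 : (⁅g, a⁆⁻¹ * (a * z * a⁻¹))⁻¹ * a = a * (⁅g, a⁆⁻¹ * (a * z * a⁻¹))⁻¹ :=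
      hh0c.inv_left.eq
    rw [mc5_conj_eq_comm_mul]
    conv_lhs => rw [e1]
    rw [mul_assoc, e2, ← haz]
    group
  have hgaB : g * a * g⁻¹ ∈ B := by
    rw [hga]
    exact B.mul_mem hb0B (B.inv_mem (hHB hgc))
  have hle : E ≤ B.comap (MulAut.conj g).toMonoidHom := by
    rw [← h.E_eq ha haZ]
    apply sup_le
    · intro c hc
      rw [Subgroup.mem_comap]
      exact hHB (h.conj_H hgM hc)
    · rw [Subgroup.zpowers_le, Subgroup.mem_comap]
      exact hgaB
  have hmap : E.map (MulAut.conj g).toMonoidHom = B := by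
    apply Subgroup.eq_of_le_of_card_ge (Subgroup.map_le_iff_le_comap.mpr hle)
    rw [Subgroup.card_map_of_injective (MulAut.conj g).injective, h.card, hB]
  intro b
  constructor
  · intro hb
    rw [← hmap] at hb
    obtain ⟨e, he, rfl⟩ := hb
    have : g⁻¹ * ((MulAut.conj g).toMonoidHom e) * g = e := by
      change g⁻¹ * (g * e * g⁻¹) * g = e
      group
    rw [this]
    exact he
  · intro hb
    have h1 := hle hb
    rw [Subgroup.mem_comap] at h1
    have h2 : (MulAut.conj g).toMonoidHom (g⁻¹ * b * g) = b := by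
      change g * (g⁻¹ * b * g) * g⁻¹ = b
      group
    rwa [h2] at h1

end Cfsg.Agent.MC5
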