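import Mathlib
import Cfsg.Agent.MC5.BaseA
import Cfsg.Agent.MC5.BaseB

set_option autoImplicit false

/-!
# S5316 (project MC5): the pure base, final part: the three cases, `N_G(N)` for `n = 6`, `N g₃`, `N'`

(`Cfg` and `mc5_base_Z3_le … mc5_base_fact1` are in `BaseA`, `mc5_base_card_NN`, `mc5_base_max` in `BaseB`.)
-/

namespace Cfsg.Agent.MC5

open scoped commutatorElement
open Cfsg.Agent.Helper4.MC

universe u
variable {G : Type u} [Group G] [Finite G] {p n : ℕ} [Fact p.Prime] {E : Subgroup G}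

/-- commutators `[N, E]` lie in a normal subgroup `K` as soon as the `[Z₃, E]` do -/
theorem Cfg.comm_mem_of (h : Cfg p n G E) (K : Subgroup G) [K.Normal]
    (hK : ∀ z ∈ gam G (n - 3), ∀ e ∈ E, ⁅z, e⁆ ∈ K) {y e : G}
    (hy : y ∈ Subgroup.normalizer (E : Set G)) (he : e ∈ E) : ⁅y, e⁆ ∈ K := by
  rw [← mc5_base_sup h] at hy
  have hy' : y ∈ ((E ⊔ gam G (n - 3) : Subgroup G) : Set G) := hy
  rw [Subgroup.mul_normal] at hy'
  obtain ⟨a, ha, z, hz, rfl⟩ := Set.mem_mul.mp hy'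
  have hae : ⁅a, e⁆ = 1 := by
    rw [commutatorElement_eq_one_iff_commute]
    exact h.comm a ha e he
  have hexp : ⁅a * z, e⁆ = a * ⁅z, e⁆ * a⁻¹ * ⁅a, e⁆ := by
    simp only [commutatorElement_def]
    group
  rw [hexp, hae, mul_one]
  exact Subgroup.Normal.conj_mem inferInstance _ (hK z hz e he) a

/-- `E ≤ g₁`: `[Z₃, E] ≤ Z₁` -/
theorem Cfg.comm_Z3_E_of_lev (h : Cfg p n G E) (h1 : E ≤ twoStep G 2) {z e : G}
    (hz : z ∈ gam G (n - 3)) (he : e ∈ E) : ⁅z, e⁆ ∈ gam G (n - 1) := by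
  have hn := h.hn
  have hle := Cfsg.Agent.Helper8.MC.lev_comm_gam_le' h.mc (by omega : 4 ≤ n) (i := 1) (j := n - 3)
    le_rfl (by omega) (by omega)
  have h3 : ⁅e, z⁆ ∈ gam G (1 + (n - 3) + 1) :=
    hle (Subgroup.commutator_mem_commutator (by rw [lev_one]; exact h1 he) hz)
  have e1 : 1 + (n - 3) + 1 = n - 1 := by omega
  rw [e1] at h3
  rw [← commutatorElement_inv e z]
  exact (gam G (n - 1)).inv_mem h3

/-- `n ≥ 6`: `E` does not lie in `g₁ ∩ C` -/
theorem Cfg.not_both (h : Cfg p n G E) (hn6 : 6 ≤ n) :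
    ¬ (E ≤ twoStep G 2 ∧ E ≤ twoStep G (n - 2)) := by
  rintro ⟨h1, h2⟩
  have hpp := (Fact.out : p.Prime)
  have hZ2 := h.Z2_le h2
  have hZ4 : gam G (n - 4) ≤ Subgroup.normalizer (E : Set G) := by
    apply mc5_le_normalizer
    intro z hz e he
    rw [mc5_conj_eq_comm_mul]
    refine E.mul_mem ?_ he
    apply hZ2
    have hle := Cfsg.Agent.Helper8.MC.lev_comm_gam_le' h.mc (by omega : 4 ≤ n) (i := 1) (j := n - 4)
      le_rfl (by omega) (by omega)
    have h3 : ⁅e, z⁆ ∈ gam G (1 + (n - 4) + 1) :=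
      hle (Subgroup.commutator_mem_commutator (by rw [lev_one]; exact h1 he) hz)
    have e1 : 1 + (n - 4) + 1 = n - 2 := by omega
    rw [e1] at h3
    rw [← commutatorElement_inv e z]
    exact (gam G (n - 2)).inv_mem h3
  have hcard4 : Nat.card (gam G (n - 4)) = p ^ 4 := by
    have := h.mc.card_gam (i := n - 4) (by omega) (by omega)
    rwa [show n - (n - 4) = 4 by omega] at this
  have hEq : gam G (n - 4) = Subgroup.normalizer (E : Set G) :=
    Subgroup.eq_of_le_of_card_ge hZ4 (by rw [h.norm, hcard4])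
  have hNN : Subgroup.normalizer ((Subgroup.normalizer (E : Set G) : Subgroup G) : Set G) = ⊤ := by
    rw [← hEq]
    exact Subgroup.normalizer_eq_top_iff.mpr inferInstance
  have h5 := mc5_base_card_NN h
  rw [hNN, Subgroup.card_top, h.mc.card] at h5
  have := Nat.pow_right_injective hpp.two_le h5
  omega

/-- case (III): elements of `E ∖ Z₃` lie outside `g₂` -/
theorem Cfg.notin_gam_two (h : Cfg p n G E) (hn6 : 6 ≤ n) (h1 : E ≤ twoStep G 2) {v : G}
    (hv : v ∈ E) (hv' : v ∉ gam G (n - 3)) : v ∉ gam G 2 := by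
  intro hv2
  apply h.not_both hn6
  refine ⟨h1, ?_⟩
  rw [← h.E_eq hv hv']
  apply sup_le
  · exact inf_le_right.trans ((gam_anti (by omega : 2 ≤ n - 3)).trans
      (gam_two_le_twoStep (by omega : 2 ≤ n - 2)))
  · rw [Subgroup.zpowers_le]
    exact gam_two_le_twoStep (by omega : 2 ≤ n - 2) hv2

/-- case (II): `H = Z₂` -/
theorem Cfg.H_eq_of_C (h : Cfg p n G E) (h2 : E ≤ twoStep G (n - 2)) :
    E ⊓ gam G (n - 3) = gam G (n - 2) := by
  have hn := h.hn
  symm
  apply Subgroup.eq_of_le_of_card_ge (le_inf (h.Z2_le h2) (gam_anti (by omega)))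
  rw [mc5_base_card_H h, h.mc.card_gam (i := n - 2) (by omega) (by omega)]
  rw [show n - (n - 2) = 2 by omega]

/-- case (II): elements of `E ∖ Z₂` lie outside `g₁` -/
theorem Cfg.notin_twoStep (h : Cfg p n G E) (hn6 : 6 ≤ n) (h2 : E ≤ twoStep G (n - 2)) {v : G}
    (hv : v ∈ E) (hv' : v ∉ gam G (n - 2)) : v ∉ twoStep G 2 := by
  intro hv2
  have hv3 : v ∉ gam G (n - 3) := by
    intro hv3
    apply hv'
    rw [← h.H_eq_of_C h2]
    exact ⟨hv, hv3⟩
  apply h.not_both hn6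
  refine ⟨?_, h2⟩
  rw [← h.E_eq hv hv3]
  apply sup_le
  · exact inf_le_right.trans ((gam_anti (by omega : 2 ≤ n - 3)).trans
      (gam_two_le_twoStep le_rfl))
  · rw [Subgroup.zpowers_le]
    exact hv2

/-- the three cases -/
theorem mc5_base_cases (h : Cfg p n G E) :
    (n = 5 ∧ Subgroup.normalizer (E : Set G) = lev G 1 ∧ E ⊓ gam G 2 = gam G 3 ∧
      ∀ y ∈ Subgroup.normalizer (E : Set G), ∀ e ∈ E, ⁅y, e⁆ ∈ gam G 4) ∨
    (6 ≤ n ∧ twoStep G (n - 2) ≠ twoStep G 2 ∧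
      ((E ≤ twoStep G (n - 2) ∧ E ⊓ gam G (n - 3) = gam G (n - 2) ∧
          ∀ v ∈ E, v ∉ gam G (n - 2) → v ∉ twoStep G 2) ∨
       (E ≤ lev G 1 ∧ (∀ v ∈ E, v ∉ gam G (n - 3) → v ∉ gam G 2) ∧ gam G (n - 1) ≤ E ∧
          ∀ y ∈ Subgroup.normalizer (E : Set G), ∀ e ∈ E, ⁅y, e⁆ ∈ gam G (n - 1)))) := by
  have hn := h.hn
  have hpp := (Fact.out : p.Prime)
  rcases Nat.lt_or_ge n 6 with h5 | h6
  · left
    have hn5 : n = 5 := by omega
    have e3 : n - 3 = 2 := by omega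
    have e2 : n - 2 = 3 := by omega
    have e1 : n - 1 = 4 := by omega
    have hodd : twoStep G (n - 2) = twoStep G 2 :=
      Cfsg.Agent.Helper8.MC.twoStep_last_of_odd h.mc hn (by rw [hn5]; decide)
    have hE1 : E ≤ twoStep G 2 := by
      rcases h.le_or_le with h1 | h2
      · exact h1
      · rwa [hodd] at h2
    have hE2 : E ≤ twoStep G (n - 2) := by rwa [hodd]
    refine ⟨hn5, ?_, ?_, ?_⟩
    · apply Subgroup.eq_of_le_of_card_ge
      · rw [← mc5_base_sup h, lev_one, e3]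
        exact sup_le hE1 (gam_two_le_twoStep le_rfl)
      · rw [h.norm, h.mc.card_lev (by omega) (by omega), hn5]
    · have h3 := h.H_eq_of_C hE2
      rwa [e3, e2] at h3
    · intro y hy e he
      have := h.comm_mem_of (gam G (n - 1)) (fun z hz e he => h.comm_Z3_E_of_lev hE1 hz he) hy he
      rwa [e1] at this
  · right
    have hexc : twoStep G (n - 2) ≠ twoStep G 2 := by
      intro heq
      apply h.not_both h6
      rcases h.le_or_le with h1 | h2
      · exact ⟨h1, by rwa [heq]⟩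
      · exact ⟨by rwa [← heq], h2⟩
    refine ⟨h6, hexc, ?_⟩
    rcases h.le_or_le with h1 | h2
    · right
      refine ⟨by rw [lev_one]; exact h1, fun v hv hv' => h.notin_gam_two h6 h1 hv hv',
        h.center_le, fun y hy e he => ?_⟩
      exact h.comm_mem_of (gam G (n - 1)) (fun z hz e he => h.comm_Z3_E_of_lev h1 hz he) hy he
    · left
      exact ⟨h2, h.H_eq_of_C h2, fun v hv hv' => h.notin_twoStep h6 h2 hv hv'⟩

/-- `N ⊔ g₃ = ⟨v⟩ ⊔ g₃` -/
theorem mc5_base_R (h : Cfg p n G E) (hn : 6 ≤ n) {v : G} (hv : v ∈ E) (hv' : v ∉ gam G (n - 3)) :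
    Subgroup.normalizer (E : Set G) ⊔ gam G 3 = Subgroup.zpowers v ⊔ gam G 3 := by
  have hZ3 : gam G (n - 3) ≤ gam G 3 := gam_anti (by omega)
  apply le_antisymm
  · apply sup_le _ le_sup_right
    rw [← mc5_base_sup h]
    apply sup_le _ (hZ3.trans le_sup_right)
    rw [← h.E_eq hv hv']
    exact sup_le ((inf_le_right.trans hZ3).trans le_sup_right) le_sup_left
  · apply sup_le _ le_sup_right
    rw [Subgroup.zpowers_le]
    exact (le_sup_left : Subgroup.normalizer (E : Set G) ≤ _) (Subgroup.le_normalizer hv)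

end Cfsg.Agent.MC5
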