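import Mathlib
import Cfsg.Agent.MC5.BaseC

set_option autoImplicit false

/-!
# S5316 (project MC5): the pure base, part D: `N_G(N)` for `n = 6` and the derived subgroup `N'`
-/

namespace Cfsg.Agent.MC5

open scoped commutatorElement
open Cfsg.Agent.Helper4.MC

universe u
variable {G : Type u} [Group G] [Finite G] {p n : ℕ} [Fact p.Prime] {E : Subgroup G}

theorem Cfg.NN6_aux (h : Cfg p n G E) (hn6 : n = 6) :
    (E ≤ twoStep G 2 →
      Subgroup.normalizer ((Subgroup.normalizer (E : Set G) : Subgroup G) : Set G) = twoStep G 2) ∧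
    (E ≤ twoStep G (n - 2) →
      Subgroup.normalizer ((Subgroup.normalizer (E : Set G) : Subgroup G) : Set G) =
        twoStep G (n - 2)) := by
  have hpp := (Fact.out : p.Prime)
  have e3 : n - 3 = 3 := by omega
  obtain ⟨v, hv, hv'⟩ := h.exists_e0
  have hsup : E ⊔ gam G (n - 3) = Subgroup.normalizer (E : Set G) := mc5_base_sup h
  have hg2 : gam G 2 ≤
      Subgroup.normalizer ((Subgroup.normalizer (E : Set G) : Subgroup G) : Set G) := by
    apply mc5_le_normalizer
    intro y hy x hx
    rw [← hsup] at hx ⊢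
    have hx' : x ∈ ((E ⊔ gam G (n - 3) : Subgroup G) : Set G) := hx
    rw [Subgroup.mul_normal] at hx'
    obtain ⟨a, ha, z, hz, rfl⟩ := Set.mem_mul.mp hx'
    have e1 : y * (a * z) * y⁻¹ = ⁅y, a⁆ * a * (y * z * y⁻¹) := by
      rw [commutatorElement_def]
      group
    rw [e1]
    have h1 : ⁅y, a⁆ ∈ gam G (n - 3) := by
      rw [e3]
      exact comm_mem_gam_succ' (G := G) (i := 2) (by omega) a hy
    have h2 : y * z * y⁻¹ ∈ gam G (n - 3) := (gam_normal (n - 3)).conj_mem z hz y
    exact Subgroup.mul_mem _ (Subgroup.mul_mem _ (Subgroup.mem_sup_right h1)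
      (Subgroup.mem_sup_left ha)) (Subgroup.mem_sup_right h2)
  have hvNN : v ∈ Subgroup.normalizer ((Subgroup.normalizer (E : Set G) : Subgroup G) : Set G) :=
    Subgroup.le_normalizer (Subgroup.le_normalizer hv)
  have hcard2 : Nat.card (gam G 2) = p ^ 4 := by
    have := h.mc.card_gam (i := 2) le_rfl (by omega)
    rwa [show n - 2 = 4 by omega] at this
  have key : ∀ K : Subgroup G, Nat.card K = p ^ 5 → gam G 2 ≤ K → v ∈ K → v ∉ gam G 2 →
      Subgroup.normalizer ((Subgroup.normalizer (E : Set G) : Subgroup G) : Set G) = K := by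
    intro K hK hgK hvK hvg
    have hlt : gam G 2 < Subgroup.zpowers v ⊔ gam G 2 := by
      refine lt_of_le_of_ne le_sup_right ?_
      intro heq
      apply hvg
      rw [heq]
      exact Subgroup.mem_sup_left (Subgroup.mem_zpowers v)
    have hKeq : Subgroup.zpowers v ⊔ gam G 2 = K :=
      eq_of_lt_of_card (p := p) (m := 4) hK hcard2 hlt
        (sup_le (by rw [Subgroup.zpowers_le]; exact hvK) hgK)
    symm
    apply Subgroup.eq_of_le_of_card_ge
    · rw [← hKeq]
      exact sup_le (by rw [Subgroup.zpowers_le]; exact hvNN) hg2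
    · rw [mc5_base_card_NN h, hK]
  constructor
  · intro h1
    have hc : Nat.card (twoStep G 2) = p ^ 5 := by
      have := h.mc.card_twoStep (j := 2) le_rfl (by omega)
      rwa [show n - 1 = 5 by omega] at this
    exact key (twoStep G 2) hc (gam_two_le_twoStep le_rfl) (h1 hv)
      (h.notin_gam_two (by omega) h1 hv hv')
  · intro h2
    have hv2 : v ∉ gam G (n - 2) := by
      intro hv2
      apply hv'
      rw [← h.H_eq_of_C h2] at hv2
      exact hv2.2
    have hv3 : v ∉ twoStep G 2 := h.notin_twoStep (by omega) h2 hv hv2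
    have hc : Nat.card (twoStep G (n - 2)) = p ^ 5 := by
      have := h.mc.card_twoStep (j := n - 2) (by omega) (by omega)
      rwa [show n - 1 = 5 by omega] at this
    exact key (twoStep G (n - 2)) hc (gam_two_le_twoStep (by omega)) (h2 hv)
      (fun hvg => hv3 (gam_two_le_twoStep le_rfl hvg))

/-- `n = 6`: `N_G(N)` -/
theorem mc5_base_NN6 (h : Cfg p 6 G E) :
    (E ≤ lev G 1 → Subgroup.normalizer ((Subgroup.normalizer (E : Set G) : Subgroup G) : Set G) = lev G 1) ∧
    (E ≤ twoStep G 4 →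
      Subgroup.normalizer ((Subgroup.normalizer (E : Set G) : Subgroup G) : Set G) = twoStep G 4) := by
  have h1 := h.NN6_aux rfl
  simp only [Nat.reduceSub] at h1
  rw [lev_one]
  exact h1

section gen

variable {Q : Type*} [Group Q]

/-- if the commutators of the generators lie in a subgroup `T` centralized by the generators, then so do all
commutators of the generated subgroup -/
theorem mc5_comm_mem_of_closure {S : Set Q} {T : Subgroup Q}
    (hT : ∀ t ∈ T, ∀ s ∈ S, Commute t s) (hS : ∀ s ∈ S, ∀ s' ∈ S, ⁅s, s'⁆ ∈ T) :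
    ∀ x ∈ Subgroup.closure S, ∀ y ∈ Subgroup.closure S, ⁅x, y⁆ ∈ T := by
  have hTc : ∀ t ∈ T, ∀ y ∈ Subgroup.closure S, Commute t y := by
    intro t ht y hy
    have hle : Subgroup.closure S ≤ Subgroup.centralizer ({t} : Set Q) := by
      rw [Subgroup.closure_le]
      intro s hs
      rw [SetLike.mem_coe, Subgroup.mem_centralizer_iff]
      rintro _ rfl
      exact (hT _ ht s hs).eq
    exact (Subgroup.mem_centralizer_iff.mp (hle hy)) t rfl
  have step1 : ∀ s ∈ S, ∀ y ∈ Subgroup.closure S, ⁅s, y⁆ ∈ T := by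
    intro s hs y hy
    induction hy using Subgroup.closure_induction with
    | mem y hy => exact hS s hs y hy
    | one => simp
    | mul y y' hy hy' ih ih' =>
      have e : ⁅s, y * y'⁆ = ⁅s, y⁆ * (y * ⁅s, y'⁆ * y⁻¹) := by
        simp only [commutatorElement_def]
        group
      rw [e]
      have hc := hTc _ ih' y hy
      have e2 : y * ⁅s, y'⁆ * y⁻¹ = ⁅s, y'⁆ := by
        rw [← hc.eq, mul_inv_cancel_right]
      rw [e2]
      exact T.mul_mem ih ih'
    | inv y hy ih =>
      have e : ⁅s, y⁻¹⁆ = y⁻¹ * ⁅s, y⁆⁻¹ * y := by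
        simp only [commutatorElement_def]
        group
      rw [e]
      have hc := hTc _ (T.inv_mem ih) y hy
      have e2 : y⁻¹ * ⁅s, y⁆⁻¹ * y = ⁅s, y⁆⁻¹ := by
        rw [mul_assoc, hc.eq, inv_mul_cancel_left]
      rw [e2]
      exact T.inv_mem ih
  intro x hx y hy
  induction hx using Subgroup.closure_induction with
  | mem x hx => exact step1 x hx y hy
  | one => simp
  | mul x x' hx hx' ih ih' =>
    have e : ⁅x * x', y⁆ = x * ⁅x', y⁆ * x⁻¹ * ⁅x, y⁆ := by
      simp only [commutatorElement_def]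
      group
    rw [e]
    have hc := hTc _ ih' x hx
    have e2 : x * ⁅x', y⁆ * x⁻¹ = ⁅x', y⁆ := by
      rw [← hc.eq, mul_inv_cancel_right]
    rw [e2]
    exact T.mul_mem ih' ih
  | inv x hx ih =>
    have e : ⁅x⁻¹, y⁆ = x⁻¹ * ⁅x, y⁆⁻¹ * x := by
      simp only [commutatorElement_def]
      group
    rw [e]
    have hc := hTc _ (T.inv_mem ih) x hx
    have e2 : x⁻¹ * ⁅x, y⁆⁻¹ * x = ⁅x, y⁆⁻¹ := by
      rw [mul_assoc, hc.eq, inv_mul_cancel_left]
    rw [e2]
    exact T.inv_mem ih

end gen

theorem Cfg.comm_e0_mem (h : Cfg p n G E) {e0 z : G} (he : e0 ∈ E) (hz : z ∈ gam G (n - 3)) :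
    ⁅e0, z⁆ ∈ E ⊓ gam G (n - 3) := by
  rw [← commutatorElement_inv z e0]
  exact Subgroup.inv_mem _ (mc5_base_comm_mem h (mc5_base_Z3_le h hz) he)

/-- `z ↦ [e₀, z]`, a homomorphism `Z₃ → G` -/
noncomputable def Cfg.psi (h : Cfg p n G E) {e0 : G} (he : e0 ∈ E) : ↥(gam G (n - 3)) →* G where
  toFun z := ⁅e0, (z : G)⁆
  map_one' := by simp
  map_mul' z z' := by
    have e : ⁅e0, ((z * z' : ↥(gam G (n - 3))) : G)⁆ =
        ⁅e0, (z : G)⁆ * ((z : G) * ⁅e0, (z' : G)⁆ * (z : G)⁻¹) := by
      rw [Subgroup.coe_mul]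
      simp only [commutatorElement_def]
      group
    rw [e]
    have hc := mc5_base_H_central h (h.comm_e0_mem he z'.2) (mc5_base_Z3_le h z.2)
    have e2 : (z : G) * ⁅e0, (z' : G)⁆ * (z : G)⁻¹ = ⁅e0, (z' : G)⁆ := by
      rw [← hc.eq, mul_inv_cancel_right]
    rw [e2]

theorem Cfg.psi_apply (h : Cfg p n G E) {e0 : G} (he : e0 ∈ E) (z : ↥(gam G (n - 3))) :
    h.psi he z = ⁅e0, (z : G)⁆ := rfl

theorem Cfg.psi_range_le (h : Cfg p n G E) {e0 : G} (he : e0 ∈ E) :
    (h.psi he).range ≤ E ⊓ gam G (n - 3) := by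
  rintro _ ⟨z, rfl⟩
  rw [h.psi_apply]
  exact h.comm_e0_mem he z.2

theorem Cfg.card_psi_range (h : Cfg p n G E) {e0 : G} (he : e0 ∈ E) (he' : e0 ∉ gam G (n - 3)) :
    Nat.card (h.psi he).range = p := by
  rw [← Subgroup.index_ker]
  have hker : (h.psi he).ker = (E ⊓ gam G (n - 3)).subgroupOf (gam G (n - 3)) := by
    ext z
    rw [MonoidHom.mem_ker, h.psi_apply, commutatorElement_eq_one_iff_commute,
      Subgroup.mem_subgroupOf]
    constructor
    · intro hc
      exact ⟨mc5_base_fact1 h he he' hc.symm, z.2⟩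
    · intro hz
      exact h.comm e0 he _ hz.1
  rw [hker]
  exact h.relIndex_H

theorem Cfg.N_eq_closure (h : Cfg p n G E) {e0 : G} (he : e0 ∈ E) (he' : e0 ∉ gam G (n - 3)) :
    Subgroup.closure ({e0} ∪ (gam G (n - 3) : Set G)) = Subgroup.normalizer (E : Set G) := by
  rw [Subgroup.closure_union, Subgroup.closure_eq, ← Subgroup.zpowers_eq_closure,
    ← mc5_base_sup h]
  apply le_antisymm
  · apply sup_le _ le_sup_right
    rw [Subgroup.zpowers_le]
    exact Subgroup.mem_sup_left he
  · apply sup_le _ le_sup_right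
    rw [← h.E_eq he he']
    exact sup_le (inf_le_right.trans le_sup_right) le_sup_left

theorem Cfg.comm_mem_psi_range (h : Cfg p n G E) {e0 : G} (he : e0 ∈ E) (he' : e0 ∉ gam G (n - 3))
    {x y : G} (hx : x ∈ Subgroup.normalizer (E : Set G)) (hy : y ∈ Subgroup.normalizer (E : Set G)) :
    ⁅x, y⁆ ∈ (h.psi he).range := by
  rw [← h.N_eq_closure he he'] at hx hy
  refine mc5_comm_mem_of_closure (S := {e0} ∪ (gam G (n - 3) : Set G)) ?_ ?_ x hx y hy
  · intro t ht s hs
    have htH := h.psi_range_le he ht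
    rcases hs with hs | hs
    · rw [Set.mem_singleton_iff] at hs
      subst hs
      exact mc5_base_H_central h htH (Subgroup.le_normalizer he)
    · exact mc5_base_H_central h htH (mc5_base_Z3_le h hs)
  · intro s hs s' hs'
    rcases hs with hs | hs <;> rcases hs' with hs' | hs'
    · rw [Set.mem_singleton_iff] at hs hs'
      subst hs
      subst hs'
      rw [commutatorElement_self]
      exact Subgroup.one_mem _
    · rw [Set.mem_singleton_iff] at hs
      subst hs
      exact ⟨⟨s', hs'⟩, rfl⟩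
    · rw [Set.mem_singleton_iff] at hs'
      subst hs'
      rw [← commutatorElement_inv s' s]
      exact Subgroup.inv_mem _ ⟨⟨s, hs⟩, rfl⟩
    · have : ⁅s, s'⁆ = 1 := by
        rw [commutatorElement_eq_one_iff_commute]
        exact h.Z3_comm hs hs'
      rw [this]
      exact Subgroup.one_mem _

/-- `N' ≤ H` -/
theorem mc5_base_comm_le (h : Cfg p n G E) :
    ⁅(Subgroup.normalizer (E : Set G) : Subgroup G), (Subgroup.normalizer (E : Set G) : Subgroup G)⁆
      ≤ E ⊓ gam G (n - 3) := by
  obtain ⟨e0, he, he'⟩ := h.exists_e0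
  rw [Subgroup.commutator_le]
  intro x hx y hy
  exact h.psi_range_le he (h.comm_mem_psi_range he he' hx hy)

/-- `|N'| = p` -/
theorem mc5_base_card_comm (h : Cfg p n G E) :
    Nat.card (⁅(Subgroup.normalizer (E : Set G) : Subgroup G),
      (Subgroup.normalizer (E : Set G) : Subgroup G)⁆ : Subgroup G) = p := by
  have hpp := (Fact.out : p.Prime)
  obtain ⟨e0, he, he'⟩ := h.exists_e0
  have hle : ⁅(Subgroup.normalizer (E : Set G) : Subgroup G),
      (Subgroup.normalizer (E : Set G) : Subgroup G)⁆ ≤ (h.psi he).range := by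
    rw [Subgroup.commutator_le]
    intro x hx y hy
    exact h.comm_mem_psi_range he he' hx hy
  have hdvd := Subgroup.card_dvd_of_le hle
  rw [h.card_psi_range he he'] at hdvd
  rcases (Nat.dvd_prime hpp).mp hdvd with h1 | h1
  · exfalso
    rw [Subgroup.card_eq_one] at h1
    have hNE : Subgroup.normalizer (E : Set G) ≤ E := by
      intro y hy
      apply h.cent
      intro e hee
      have hmem : ⁅y, e⁆ ∈ ⁅(Subgroup.normalizer (E : Set G) : Subgroup G),
          (Subgroup.normalizer (E : Set G) : Subgroup G)⁆ :=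
        Subgroup.commutator_mem_commutator hy (Subgroup.le_normalizer hee)
      rw [h1, Subgroup.mem_bot, commutatorElement_eq_one_iff_commute] at hmem
      exact hmem
    have h2 := Subgroup.card_le_of_le hNE
    rw [h.norm, h.card] at h2
    exact absurd (h.pow_lt (show 3 < 4 by norm_num)) (not_lt.mpr h2)
  · exact h1

end Cfsg.Agent.MC5
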