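import Mathlib
import Cfsg.Agent.MC5.BaseA
import Cfsg.Agent.MC5.BaseB
import Cfsg.Agent.MC5.BaseC
import Cfsg.Agent.MC5.BaseD

/-!
# S5316 (project MC5): the pure base (umbrella file)

`structure Cfg` and `mc5_base_Z3_le, _sup, _card_H, _H_central, _center_le, _comm_mem, _fact1` (`BaseA`),
`mc5_base_card_NN, _max` (`BaseB`), `mc5_base_cases, _R` (`BaseC`), `mc5_base_NN6, _comm_le, _card_comm`
(`BaseD`).  Statements as frozen in `notes/S5316_headers.lean.txt`.
-/
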