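import Mathlib
import Cfsg.Agent.Helper8.MCTS
import Cfsg.Agent.Helper1.MCB2

set_option autoImplicit false
set_option linter.unusedVariables false
set_option linter.style.haveILetI false

/-!
# S5316 project: exceptional `p`-groups of maximal class (Blackburn facts)

`G` of maximal class of order `p ^ n` is *exceptional* when `K_{n-2} ≠ K₂`
(`twoStep G (n - 2) ≠ twoStep G 2`).

* `mc5_exc_even`: exceptional groups have `n` even and `n ≤ p + 1`.
* `mc5_exc_inf`: `K₂ ⊓ K_{n-2} = γ₂`.
* `mc5_exc_pairing` (B2): `⁅x, y⁆ ≠ 1` for `x` of exact level `i`, `y` of exact level `n - 1 - i`,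
  `1 ≤ i ≤ n - 3`.
* `mc5_exc_centralizer`: `C_G(γ_{n-3}) = γ₃`.
-/

namespace Cfsg.Agent.MC5

open scoped commutatorElement
open Cfsg.Agent.Helper4.MC Cfsg.Agent.Helper8.MC Cfsg.Agent.Helper8.HP Cfsg.Agent.Helper8.Engel

universe u

variable {G : Type u} [Group G] [Finite G] {p n : ℕ} [Fact p.Prime]

/-- exceptional groups have `n` even and `n ≤ p + 1` -/
theorem mc5_exc_even (hG : IsMC p n G) (hn : 5 ≤ n) (hexc : twoStep G (n - 2) ≠ twoStep G 2) :
    Even n ∧ n ≤ p + 1 := by
  constructor
  · rcases Nat.even_or_odd n with he | ho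
    · exact he
    · exact absurd (twoStep_last_of_odd hG hn ho) hexc
  · by_contra hcon
    exact hexc (twoStep_last_of_le hG (by omega))

/-- `g₁ ∩ C = g₂` -/
theorem mc5_exc_inf (hG : IsMC p n G) (hn : 5 ≤ n) (hexc : twoStep G (n - 2) ≠ twoStep G 2) :
    twoStep G 2 ⊓ twoStep G (n - 2) = gam G 2 := by
  have h2 : gam G 2 ≤ twoStep G 2 ⊓ twoStep G (n - 2) :=
    le_inf (gam_two_le_twoStep le_rfl) (gam_two_le_twoStep (by omega))
  by_contra hne
  have hlt : gam G 2 < twoStep G 2 ⊓ twoStep G (n - 2) := lt_of_le_of_ne h2 (Ne.symm hne)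
  have hcA : Nat.card (twoStep G 2) = p ^ (n - 2 + 1) := by
    rw [hG.card_twoStep le_rfl (by omega)]; congr 1; omega
  have hcB : Nat.card (gam G 2) = p ^ (n - 2) := hG.card_gam_two
  have heq : twoStep G 2 ⊓ twoStep G (n - 2) = twoStep G 2 :=
    eq_of_lt_of_card (p := p) hcA hcB hlt inf_le_left
  have hle : twoStep G 2 ≤ twoStep G (n - 2) := by
    rw [← heq]; exact inf_le_right
  apply hexc
  symm
  apply Subgroup.eq_of_le_of_card_ge hle
  rw [hG.card_twoStep le_rfl (by omega), hG.card_twoStep (by omega) (by omega)]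

/-- the chain of the exceptional pairing along `T k = ad_s^k t` -/
theorem mc5_bl_chain (hG : IsMC p n G) (hn : 6 ≤ n) (hexc : twoStep G (n - 2) ≠ twoStep G 2) :
    ∃ T : ℕ → G, (∀ k, k + 2 ≤ n → T k ∈ lev G (k + 1) ∧ T k ∉ lev G (k + 2)) ∧
      ∀ a b, a + b + 3 = n → ⁅T a, T b⁆ ≠ 1 := by
  obtain ⟨m, rfl⟩ : ∃ m, n = m + 3 := ⟨n - 3, by omega⟩
  have hm3 : 3 ≤ m := by omega
  have hn4 : 4 ≤ m + 3 := by omega
  obtain ⟨s, hs⟩ := Cfsg.Agent.Lead.MC.exists_uniform hG
  obtain ⟨t, ht, ht'⟩ := exists_mem_lev_one hG hn4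
  have hTl : ∀ k, k ≤ m + 1 →
      adIter s k t ∈ lev G (k + 1) ∧ adIter s k t ∉ lev G (k + 2) := by
    intro k hk
    have := adIter_lev hG hn4 hs ht ht' (k + 1) (by omega) (by omega)
    simpa using this
  have hTg : ∀ k, 1 ≤ k → k ≤ m + 1 → adIter s k t ∈ gam G (k + 1) := by
    intro k hk1 hk
    rw [← lev_of_two_le G (by omega)]
    exact (hTl k hk).1
  -- improved commutator bound
  have hF : ∀ a b, a + b + 2 ≤ m + 1 →
      ⁅adIter s a t, adIter s b t⁆ ∈ gam G (a + b + 3) := by
    intro a b hab
    rcases Nat.eq_zero_or_pos b with hb0 | hbpos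
    · subst hb0
      rcases Nat.eq_zero_or_pos a with ha0 | hapos
      · subst ha0
        simp
      · have h1 : ⁅adIter s 0 t, adIter s a t⁆ ∈ gam G (a + 0 + 3) := by
          have := lev_comm_gam_le' hG hn4 (i := 1) (j := a + 1) le_rfl (by omega) (by omega)
            (Subgroup.commutator_mem_commutator (hTl 0 (by omega)).1 (hTg a hapos (by omega)))
          rwa [show 1 + (a + 1) + 1 = a + 0 + 3 by omega] at this
        rw [← commutatorElement_inv]
        exact inv_mem h1
    · have := lev_comm_gam_le' hG hn4 (i := a + 1) (j := b + 1) (by omega) (by omega) (by omega)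
        (Subgroup.commutator_mem_commutator (hTl a (by omega)).1 (hTg b hbpos (by omega)))
      rwa [show a + 1 + (b + 1) + 1 = a + b + 3 by omega] at this
  have hD : TSData G m s (fun k => adIter s k t) := by
    refine ⟨fun k => adIter_succ' s k t, fun k hk => (hTl k hk).1,
      fun k hk => hG.gam_eq_bot hk, ?_, ?_⟩
    · rw [hG.center_eq]
      rfl
    · intro a b hab
      have := hF a b (by omega)
      rwa [show a + b + 3 = m + 1 by omega] at this
  -- the chain
  have hchain : ∀ j b, j + b = m →
      (Even j → ⁅adIter s j t, adIter s b t⁆ = ⁅adIter s 0 t, adIter s m t⁆) ∧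
      (Odd j → ⁅adIter s j t, adIter s b t⁆ = ⁅adIter s 0 t, adIter s m t⁆⁻¹) := by
    intro j
    induction j with
    | zero =>
      intro b hb
      have : b = m := by omega
      subst this
      exact ⟨fun _ => rfl, fun h0 => absurd h0 (by decide)⟩
    | succ j ih =>
      intro b hb
      have hI := ih (b + 1) (by omega)
      have hR2 := hD.R2 (a := j) (b := b) (by omega)
      beta_reduce at hR2
      have hy : ⁅adIter s j t, adIter s b t⁆ ∈ Subgroup.center G := by
        rw [hG.center_eq]
        have := hF j b (by omega)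
        rwa [show j + b + 3 = m + 3 - 1 by omega] at this
      have h1 : ⁅s, ⁅adIter s j t, adIter s b t⁆⁆ = 1 :=
        commutatorElement_eq_one_iff_commute.2 ((Subgroup.mem_center_iff.1 hy) s)
      rw [h1] at hR2
      have h2 : ⁅adIter s (j + 1) t, adIter s b t⁆ = ⁅adIter s j t, adIter s (b + 1) t⁆⁻¹ :=
        (eq_inv_of_mul_eq_one_right hR2.symm)
      constructor
      · intro hev
        have hodd : Odd j := by
          rcases Nat.even_or_odd j with he | ho
          · exact absurd (Nat.even_add_one.1 hev) (by simpa using he)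
          · exact ho
        rw [h2, hI.2 hodd, inv_inv]
      · intro hod
        have hev : Even j := by
          rcases Nat.even_or_odd j with he | ho
          · exact he
          · exact absurd hod (by rw [Nat.odd_add_one]; simpa using ho)
        rw [h2, hI.1 hev]
  -- the top commutator is nontrivial: exceptionality
  have hTm := hTl m (by omega)
  rw [lev_of_two_le G (by omega), lev_of_two_le G (by omega)] at hTm
  have hz : ⁅adIter s 0 t, adIter s m t⁆ ≠ 1 := by
    intro hz
    rw [adIter_zero] at hz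
    have hmem : t ∈ twoStep G (m + 1) := by
      rw [hG.mem_twoStep_iff (j := m + 1) (by omega) (by omega) hTm.1 hTm.2 t, hz]
      exact one_mem _
    apply hexc
    rw [show m + 3 - 2 = m + 1 by omega]
    exact twoStep_eq_of_mem hG hn4 (by omega) (by omega) ht ht' hmem
  refine ⟨fun k => adIter s k t, fun k hk => hTl k (by omega), ?_⟩
  intro a b hab
  have hc := hchain a b (by omega)
  beta_reduce
  rcases Nat.even_or_odd a with he | ho
  · rw [hc.1 he]; exact hz
  · rw [hc.2 ho]; exact inv_ne_one.2 hz

/-- (B2), the exceptional pairing: `⁅x, y⁆ ≠ 1` for `x` of level exactly `i`, `y` of level exactly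
`n - 1 - i`, `1 ≤ i ≤ n - 3`. -/
theorem mc5_exc_pairing (hG : IsMC p n G) (hn : 6 ≤ n) (hexc : twoStep G (n - 2) ≠ twoStep G 2)
    {i : ℕ} (hi : 1 ≤ i) (hin : i + 3 ≤ n) {x y : G} (hx : x ∈ lev G i) (hx' : x ∉ lev G (i + 1))
    (hy : y ∈ gam G (n - 1 - i)) (hy' : y ∉ gam G (n - i)) : ⁅x, y⁆ ≠ 1 := by
  intro hxy
  have hn4 : 4 ≤ n := by omega
  obtain ⟨T, hT, hTne⟩ := mc5_bl_chain hG hn hexc
  -- `a = i - 1`, `b = n - 2 - i`
  have hTa := hT (i - 1) (by omega)
  rw [show i - 1 + 1 = i by omega, show i - 1 + 2 = i + 1 by omega] at hTa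
  have hTb := hT (n - 2 - i) (by omega)
  rw [show n - 2 - i + 1 = n - 1 - i by omega, show n - 2 - i + 2 = n - i by omega,
    lev_of_two_le G (by omega), lev_of_two_le G (by omega)] at hTb
  have hcxy : Commute x y := commutatorElement_eq_one_iff_commute.1 hxy
  -- every element of `lev i` commutes with `y`
  have hA : lev G i ≤ Subgroup.centralizer ({y} : Set G) := by
    rw [hG.lev_eq_zpowers_sup hn4 (by omega) hx hx']
    apply sup_le
    · rw [Subgroup.zpowers_le, Subgroup.mem_centralizer_singleton_iff]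
      exact hcxy.eq
    · intro u hu
      rw [Subgroup.mem_centralizer_singleton_iff]
      have hy2 : y ∈ lev G (n - 1 - i) := by rw [lev_of_two_le G (by omega)]; exact hy
      have := comm_mem_gam_of_lev (G := G) (i := i + 1) (j := n - 1 - i) (by omega) (by omega)
        hu hy2
      rw [hG.gam_eq_bot (by omega), Subgroup.mem_bot] at this
      exact (commutatorElement_eq_one_iff_commute.1 this).eq
  have hTay : Commute (T (i - 1)) y := by
    have := hA hTa.1
    rw [Subgroup.mem_centralizer_singleton_iff] at this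
    exact this
  -- `T a` commutes with every element of `gam (n - 1 - i)`
  have hB : gam G (n - 1 - i) ≤ Subgroup.centralizer ({T (i - 1)} : Set G) := by
    have hsup := hG.gam_eq_zpowers_sup (i := n - 1 - i) (by omega) (by omega) hy
      (by rw [show n - 1 - i + 1 = n - i by omega]; exact hy')
    rw [hsup]
    apply sup_le
    · rw [Subgroup.zpowers_le, Subgroup.mem_centralizer_singleton_iff]
      exact hTay.eq.symm
    · intro w hw
      rw [Subgroup.mem_centralizer_singleton_iff]
      have hw2 : w ∈ lev G (n - 1 - i + 1) := by rw [lev_of_two_le G (by omega)]; exact hw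
      have := comm_mem_gam_of_lev (G := G) (i := i) (j := n - 1 - i + 1) (by omega) (by omega)
        hTa.1 hw2
      rw [hG.gam_eq_bot (by omega), Subgroup.mem_bot] at this
      exact (commutatorElement_eq_one_iff_commute.1 this).eq.symm
  have hfin := hB hTb.1
  rw [Subgroup.mem_centralizer_singleton_iff] at hfin
  apply hTne (i - 1) (n - 2 - i) (by omega)
  exact commutatorElement_eq_one_iff_commute.2 hfin.symm

/-- `C_G(Z₃) = g₃` -/
theorem mc5_exc_centralizer (hG : IsMC p n G) (hn : 6 ≤ n) (hexc : twoStep G (n - 2) ≠ twoStep G 2) :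
    Subgroup.centralizer (gam G (n - 3) : Set G) = gam G 3 := by
  have hn4 : 4 ≤ n := by omega
  apply le_antisymm
  · intro u hu
    rw [Subgroup.mem_centralizer_iff] at hu
    by_contra hu3
    have hu0 : u ∈ lev G 0 := by rw [lev_zero]; exact Subgroup.mem_top u
    have hu3' : u ∉ lev G 3 := by rw [lev_of_two_le G (by omega)]; exact hu3
    obtain ⟨j, _, hj3, huj, huj'⟩ := hG.exists_lev hn4 hu0 hu3'
    rcases Nat.eq_zero_or_pos j with hj0 | hjpos
    · -- `u ∉ K₂ = K_{n-3}`
      subst hj0
      rw [zero_add, lev_one] at huj'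
      rw [← twoStep_eq_two hG (j := n - 3) (by omega) (by omega), mem_twoStep] at huj'
      push Not at huj'
      obtain ⟨y, hy, hy'⟩ := huj'
      apply hy'
      have : ⁅u, y⁆ = 1 := commutatorElement_eq_one_iff_commute.2 (hu y hy).symm
      rw [this]
      exact one_mem _
    · -- `j = 1` or `j = 2`: the exceptional pairing
      obtain ⟨y, hy, hy'⟩ := SetLike.exists_of_lt
        (hG.gam_lt (i := n - 1 - j) (by omega) (by omega))
      rw [show n - 1 - j + 1 = n - j by omega] at hy'
      have hne := mc5_exc_pairing hG hn hexc (i := j) hjpos (by omega) huj huj' hy hy'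
      apply hne
      have hy3 : y ∈ gam G (n - 3) := gam_anti (by omega) hy
      exact commutatorElement_eq_one_iff_commute.2 (hu y hy3).symm
  · intro u hu
    rw [Subgroup.mem_centralizer_iff]
    intro y hy
    have := comm_mem_gam (G := G) (i := 3) (j := n - 3) (by omega) (by omega) hu hy
    rw [hG.gam_eq_bot (by omega), Subgroup.mem_bot] at this
    exact (commutatorElement_eq_one_iff_commute.1 this).eq.symm

end Cfsg.Agent.MC5
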