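import Mathlib

set_option autoImplicit false
set_option linter.unusedVariables false
set_option linter.style.haveILetI false

/-!
# S5316 project: functions `G → G` restricting to automorphisms of a subgroup

`AutOn R f`: `f : G → G` restricts to an injective endomorphism of the subgroup `R` (an automorphism
when `R` is finite).  The endgames of S5316 compute with such an `f` elementwise; this file
provides the basic calculus and the invariance of centralizers, commutator subgroups and of the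
terms of an upper-central-type series.
-/

namespace Cfsg.Agent.MC5

open scoped commutatorElement

variable {G : Type*} [Group G]

/-- `f : G → G` restricts to an injective endomorphism (hence automorphism, if finite) of `R`. -/
structure AutOn (R : Subgroup G) (f : G → G) : Prop where
  mem : ∀ x ∈ R, f x ∈ R
  mul : ∀ x ∈ R, ∀ y ∈ R, f (x * y) = f x * f y
  inj : ∀ x ∈ R, f x = 1 → x = 1

variable {R : Subgroup G} {f : G → G}

theorem AutOn.map_one (hf : AutOn R f) : f 1 = 1 := by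
  have h := hf.mul 1 R.one_mem 1 R.one_mem
  rw [mul_one] at h
  exact (mul_eq_left.1 h.symm)

theorem AutOn.map_inv (hf : AutOn R f) {x : G} (hx : x ∈ R) : f x⁻¹ = (f x)⁻¹ := by
  have h := hf.mul x hx x⁻¹ (R.inv_mem hx)
  rw [mul_inv_cancel, hf.map_one] at h
  exact eq_inv_of_mul_eq_one_right h.symm

theorem AutOn.map_pow (hf : AutOn R f) {x : G} (hx : x ∈ R) (k : ℕ) : f (x ^ k) = f x ^ k := by
  induction k with
  | zero => rw [pow_zero, pow_zero, hf.map_one]
  | succ k ih => rw [pow_succ, pow_succ, hf.mul _ (R.pow_mem hx k) _ hx, ih]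

theorem AutOn.map_comm (hf : AutOn R f) {x y : G} (hx : x ∈ R) (hy : y ∈ R) :
    f ⁅x, y⁆ = ⁅f x, f y⁆ := by
  rw [commutatorElement_def, commutatorElement_def,
    hf.mul _ (R.mul_mem (R.mul_mem hx hy) (R.inv_mem hx)) _ (R.inv_mem hy),
    hf.mul _ (R.mul_mem hx hy) _ (R.inv_mem hx), hf.mul _ hx _ hy, hf.map_inv hx, hf.map_inv hy]

theorem AutOn.injOn (hf : AutOn R f) {x y : G} (hx : x ∈ R) (hy : y ∈ R) (h : f x = f y) :
    x = y := by
  have h1 : f (x * y⁻¹) = 1 := by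
    rw [hf.mul _ hx _ (R.inv_mem hy), hf.map_inv hy, h, mul_inv_cancel]
  have := hf.inj _ (R.mul_mem hx (R.inv_mem hy)) h1
  exact mul_inv_eq_one.1 this

theorem AutOn.mono (hf : AutOn R f) {K : Subgroup G} (hK : K ≤ R) (hinv : ∀ x ∈ K, f x ∈ K) :
    AutOn K f :=
  ⟨hinv, fun x hx y hy => hf.mul x (hK hx) y (hK hy), fun x hx => hf.inj x (hK hx)⟩

/-- surjectivity on an invariant finite subgroup -/
theorem AutOn.surjOn (hf : AutOn R f) {K : Subgroup G} [Finite K] (hK : K ≤ R)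
    (hinv : ∀ x ∈ K, f x ∈ K) {y : G} (hy : y ∈ K) : ∃ x ∈ K, f x = y := by
  let g : K → K := fun x => ⟨f x.1, hinv x.1 x.2⟩
  have hg : Function.Injective g := by
    intro a b hab
    apply Subtype.ext
    exact hf.injOn (hK a.2) (hK b.2) (congrArg Subtype.val hab)
  obtain ⟨x, hx⟩ := (Finite.injective_iff_surjective.1 hg) ⟨y, hy⟩
  exact ⟨x.1, x.2, congrArg Subtype.val hx⟩

/-- `C_R(K)` is invariant if `K` is -/
theorem AutOn.inv_centralizer (hf : AutOn R f) {K : Subgroup G} [Finite K] (hK : K ≤ R)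
    (hinv : ∀ x ∈ K, f x ∈ K) {u : G} (hu : u ∈ R) (hc : ∀ k ∈ K, Commute u k) :
    ∀ k ∈ K, Commute (f u) k := by
  intro k hk
  obtain ⟨k', hk', rfl⟩ := hf.surjOn hK hinv hk
  have h := hc k' hk'
  show f u * f k' = f k' * f u
  rw [← hf.mul _ hu _ (hK hk'), ← hf.mul _ (hK hk') _ hu, h.eq]

/-- `⁅A, B⁆` is invariant if `A`, `B` are -/
theorem AutOn.inv_commutator (hf : AutOn R f) {A B : Subgroup G} (hA : A ≤ R) (hB : B ≤ R)
    (hAi : ∀ x ∈ A, f x ∈ A) (hBi : ∀ x ∈ B, f x ∈ B) : ∀ x ∈ ⁅A, B⁆, f x ∈ ⁅A, B⁆ := by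
  have hAB : ⁅A, B⁆ ≤ R := by
    rw [Subgroup.commutator_le]
    intro a ha b hb
    rw [commutatorElement_def]
    exact R.mul_mem (R.mul_mem (R.mul_mem (hA ha) (hB hb)) (R.inv_mem (hA ha))) (R.inv_mem (hB hb))
  intro x hx
  rw [Subgroup.commutator_def] at hx
  induction hx using Subgroup.closure_induction with
  | mem y hy =>
    obtain ⟨a, ha, b, hb, rfl⟩ := hy
    rw [hf.map_comm (hA ha) (hB hb)]
    exact Subgroup.commutator_mem_commutator (hAi a ha) (hBi b hb)
  | one => rw [hf.map_one]; exact Subgroup.one_mem _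
  | mul y z hy hz ihy ihz =>
    rw [← Subgroup.commutator_def] at hy hz
    rw [hf.mul _ (hAB hy) _ (hAB hz)]
    exact Subgroup.mul_mem _ ihy ihz
  | inv y hy ihy =>
    rw [← Subgroup.commutator_def] at hy
    rw [hf.map_inv (hAB hy)]
    exact Subgroup.inv_mem _ ihy

/-- `{u ∈ L | ⁅u, R⁆ ≤ K}` is invariant if `L`, `K` are (`R` finite) -/
theorem AutOn.inv_preimage (hf : AutOn R f) [Finite R] {K L : Subgroup G}
    (hK : K ≤ R) (hL : L ≤ R) (hKi : ∀ x ∈ K, f x ∈ K) (hLi : ∀ x ∈ L, f x ∈ L)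
    {u : G} (hu : u ∈ L) (hc : ∀ r ∈ R, ⁅u, r⁆ ∈ K) : ∀ r ∈ R, ⁅f u, r⁆ ∈ K := by
  intro r hr
  obtain ⟨r', hr', rfl⟩ := hf.surjOn le_rfl hf.mem hr
  rw [← hf.map_comm (hL hu) hr']
  exact hKi _ (hc r' hr')

/-- powers: `f (x ^ k)` for integer exponents -/
theorem AutOn.map_zpow (hf : AutOn R f) {x : G} (hx : x ∈ R) (k : ℤ) : f (x ^ k) = f x ^ k := by
  cases k with
  | ofNat k => simpa using hf.map_pow hx k
  | negSucc k =>
    rw [zpow_negSucc, zpow_negSucc, hf.map_inv (R.pow_mem hx _), hf.map_pow hx]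

/-- the image of an invariant finite subgroup is the whole subgroup -/
theorem AutOn.mem_iff (hf : AutOn R f) {K : Subgroup G} [Finite K] (hK : K ≤ R)
    (hinv : ∀ x ∈ K, f x ∈ K) {x : G} (hx : x ∈ R) : f x ∈ K ↔ x ∈ K := by
  refine ⟨fun h => ?_, hinv x⟩
  obtain ⟨y, hy, hyx⟩ := hf.surjOn hK hinv h
  rw [← hf.injOn (hK hy) hx hyx]
  exact hy

/-! ### exponent arithmetic in sections of order `p` -/

/-- if `⁅x, y⁆` commutes with `x` and `y` then `⁅x ^ a, y ^ b⁆ = ⁅x, y⁆ ^ (a * b)` -/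
theorem mc5_comm_pow_pow {x y : G} (h1 : Commute ⁅x, y⁆ x) (h2 : Commute ⁅x, y⁆ y) (a b : ℕ) :
    ⁅x ^ a, y ^ b⁆ = ⁅x, y⁆ ^ (a * b) := by
  set z := ⁅x, y⁆ with hz
  have hxy : x * y = z * y * x := by rw [hz, commutatorElement_def]; group
  have h3 : ∀ a : ℕ, x ^ a * y = z ^ a * y * x ^ a := by
    intro a
    induction a with
    | zero => simp
    | succ a ih =>
      have hc : Commute x (z ^ a) := (h1.pow_left a).symm
      calc x ^ (a + 1) * y = x * (x ^ a * y) := by rw [pow_succ', mul_assoc]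
        _ = x * (z ^ a * y * x ^ a) := by rw [ih]
        _ = z ^ a * (x * y) * x ^ a := by
            rw [← mul_assoc, ← mul_assoc, hc.eq, mul_assoc (z ^ a) x y]
        _ = z ^ a * (z * y * x) * x ^ a := by rw [hxy]
        _ = z ^ (a + 1) * y * x ^ (a + 1) := by
            rw [pow_succ, pow_succ' x a]; group
  have h4 : ∀ b : ℕ, x ^ a * y ^ b = z ^ (a * b) * y ^ b * x ^ a := by
    intro b
    induction b with
    | zero => simp
    | succ b ih =>
      have hc : Commute (y ^ b) (z ^ a) := ((h2.pow_left a).pow_right b).symm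
      calc x ^ a * y ^ (b + 1) = x ^ a * y ^ b * y := by rw [pow_succ, mul_assoc]
        _ = z ^ (a * b) * y ^ b * (x ^ a * y) := by rw [ih, mul_assoc]
        _ = z ^ (a * b) * y ^ b * (z ^ a * y * x ^ a) := by rw [h3 a]
        _ = z ^ (a * b) * (y ^ b * z ^ a) * y * x ^ a := by group
        _ = z ^ (a * b) * (z ^ a * y ^ b) * y * x ^ a := by rw [hc.eq]
        _ = z ^ (a * (b + 1)) * y ^ (b + 1) * x ^ a := by
            rw [mul_add, mul_one, pow_add, pow_succ y b]; group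
  rw [commutatorElement_def, h4 b]
  group

/-- powers of `u` with exponents congruent mod `p` are congruent mod `K`, if `u ^ p ∈ K` -/
theorem mc5_pow_congr {K : Subgroup G} {u : G} {p a b : ℕ} (hup : u ^ p ∈ K)
    (hab : a ≡ b [MOD p]) : u ^ a * (u ^ b)⁻¹ ∈ K := by
  obtain ⟨k, hk⟩ := (Nat.modEq_iff_dvd.1 hab.symm)
  have h1 : u ^ a * (u ^ b)⁻¹ = (u ^ p) ^ k := by
    rw [← zpow_natCast u a, ← zpow_natCast u b, ← zpow_neg, ← zpow_add, ← zpow_natCast u p,
      ← zpow_mul, ← hk]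
    congr 1
  rw [h1]
  exact K.zpow_mem hup k

/-- conversely, if `u ∉ K` the exponents are congruent -/
theorem mc5_modEq_of_pow_mem {K : Subgroup G} {u : G} {p a b : ℕ} [hp : Fact p.Prime]
    (hu : u ∉ K) (hup : u ^ p ∈ K) (h : u ^ a * (u ^ b)⁻¹ ∈ K) : a ≡ b [MOD p] := by
  by_contra hne
  apply hu
  have h1 : u ^ ((a : ℤ) - b) ∈ K := by
    have : u ^ ((a : ℤ) - b) = u ^ a * (u ^ b)⁻¹ := by
      rw [sub_eq_add_neg, zpow_add, zpow_neg, zpow_natCast, zpow_natCast]
    rw [this]; exact h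
  have hnd : ¬ (p : ℤ) ∣ (a : ℤ) - b := by
    intro hd
    apply hne
    exact (Nat.modEq_iff_dvd.2 hd).symm
  have hcop : IsCoprime ((a : ℤ) - b) (p : ℤ) := by
    have hpz : Prime (p : ℤ) := Nat.prime_iff_prime_int.1 hp.out
    exact ((hpz.coprime_iff_not_dvd).2 hnd).symm
  obtain ⟨s, t, hst⟩ := hcop
  have h2 : u = (u ^ ((a : ℤ) - b)) ^ s * (u ^ p) ^ t := by
    rw [← zpow_mul, ← zpow_natCast u p, ← zpow_mul, ← zpow_add]
    have : ((a : ℤ) - b) * s + (p : ℤ) * t = 1 := by rw [← hst]; ring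
    rw [this, zpow_one]
  rw [h2]
  exact K.mul_mem (K.zpow_mem h1 s) (K.zpow_mem hup t)

/-- a section `A / K` of order `p` (with `K` normal in `G`) is generated by any `y ∈ A ∖ K` -/
theorem mc5_exists_pow_mem {p : ℕ} [hp : Fact p.Prime] {A K : Subgroup G} [K.Normal] [Finite A]
    (hKA : K ≤ A) (hcard : Nat.card A = p * Nat.card K) {y z : G} (hy : y ∈ A) (hy' : y ∉ K)
    (hz : z ∈ A) : ∃ c : ℕ, z * (y ^ c)⁻¹ ∈ K := by
  haveI : Finite K := Finite.of_injective (Subgroup.inclusion hKA) (Subgroup.inclusion_injective hKA)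
  set B := K ⊔ Subgroup.zpowers y with hB
  have hKB : K ≤ B := le_sup_left
  have hBA : B ≤ A := sup_le hKA ((Subgroup.zpowers_le).2 hy)
  have hrel : K.relIndex A = p := by
    have h1 := Subgroup.relIndex_mul_relIndex (⊥ : Subgroup G) K A bot_le hKA
    rw [Subgroup.relIndex_bot_left, Subgroup.relIndex_bot_left, hcard, mul_comm] at h1
    exact Nat.eq_of_mul_eq_mul_right Nat.card_pos h1
  have h2 := Subgroup.relIndex_mul_relIndex K B A hKB hBA
  rw [hrel] at h2
  have h3 : K.relIndex B ≠ 1 := by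
    intro h
    rw [Subgroup.relIndex_eq_one] at h
    exact hy' (h (le_sup_right (a := K) (Subgroup.mem_zpowers y)))
  have h4 : B.relIndex A = 1 := by
    rcases (Nat.dvd_prime hp.out).1 (Dvd.intro _ h2) with h | h
    · exact absurd h h3
    · rw [h] at h2
      have hpos : 0 < p := hp.out.pos
      exact Nat.eq_of_mul_eq_mul_left hpos (by rw [h2, mul_one])
  rw [Subgroup.relIndex_eq_one] at h4
  have hzB : z ∈ (↑(K ⊔ Subgroup.zpowers y) : Set G) := h4 hz
  rw [Subgroup.normal_mul] at hzB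
  obtain ⟨k, hk, w, hw, rfl⟩ := Set.mem_mul.1 hzB
  obtain ⟨i, rfl⟩ := Subgroup.mem_zpowers_iff.1 hw
  haveI : Finite (Subgroup.zpowers y) :=
    Finite.of_injective (Subgroup.inclusion ((Subgroup.zpowers_le).2 hy))
      (Subgroup.inclusion_injective _)
  have hfin : IsOfFinOrder y := by
    have h6 := isOfFinOrder_of_finite (⟨y, hy⟩ : A)
    obtain ⟨n, hn, hn'⟩ := (isOfFinOrder_iff_pow_eq_one).1 h6
    exact (isOfFinOrder_iff_pow_eq_one).2 ⟨n, hn, by simpa using congrArg Subtype.val hn'⟩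
  refine ⟨(i % (orderOf y : ℤ)).toNat, ?_⟩
  have h5 : y ^ (i % (orderOf y : ℤ)).toNat = y ^ i := by
    rw [← zpow_natCast, Int.toNat_of_nonneg (Int.emod_nonneg _
      (by exact_mod_cast (hfin.orderOf_pos).ne')), zpow_mod_orderOf]
  rw [h5, mul_assoc, mul_inv_cancel, mul_one]
  exact hk

/-- `l` of multiplicative order `p - 1` modulo `p`: `l ^ k ≡ 1` forces `p - 1 ∣ k` -/
theorem mc5_dvd_of_pow_modEq {p l k : ℕ} (hl : orderOf (l : ZMod p) = p - 1)
    (h : l ^ k ≡ 1 [MOD p]) : p - 1 ∣ k := by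
  rw [← hl]
  apply orderOf_dvd_of_pow_eq_one
  have := (ZMod.natCast_eq_natCast_iff _ _ _).2 h
  simpa using this

end Cfsg.Agent.MC5
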