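import Mathlib
import Cfsg.Agent.Helper8.MCTS
import Cfsg.Agent.Helper1.MCB2
import Cfsg.Agent.MC5.Eig

set_option autoImplicit false

/-!
# S5316 (project MC5): the endgame `n = 5` (`mc5_end5`) and shared tools for the endgames
-/

namespace Cfsg.Agent.MC5

open scoped commutatorElement
open Cfsg.Agent.Helper4.MC

section gen

variable {Q : Type*} [Group Q]

/-- bilinearity of a central commutator, with error terms: `⁅x ^ a u, y ^ b t⁆ = ⁅x, y⁆ ^ (a b)` if `⁅x, y⁆`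
commutes with `x` and `y`, `u` commutes with `y` and `t` is central -/
theorem mc5_bil {x y u t : Q} (h1 : Commute ⁅x, y⁆ x) (h2 : Commute ⁅x, y⁆ y) (hu : Commute u y)
    (ht : ∀ q : Q, Commute t q) (a b : ℕ) : ⁅x ^ a * u, y ^ b * t⁆ = ⁅x, y⁆ ^ (a * b) := by
  have hub : Commute u (y ^ b) := hu.pow_right b
  have e1 : ⁅x ^ a * u, y ^ b * t⁆ = ⁅x ^ a * u, y ^ b⁆ := by
    simp only [commutatorElement_def]
    calc x ^ a * u * (y ^ b * t) * (x ^ a * u)⁻¹ * (y ^ b * t)⁻¹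
        = x ^ a * u * y ^ b * (t * (x ^ a * u)⁻¹) * t⁻¹ * (y ^ b)⁻¹ := by group
      _ = x ^ a * u * y ^ b * ((x ^ a * u)⁻¹ * t) * t⁻¹ * (y ^ b)⁻¹ := by rw [(ht _).eq]
      _ = x ^ a * u * y ^ b * (x ^ a * u)⁻¹ * (y ^ b)⁻¹ := by group
  have e2 : ⁅x ^ a * u, y ^ b⁆ = ⁅x ^ a, y ^ b⁆ := by
    simp only [commutatorElement_def]
    calc x ^ a * u * y ^ b * (x ^ a * u)⁻¹ * (y ^ b)⁻¹
        = x ^ a * (u * y ^ b) * u⁻¹ * (x ^ a)⁻¹ * (y ^ b)⁻¹ := by group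
      _ = x ^ a * (y ^ b * u) * u⁻¹ * (x ^ a)⁻¹ * (y ^ b)⁻¹ := by rw [hub.eq]
      _ = x ^ a * y ^ b * (x ^ a)⁻¹ * (y ^ b)⁻¹ := by group
  rw [e1, e2]
  exact mc5_comm_pow_pow h1 h2 a b

/-- in a section `A / K` of order `p` (`K` normal in `G`) `p`-th powers lie in `K` -/
theorem mc5_pow_mem_of_card {p : ℕ} [Fact p.Prime] {A K : Subgroup Q} [K.Normal] [Finite A]
    (hKA : K ≤ A) (hcard : Nat.card A = p * Nat.card K) {a : Q} (ha : a ∈ A) : a ^ p ∈ K := by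
  haveI : Finite K := Finite.of_injective (Subgroup.inclusion hKA) (Subgroup.inclusion_injective hKA)
  have hrel : K.relIndex A = p := by
    have h1 := Subgroup.relIndex_mul_relIndex (⊥ : Subgroup Q) K A bot_le hKA
    rw [Subgroup.relIndex_bot_left, Subgroup.relIndex_bot_left, hcard, mul_comm] at h1
    exact Nat.eq_of_mul_eq_mul_right Nat.card_pos h1
  have h2 := Subgroup.pow_index_mem (K.subgroupOf A) (⟨a, ha⟩ : A)
  have h3 : (K.subgroupOf A).index = p := hrel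
  rw [h3, Subgroup.mem_subgroupOf] at h2
  simpa using h2

/-- moving an error term to the right: `f s = s ^ c * u` with `u ∈ K` -/
theorem mc5_right_form {K : Subgroup Q} [K.Normal] {a b : Q} (h : a * b⁻¹ ∈ K) :
    b⁻¹ * a ∈ K ∧ a = b * (b⁻¹ * a) := by
  refine ⟨?_, by group⟩
  have e : b⁻¹ * a = b⁻¹ * (a * b⁻¹) * b⁻¹⁻¹ := by group
  rw [e]
  exact Subgroup.Normal.conj_mem inferInstance _ h _

end gen

universe u
variable {G : Type u} [Group G] [Finite G] {p n : ℕ} [Fact p.Prime]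

/-- images of `γ_i` are central in `G ⧸ γ_{i+1}` -/
theorem mc5_central_mk {i : ℕ} (hi : 1 ≤ i) {x : G} (hx : x ∈ gam G i)
    (q : G ⧸ gam G (i + 1)) : Commute (QuotientGroup.mk' (gam G (i + 1)) x) q := by
  obtain ⟨g, rfl⟩ := QuotientGroup.mk'_surjective _ q
  have h0 : ⁅x, g⁆ ∈ gam G (i + 1) := comm_mem_gam_succ' (G := G) hi g hx
  have h1 : QuotientGroup.mk' (gam G (i + 1)) ⁅x, g⁆ = 1 := (QuotientGroup.eq_one_iff _).mpr h0
  rw [map_commutatorElement, commutatorElement_eq_one_iff_commute] at h1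
  exact h1

theorem mc5_end5 (hp : 5 ≤ p) (hG : IsMC p 5 G) (f : G → G) (hf : AutOn (⊤ : Subgroup G) f)
    (l l' : ℕ) (hl : orderOf (l : ZMod p) = p - 1) (hll : (l : ZMod p) * (l' : ZMod p) = 1)
    (v d : G) (hv : v ∈ lev G 1) (hv' : v ∉ gam G 2)
    (h1 : f v * (v ^ l')⁻¹ ∈ gam G 2)
    (h2 : ∀ z ∈ gam G 2, f z * (z ^ (l ^ 2))⁻¹ ∈ gam G 3)
    (h3 : d ∈ gam G 3) (h3' : d ∉ gam G 4) (h3'' : f d = d)
    (h4 : ∀ a ∈ gam G 4, f a = a ^ l) : False := by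
  have hpp := (Fact.out : p.Prime)
  have hn4 : 4 ≤ 5 := by norm_num
  have hodd : twoStep G (5 - 2) = twoStep G 2 :=
    Cfsg.Agent.Helper8.MC.twoStep_last_of_odd hG le_rfl (by decide)
  have hodd' : twoStep G 3 = twoStep G 2 := by
    simpa only [Nat.reduceSub] using hodd
  -- the uniform element `s`
  obtain ⟨s, hs1⟩ : ∃ s : G, s ∉ twoStep G 2 := by
    by_contra hno
    push Not at hno
    exact hG.twoStep_ne_top (j := 2) (by norm_num) (by norm_num)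
      (eq_top_iff.mpr fun x _ => hno x)
  have hsU : IsUniform p s :=
    Cfsg.Agent.Helper8.MC.isUniform_of_not_mem hG hn4 hs1 (by rw [hodd]; exact hs1)
  -- `z ∈ g₂ ∖ g₃`, `w₂ = ⁅s, z⁆ ∈ g₃ ∖ g₄`, `w₃ = ⁅s, w₂⁆ ∈ g₄ ∖ 1`
  obtain ⟨z, hz2, hz3⟩ := SetLike.exists_of_lt (hG.gam_lt (i := 2) (by norm_num) (by norm_num))
  simp only [Nat.reduceAdd] at hz3
  have hw2 := Cfsg.Agent.Helper1.MC.IsUniform.comm_lev hG hn4 hsU (i := 2) (by norm_num)
    (by norm_num) (x := z) (by rw [lev_of_two_le G le_rfl]; exact hz2)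
    (by rw [lev_of_two_le G (by norm_num)]; exact hz3)
  simp only [Nat.reduceAdd] at hw2
  rw [lev_of_two_le G (by norm_num : 2 ≤ 3), lev_of_two_le G (by norm_num : 2 ≤ 4)] at hw2
  obtain ⟨hw2a, hw2b⟩ := hw2
  have hw3 := Cfsg.Agent.Helper1.MC.IsUniform.comm_lev hG hn4 hsU (i := 3) (by norm_num)
    (by norm_num) (x := ⁅s, z⁆) (by rw [lev_of_two_le G (by norm_num)]; exact hw2a)
    (by rw [lev_of_two_le G (by norm_num)]; exact hw2b)
  simp only [Nat.reduceAdd] at hw3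
  rw [lev_of_two_le G (by norm_num : 2 ≤ 4), lev_of_two_le G (by norm_num : 2 ≤ 5),
    hG.gam_eq_bot le_rfl, Subgroup.mem_bot] at hw3
  obtain ⟨hw3a, hw3b⟩ := hw3
  generalize hw2def : ⁅s, z⁆ = w2 at hw2a hw2b hw3a hw3b
  generalize hw3def : ⁅s, w2⁆ = w3 at hw3a hw3b
  -- centrality of `g₄`
  have hcen4 : ∀ a ∈ gam G 4, ∀ g : G, Commute a g := by
    intro a ha g
    have hc : a ∈ Subgroup.center G := by
      rw [hG.center_eq]
      exact ha
    exact (Subgroup.mem_center_iff.mp hc g).symm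
  -- `f s = s ^ c * u₀`, `u₀ ∈ g₁`
  haveI : (lev G 1).Normal := lev_normal 1
  have hcardtop : Nat.card (⊤ : Subgroup G) = p * Nat.card (lev G 1) := by
    rw [Subgroup.card_top, hG.card, hG.card_lev hn4 (by norm_num)]
    simp only [Nat.reduceSub]
    ring
  obtain ⟨c, hc⟩ := mc5_exists_pow_mem (p := p) (A := ⊤) (K := lev G 1) le_top hcardtop
    (y := s) (Subgroup.mem_top s) (by rw [lev_one]; exact hs1) (z := f s) (Subgroup.mem_top _)
  obtain ⟨u0, hu0, hfs⟩ : ∃ u0 ∈ twoStep G 2, f s = s ^ c * u0 := by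
    obtain ⟨h5, h6⟩ := mc5_right_form hc
    rw [lev_one] at h5
    exact ⟨_, h5, h6⟩
  -- `f z = z ^ (l ^ 2) * y₀`, `y₀ ∈ g₃`
  obtain ⟨y0, hy0, hfz⟩ : ∃ y0 ∈ gam G 3, f z = z ^ (l ^ 2) * y0 := by
    obtain ⟨h5, h6⟩ := mc5_right_form (h2 z hz2)
    exact ⟨_, h5, h6⟩
  -- relation 1 in `G ⧸ g₄`
  have hfw2 : f w2 = ⁅f s, f z⁆ := by
    rw [← hw2def]
    exact hf.map_comm (Subgroup.mem_top s) (Subgroup.mem_top z)
  have hπw2 : ⁅QuotientGroup.mk' (gam G 4) s, QuotientGroup.mk' (gam G 4) z⁆ =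
      QuotientGroup.mk' (gam G 4) w2 := by
    rw [← hw2def, map_commutatorElement]
  have hrel1 : QuotientGroup.mk' (gam G 4) (f w2) =
      (QuotientGroup.mk' (gam G 4) w2) ^ (c * l ^ 2) := by
    rw [hfw2, hfs, hfz]
    simp only [map_commutatorElement, map_mul, map_pow]
    rw [← hπw2]
    have hcen : ∀ q, Commute ⁅QuotientGroup.mk' (gam G 4) s, QuotientGroup.mk' (gam G 4) z⁆ q := by
      intro q
      rw [hπw2]
      exact mc5_central_mk (i := 3) (by norm_num) hw2a q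
    refine mc5_bil (hcen _) (hcen _) ?_ (fun q => mc5_central_mk (i := 3) (by norm_num) hy0 q) _ _
    have h0 : ⁅u0, z⁆ ∈ gam G 4 := (mem_twoStep 2 _).mp hu0 z hz2
    have h1' : QuotientGroup.mk' (gam G 4) ⁅u0, z⁆ = 1 :=
      (QuotientGroup.eq_one_iff _).mpr h0
    rw [map_commutatorElement, commutatorElement_eq_one_iff_commute] at h1'
    exact h1'
  have hmem1 : f w2 * (w2 ^ (c * l ^ 2))⁻¹ ∈ gam G 4 := by
    rw [← QuotientGroup.eq_one_iff]
    show QuotientGroup.mk' (gam G 4) (f w2 * (w2 ^ (c * l ^ 2))⁻¹) = 1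
    rw [map_mul, map_inv, map_pow, hrel1, mul_inv_cancel]
  -- `f w₂ ≡ w₂` modulo `g₄` because of `d`
  have hcard34 : Nat.card (gam G 3) = p * Nat.card (gam G 4) := by
    rw [hG.card_gam (i := 3) (by norm_num) (by norm_num),
      hG.card_gam (i := 4) (by norm_num) (by norm_num)]
    simp only [Nat.reduceSub]
    ring
  obtain ⟨j, hj⟩ := mc5_exists_pow_mem (p := p) (A := gam G 3) (K := gam G 4)
    (gam_anti (by norm_num)) hcard34 (y := d) h3 h3' (z := w2) hw2a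
  have hmem2 : f w2 * w2⁻¹ ∈ gam G 4 := by
    obtain ⟨y1, hy1, hw2y⟩ : ∃ y1 ∈ gam G 4, w2 = y1 * d ^ j :=
      ⟨_, hj, (inv_mul_cancel_right _ _).symm⟩
    have e2 : f w2 = f y1 * d ^ j := by
      rw [hw2y, hf.mul _ (Subgroup.mem_top _) _ (Subgroup.mem_top _),
        hf.map_pow (Subgroup.mem_top d), h3'']
    have e3 : f w2 * w2⁻¹ = f y1 * y1⁻¹ := by
      rw [e2, hw2y, mul_inv_rev, mul_assoc, mul_inv_cancel_left]
    rw [e3, h4 _ hy1]
    exact Subgroup.mul_mem _ (Subgroup.pow_mem _ hy1 l) (Subgroup.inv_mem _ hy1)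
  have hmod1 : c * l ^ 2 ≡ 1 [MOD p] := by
    apply mc5_modEq_of_pow_mem (K := gam G 4) (u := w2) hw2b
      (mc5_pow_mem_of_card (gam_anti (by norm_num)) hcard34 hw2a)
    have e : w2 ^ (c * l ^ 2) * (w2 ^ 1)⁻¹ =
        (f w2 * (w2 ^ (c * l ^ 2))⁻¹)⁻¹ * (f w2 * w2⁻¹) := by
      rw [pow_one, mul_inv_rev, inv_inv, mul_assoc, inv_mul_cancel_left]
    rw [e]
    exact Subgroup.mul_mem _ (Subgroup.inv_mem _ hmem1) hmem2
  -- relation 2 in `G`
  obtain ⟨y2, hy2, hfw2'⟩ : ∃ y2 ∈ gam G 4, f w2 = w2 ^ 1 * y2 := by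
    obtain ⟨h5, h6⟩ := mc5_right_form (K := gam G 4) (a := f w2) (b := w2) hmem2
    exact ⟨_, h5, by rw [pow_one]; exact h6⟩
  have hrel2 : f w3 = w3 ^ (c * 1) := by
    rw [← hw3def, hf.map_comm (Subgroup.mem_top s) (Subgroup.mem_top _), hfs, hfw2']
    have hcen : ∀ g, Commute ⁅s, w2⁆ g := by
      intro g
      rw [hw3def]
      exact hcen4 _ hw3a g
    refine mc5_bil (hcen _) (hcen _) ?_ (hcen4 _ hy2) _ _
    have hu3 : u0 ∈ twoStep G 3 := by rw [hodd']; exact hu0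
    have h0 := (mem_twoStep 3 _).mp hu3 _ hw2a
    simp only [Nat.reduceAdd] at h0
    rw [hG.gam_eq_bot le_rfl, Subgroup.mem_bot, commutatorElement_eq_one_iff_commute] at h0
    exact h0
  have hmod2 : c ≡ l [MOD p] := by
    have hcard4 : Nat.card (gam G 4) = p * Nat.card (⊥ : Subgroup G) := by
      rw [hG.card_gam (i := 4) (by norm_num) (by norm_num), Subgroup.card_bot]
      simp only [Nat.reduceSub]
      ring
    apply mc5_modEq_of_pow_mem (K := (⊥ : Subgroup G)) (u := w3)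
      (by rw [Subgroup.mem_bot]; exact hw3b) (mc5_pow_mem_of_card bot_le hcard4 hw3a)
    rw [Subgroup.mem_bot, mul_inv_eq_one, ← h4 _ hw3a, hrel2, mul_one]
  -- arithmetic
  have hl3 : l ^ 3 ≡ 1 [MOD p] := by
    have h5 : c * l ^ 2 ≡ l * l ^ 2 [MOD p] := Nat.ModEq.mul_right _ hmod2
    have h6 : l ^ 3 = l * l ^ 2 := by ring
    rw [h6]
    exact h5.symm.trans hmod1
  have hdvd := mc5_dvd_of_pow_modEq hl hl3
  have := Nat.le_of_dvd (by norm_num) hdvd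
  omega

end Cfsg.Agent.MC5
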