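import Mathlib
import Cfsg.Agent.Helper8.MCTS
import Cfsg.Agent.Helper1.MCB2
import Cfsg.Agent.Lead.MCUE2
import Cfsg.Agent.MC5.Eig
import Cfsg.Agent.MC5.EndA
import Cfsg.Agent.MC5.Blackburn

set_option autoImplicit false

/-!
# S5316: the endgame `n = 6`, case (II) (`E ≤ C = C_G(Z₂)`, `E ≰ g₁`)

`R = C = ⟨v⟩ g₂`, `Z(C) ⊇ g₄`.  With `y ∈ g₂ ∖ g₃`, `f y ≡ y ^ c v ^ a` modulo `g₃`:
`z = ⁅y, v⁆ ∈ g₃ ∖ g₄` gives `c l' ≡ l²`, and `u = ⁅y, z⁆ ∈ Z₁ ∖ 1` (Blackburn's pairing (B2)) together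
with `g₄ = ⟨⁅z, v⁆⟩ × Z₁`, `f = l` on `⟨⁅z, v⁆⟩`, `f d = d` gives `c l² ≡ 1`.  So `l ^ 5 = 1`.
-/

namespace Cfsg.Agent.MC5

open scoped commutatorElement
open Cfsg.Agent.Helper4.MC

section gen

variable {Q : Type*} [Group Q]

/-- `mc5_bil` with the weakest hypothesis on the right error term -/
theorem mc5_e6b_bil {x y u t : Q} (h1 : Commute ⁅x, y⁆ x) (h2 : Commute ⁅x, y⁆ y) (hu : Commute u y)
    (a b : ℕ) (ht : Commute t (x ^ a * u)) : ⁅x ^ a * u, y ^ b * t⁆ = ⁅x, y⁆ ^ (a * b) := by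
  have hub : Commute u (y ^ b) := hu.pow_right b
  have e1 : ⁅x ^ a * u, y ^ b * t⁆ = ⁅x ^ a * u, y ^ b⁆ := by
    simp only [commutatorElement_def]
    calc x ^ a * u * (y ^ b * t) * (x ^ a * u)⁻¹ * (y ^ b * t)⁻¹
        = x ^ a * u * y ^ b * (t * (x ^ a * u)⁻¹) * t⁻¹ * (y ^ b)⁻¹ := by group
      _ = x ^ a * u * y ^ b * ((x ^ a * u)⁻¹ * t) * t⁻¹ * (y ^ b)⁻¹ := by rw [ht.inv_right.eq]
      _ = x ^ a * u * y ^ b * (x ^ a * u)⁻¹ * (y ^ b)⁻¹ := by group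
  have e2 : ⁅x ^ a * u, y ^ b⁆ = ⁅x ^ a, y ^ b⁆ := by
    simp only [commutatorElement_def]
    calc x ^ a * u * y ^ b * (x ^ a * u)⁻¹ * (y ^ b)⁻¹
        = x ^ a * (u * y ^ b) * u⁻¹ * (x ^ a)⁻¹ * (y ^ b)⁻¹ := by group
      _ = x ^ a * (y ^ b * u) * u⁻¹ * (x ^ a)⁻¹ * (y ^ b)⁻¹ := by rw [hub.eq]
      _ = x ^ a * y ^ b * (x ^ a)⁻¹ * (y ^ b)⁻¹ := by group
  rw [e1, e2]
  exact mc5_comm_pow_pow h1 h2 a b

/-- `⁅A B, c⁆ = ⁅B, c⁆ ⁅A, c⁆` when `A` commutes with `⁅B, c⁆` -/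
theorem mc5_e6b_comm_mul {A B c : Q} (h : Commute A ⁅B, c⁆) : ⁅A * B, c⁆ = ⁅B, c⁆ * ⁅A, c⁆ := by
  calc ⁅A * B, c⁆ = A * ⁅B, c⁆ * A⁻¹ * ⁅A, c⁆ := by
        simp only [commutatorElement_def]; group
    _ = ⁅B, c⁆ * A * A⁻¹ * ⁅A, c⁆ := by rw [h.eq]
    _ = ⁅B, c⁆ * ⁅A, c⁆ := by group

/-- an element of prime order `p` outside `K`: a power lying in `K` is trivial -/
theorem mc5_e6b_zpow_mem {p : ℕ} [hp : Fact p.Prime] {K : Subgroup Q} {b : Q} (hbp : b ^ p = 1)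
    (hbK : b ∉ K) {k : ℤ} (hk : b ^ k ∈ K) : b ^ k = 1 := by
  by_contra hne
  apply hbK
  have hnd : ¬ (p : ℤ) ∣ k := by
    rintro ⟨m, rfl⟩
    apply hne
    rw [zpow_mul, zpow_natCast, hbp, one_zpow]
  have hcop : IsCoprime k (p : ℤ) := by
    have h1 : Prime (p : ℤ) := Nat.prime_iff_prime_int.mp hp.out
    exact ((h1.irreducible.coprime_iff_not_dvd).mpr hnd).symm
  obtain ⟨s, t, hst⟩ := hcop
  have e : b = (b ^ k) ^ s * (b ^ p) ^ t := by
    rw [← zpow_natCast b p, ← zpow_mul, ← zpow_mul, ← zpow_add, mul_comm k s, mul_comm (p : ℤ) t,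
      hst, zpow_one]
  rw [e, hbp, one_zpow, mul_one]
  exact Subgroup.zpow_mem _ hk s

end gen

universe u
variable {G : Type u} [Group G] [Finite G] {p n : ℕ} [Fact p.Prime]

theorem mc5_end6_II (hp : 5 ≤ p) (hG : IsMC p 6 G) (hexc : twoStep G 4 ≠ twoStep G 2)
    (f : G → G) (hf : AutOn (twoStep G 4) f)
    (l l' : ℕ) (hl : orderOf (l : ZMod p) = p - 1) (hll : (l : ZMod p) * (l' : ZMod p) = 1)
    (v d : G) (hv : v ∈ twoStep G 4) (hv' : v ∉ twoStep G 2)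
    (h1 : f v * (v ^ l')⁻¹ ∈ gam G 3)
    (h2 : ∀ z ∈ gam G 3, f z * (z ^ (l ^ 2))⁻¹ ∈ gam G 4)
    (h3 : d ∈ gam G 4) (h3' : ∀ x ∈ gam G 3, d ≠ ⁅x, v⁆) (h3'' : f d = d)
    (h4 : ∀ x ∈ gam G 3, f ⁅x, v⁆ = ⁅x, v⁆ ^ l) : False := by
  have hpp := (Fact.out : p.Prime)
  have hn4 : 4 ≤ 6 := by norm_num
  have h32 : twoStep G 3 = twoStep G 2 :=
    Cfsg.Agent.Helper8.MC.twoStep_eq_two hG (j := 3) (by norm_num) (by norm_num)
  have g6 : gam G 6 = ⊥ := hG.gam_eq_bot le_rfl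
  -- `C` centralizes `g₄`
  have hCcen : ∀ c ∈ twoStep G 4, ∀ a ∈ gam G 4, Commute c a := by
    intro c hc a ha
    have h0 := (mem_twoStep 4 c).mp hc a ha
    simp only [Nat.reduceAdd] at h0
    rw [g6, Subgroup.mem_bot, commutatorElement_eq_one_iff_commute] at h0
    exact h0
  have g2C : gam G 2 ≤ twoStep G 4 := gam_two_le_twoStep (by norm_num)
  have g3C : gam G 3 ≤ twoStep G 4 := (gam_anti (by norm_num)).trans g2C
  have g4C : gam G 4 ≤ twoStep G 4 := (gam_anti (by norm_num)).trans g2C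
  -- `g₂` has exponent `p`
  have hexp : ∀ x ∈ gam G 2, x ^ p = 1 := by
    intro x hx
    have h0 := Cfsg.Agent.Lead.MC.agemo_gam_le hG 2 le_rfl
      (Cfsg.Agent.Helper8.HP.pow_mem_agemo p hx)
    rw [hG.gam_eq_bot (by omega), Subgroup.mem_bot] at h0
    exact h0
  -- `g₅` is central
  have hcen5 : ∀ a ∈ gam G 5, ∀ g : G, Commute a g := by
    intro a ha g
    have hc : a ∈ Subgroup.center G := by
      rw [hG.center_eq]
      exact ha
    exact (Subgroup.mem_center_iff.mp hc g).symm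
  -- `g₃` is abelian
  have hab3 : ∀ a ∈ gam G 3, ∀ b ∈ gam G 3, Commute a b := by
    intro a ha b hb
    have h0 := comm_mem_gam (G := G) (i := 3) (j := 3) (by norm_num) (by norm_num) ha hb
    simp only [Nat.reduceAdd] at h0
    rw [g6, Subgroup.mem_bot, commutatorElement_eq_one_iff_commute] at h0
    exact h0
  -- the elements `y`, `z = ⁅y, v⁆`, `b = ⁅z, v⁆`, `u = ⁅y, z⁆`
  obtain ⟨y, hy2, hy3⟩ := SetLike.exists_of_lt (hG.gam_lt (i := 2) (by norm_num) (by norm_num))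
  simp only [Nat.reduceAdd] at hy3
  have hz3 : ⁅y, v⁆ ∈ gam G 3 := comm_mem_gam_succ' (G := G) (i := 2) (by norm_num) v hy2
  have hz4 : ⁅y, v⁆ ∉ gam G 4 := by
    intro h0
    apply hv'
    rw [hG.mem_twoStep_iff (j := 2) le_rfl (by norm_num) hy2 hy3]
    have e : ⁅v, y⁆ = ⁅y, v⁆⁻¹ := (commutatorElement_inv y v).symm
    rw [e]
    exact Subgroup.inv_mem _ h0
  generalize hzdef : ⁅y, v⁆ = z at hz3 hz4
  have hb4 : ⁅z, v⁆ ∈ gam G 4 := comm_mem_gam_succ' (G := G) (i := 3) (by norm_num) v hz3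
  have hb5 : ⁅z, v⁆ ∉ gam G 5 := by
    intro h0
    apply hv'
    rw [← h32, hG.mem_twoStep_iff (j := 3) (by norm_num) (by norm_num) hz3 hz4]
    have e : ⁅v, z⁆ = ⁅z, v⁆⁻¹ := (commutatorElement_inv z v).symm
    rw [e]
    exact Subgroup.inv_mem _ h0
  have hfb : f ⁅z, v⁆ = ⁅z, v⁆ ^ l := h4 z hz3
  have hdb : ∀ k : ℕ, d ≠ ⁅z, v⁆ ^ k := by
    intro k hk
    have hcb : ∀ g ∈ twoStep G 4, Commute ⁅z, v⁆ g := fun g hg => (hCcen g hg _ hb4).symm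
    have e : ⁅z ^ k, v ^ 1⁆ = ⁅z, v⁆ ^ (k * 1) :=
      mc5_comm_pow_pow (hcb z (g3C hz3)) (hcb v hv) k 1
    rw [pow_one, mul_one] at e
    exact h3' (z ^ k) (Subgroup.pow_mem _ hz3 k) (hk.trans e.symm)
  generalize hbdef : ⁅z, v⁆ = b at hb4 hb5 hfb hdb
  have hu5 : ⁅y, z⁆ ∈ gam G 5 :=
    comm_mem_gam (G := G) (i := 2) (j := 3) (by norm_num) (by norm_num) hy2 hz3
  have hu1 : ⁅y, z⁆ ≠ 1 :=
    mc5_exc_pairing hG le_rfl hexc (i := 2) (by norm_num) (by norm_num) (x := y) (y := z)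
      (by rw [lev_of_two_le G le_rfl]; exact hy2)
      (by rw [lev_of_two_le G (by norm_num)]; exact hy3) hz3 hz4
  -- the shapes of `f y`, `f v`, `f z`
  have hyC : y ∈ twoStep G 4 := g2C hy2
  have hzC : z ∈ twoStep G 4 := g3C hz3
  haveI : (gam G 2).Normal := gam_normal 2
  haveI : (gam G 3).Normal := gam_normal 3
  haveI : (gam G 4).Normal := gam_normal 4
  haveI : (gam G 5).Normal := gam_normal 5
  have hv2 : v ∉ gam G 2 := fun h0 => hv' (gam_two_le_twoStep le_rfl h0)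
  have hcardC : Nat.card (twoStep G 4) = p * Nat.card (gam G 2) := by
    rw [hG.card_twoStep (j := 4) (by norm_num) (by norm_num),
      hG.card_gam (i := 2) le_rfl (by norm_num)]
    simp only [Nat.reduceSub]
    ring
  have hcard23 : Nat.card (gam G 2) = p * Nat.card (gam G 3) := by
    rw [hG.card_gam (i := 2) le_rfl (by norm_num),
      hG.card_gam (i := 3) (by norm_num) (by norm_num)]
    simp only [Nat.reduceSub]
    ring
  have hcard34 : Nat.card (gam G 3) = p * Nat.card (gam G 4) := by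
    rw [hG.card_gam (i := 3) (by norm_num) (by norm_num),
      hG.card_gam (i := 4) (by norm_num) (by norm_num)]
    simp only [Nat.reduceSub]
    ring
  have hcard45 : Nat.card (gam G 4) = p * Nat.card (gam G 5) := by
    rw [hG.card_gam (i := 4) (by norm_num) (by norm_num),
      hG.card_gam (i := 5) (by norm_num) (by norm_num)]
    simp only [Nat.reduceSub]
    ring
  have hcard5 : Nat.card (gam G 5) = p * Nat.card (⊥ : Subgroup G) := by
    rw [hG.card_gam (i := 5) (by norm_num) (by norm_num), Subgroup.card_bot]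
    simp only [Nat.reduceSub]
    ring
  obtain ⟨a, ha⟩ := mc5_exists_pow_mem (p := p) (A := twoStep G 4) (K := gam G 2) g2C hcardC
    (y := v) hv hv2 (z := f y) (hf.mem y hyC)
  obtain ⟨c, hc⟩ := mc5_exists_pow_mem (p := p) (A := gam G 2) (K := gam G 3)
    (gam_anti (by norm_num)) hcard23 (y := y) hy2 hy3 (z := f y * (v ^ a)⁻¹) ha
  obtain ⟨g2, hg2, hfy⟩ : ∃ g2 ∈ gam G 3, f y = y ^ c * (v ^ a * g2) := by
    have h0 : f y * (y ^ c * v ^ a)⁻¹ ∈ gam G 3 := by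
      have e : f y * (y ^ c * v ^ a)⁻¹ = f y * (v ^ a)⁻¹ * (y ^ c)⁻¹ := by group
      rw [e]
      exact hc
    obtain ⟨h5, h6⟩ := mc5_right_form h0
    exact ⟨_, h5, by rw [← mul_assoc]; exact h6⟩
  obtain ⟨g3, hg3, hfv⟩ : ∃ g3 ∈ gam G 3, f v = v ^ l' * g3 := by
    obtain ⟨h5, h6⟩ := mc5_right_form h1
    exact ⟨_, h5, h6⟩
  obtain ⟨w, hw, hfz⟩ : ∃ w ∈ gam G 4, f z = z ^ (l ^ 2) * w := by
    obtain ⟨h5, h6⟩ := mc5_right_form (h2 z hz3)
    exact ⟨_, h5, h6⟩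
  -- relation 1 in `G ⧸ g₄`
  have hfz' : f z = ⁅f y, f v⁆ := by
    rw [← hzdef]
    exact hf.map_comm hyC hv
  have hπz : ⁅QuotientGroup.mk' (gam G 4) y, QuotientGroup.mk' (gam G 4) v⁆ =
      QuotientGroup.mk' (gam G 4) z := by
    rw [← hzdef, map_commutatorElement]
  have hrel1 : QuotientGroup.mk' (gam G 4) (f z) =
      (QuotientGroup.mk' (gam G 4) z) ^ (c * l') := by
    rw [hfz', hfy, hfv]
    simp only [map_commutatorElement, map_mul, map_pow]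
    rw [← hπz]
    have hcen : ∀ q, Commute ⁅QuotientGroup.mk' (gam G 4) y, QuotientGroup.mk' (gam G 4) v⁆ q := by
      intro q
      rw [hπz]
      exact mc5_central_mk (i := 3) (by norm_num) hz3 q
    refine mc5_bil (hcen _) (hcen _) ?_ (fun q => mc5_central_mk (i := 3) (by norm_num) hg3 q) _ _
    exact ((Commute.refl _).pow_left a).mul_left
      (mc5_central_mk (i := 3) (by norm_num) hg2 _)
  have hmod1 : c * l' ≡ l ^ 2 [MOD p] := by
    apply mc5_modEq_of_pow_mem (K := gam G 4) (u := z) hz4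
      (mc5_pow_mem_of_card (gam_anti (by norm_num)) hcard34 hz3)
    have hm1 : f z * (z ^ (c * l'))⁻¹ ∈ gam G 4 := by
      rw [← QuotientGroup.eq_one_iff]
      show QuotientGroup.mk' (gam G 4) (f z * (z ^ (c * l'))⁻¹) = 1
      rw [map_mul, map_inv, map_pow, hrel1, mul_inv_cancel]
    have e : z ^ (c * l') * (z ^ (l ^ 2))⁻¹ =
        (f z * (z ^ (c * l'))⁻¹)⁻¹ * (f z * (z ^ (l ^ 2))⁻¹) := by group
    rw [e]
    exact Subgroup.mul_mem _ (Subgroup.inv_mem _ hm1) (h2 z hz3)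
  -- relation 2 in `G`
  generalize hudef : ⁅y, z⁆ = u at hu5 hu1
  have hbinv : ⁅v, z⁆ = b⁻¹ := by
    rw [← hbdef]
    exact (commutatorElement_inv z v).symm
  have hbC : ∀ g ∈ twoStep G 4, Commute b g := fun g hg => (hCcen g hg _ hb4).symm
  have hfu : f u = (b⁻¹) ^ (a * l ^ 2) * u ^ (c * l ^ 2) := by
    rw [← hudef, hf.map_comm hyC hzC, hfy, hfz]
    have hBC : v ^ a * g2 ∈ twoStep G 4 :=
      Subgroup.mul_mem _ (Subgroup.pow_mem _ hv a) (g3C hg2)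
    have hcC : z ^ (l ^ 2) * w ∈ gam G 3 :=
      Subgroup.mul_mem _ (Subgroup.pow_mem _ hz3 _) (gam_anti (by norm_num) hw)
    have hBc4 : ⁅v ^ a * g2, z ^ (l ^ 2) * w⁆ ∈ gam G 4 := by
      have := comm_mem_gam_succ (G := G) (i := 3) (by norm_num) (v ^ a * g2) hcC
      exact this
    rw [mc5_e6b_comm_mul (hCcen _ (Subgroup.pow_mem _ hyC c) _ hBc4)]
    congr 1
    · -- `⁅v ^ a g₂, z ^ m w⁆ = ⁅v, z⁆ ^ (a m)`
      rw [← hbinv]
      have hvz4 : ⁅v, z⁆ ∈ gam G 4 := by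
        rw [hbinv]
        exact Subgroup.inv_mem _ hb4
      exact mc5_e6b_bil ((hCcen v hv _ hvz4).symm) ((hCcen z hzC _ hvz4).symm)
        (hab3 g2 hg2 z hz3) a (l ^ 2) ((hCcen _ hBC w hw).symm)
    · -- `⁅y ^ c, z ^ m w⁆ = u ^ (c m)`
      have e : y ^ c = y ^ c * 1 := (mul_one _).symm
      rw [e]
      have hcu : ∀ g, Commute ⁅y, z⁆ g := by
        intro g
        rw [hudef]
        exact hcen5 u hu5 g
      refine mc5_e6b_bil (hcu _) (hcu _) (Commute.one_left _) c (l ^ 2) ?_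
      rw [mul_one]
      exact (hCcen _ (Subgroup.pow_mem _ hyC c) w hw).symm
  -- the decomposition `d = u ^ j * b ^ i`
  obtain ⟨i, hi⟩ := mc5_exists_pow_mem (p := p) (A := gam G 4) (K := gam G 5)
    (gam_anti (by norm_num)) hcard45 (y := b) hb4 hb5 (z := d) h3
  obtain ⟨j, hj⟩ := mc5_exists_pow_mem (p := p) (A := gam G 5) (K := (⊥ : Subgroup G))
    bot_le hcard5 (y := u) hu5 (by rw [Subgroup.mem_bot]; exact hu1) (z := d * (b ^ i)⁻¹) hi
  rw [Subgroup.mem_bot, mul_inv_eq_one] at hj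
  have hd : d = u ^ j * b ^ i := by
    rw [← hj]
    group
  have hup : u ^ p = 1 := hexp u (gam_anti (by norm_num) hu5)
  have hbp : b ^ p = 1 := hexp b (gam_anti (by norm_num) hb4)
  have hj0 : ¬ p ∣ j := by
    rintro ⟨m, rfl⟩
    apply hdb i
    rw [hd, pow_mul, hup, one_pow, one_mul]
  -- apply `f`
  have huC : u ∈ twoStep G 4 := g4C (gam_anti (by norm_num) hu5)
  have hbC' : b ∈ twoStep G 4 := g4C hb4
  have hfd : f d = ((b⁻¹) ^ (a * l ^ 2) * u ^ (c * l ^ 2)) ^ j * (b ^ l) ^ i := by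
    rw [hd, hf.mul _ (Subgroup.pow_mem _ huC j) _ (Subgroup.pow_mem _ hbC' i), hf.map_pow huC,
      hf.map_pow hbC', hfu, hfb]
  have hucen : ∀ g, Commute u g := hcen5 u hu5
  have key : u ^ (c * l ^ 2 * j) * (u ^ j)⁻¹ =
      b ^ ((i : ℤ) - (l * i : ℕ) + (a * l ^ 2 * j : ℕ)) := by
    have e1 : ((b⁻¹) ^ (a * l ^ 2) * u ^ (c * l ^ 2)) ^ j =
        (b⁻¹) ^ (a * l ^ 2 * j) * u ^ (c * l ^ 2 * j) := by
      rw [((hucen _).pow_left _).symm.mul_pow, ← pow_mul, ← pow_mul]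
    have e2 : (b⁻¹) ^ (a * l ^ 2 * j) * u ^ (c * l ^ 2 * j) * (b ^ l) ^ i = u ^ j * b ^ i := by
      rw [← e1, ← hfd, h3'', hd]
    have e3 : u ^ (c * l ^ 2 * j) * ((b⁻¹) ^ (a * l ^ 2 * j) * (b ^ l) ^ i) = u ^ j * b ^ i := by
      rw [← e2, ← mul_assoc, ((hucen _).pow_left _).eq]
    have e4 : u ^ (c * l ^ 2 * j) * (u ^ j)⁻¹ =
        b ^ i * ((b⁻¹) ^ (a * l ^ 2 * j) * (b ^ l) ^ i)⁻¹ := by
      have e5 : u ^ (c * l ^ 2 * j) = u ^ j * b ^ i * ((b⁻¹) ^ (a * l ^ 2 * j) * (b ^ l) ^ i)⁻¹ := by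
        rw [← e3]
        group
      have hcm : Commute (u ^ j) (b ^ i * ((b⁻¹) ^ (a * l ^ 2 * j) * (b ^ l) ^ i)⁻¹) :=
        (hucen _).pow_left j
      rw [e5, mul_assoc (u ^ j), hcm.eq, mul_inv_cancel_right]
    rw [e4, ← pow_mul, ← zpow_natCast b i, ← zpow_natCast b (l * i), inv_pow, ← zpow_natCast b (a * l ^ 2 * j),
      mul_inv_rev, inv_inv, ← zpow_neg, ← zpow_add, ← zpow_add]
    congr 1
    ring
  have hkey1 : u ^ (c * l ^ 2 * j) * (u ^ j)⁻¹ = 1 := by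
    rw [key]
    apply mc5_e6b_zpow_mem hbp hb5
    rw [← key]
    exact Subgroup.mul_mem _ (Subgroup.pow_mem _ hu5 _) (Subgroup.inv_mem _ (Subgroup.pow_mem _ hu5 _))
  have hmod2' : c * l ^ 2 * j ≡ j [MOD p] := by
    apply mc5_modEq_of_pow_mem (K := (⊥ : Subgroup G)) (u := u)
      (by rw [Subgroup.mem_bot]; exact hu1) (by rw [Subgroup.mem_bot]; exact hup)
    rw [Subgroup.mem_bot]
    exact hkey1
  have hmod2 : c * l ^ 2 ≡ 1 [MOD p] := by
    have hcop : Nat.Coprime p j := (Nat.Prime.coprime_iff_not_dvd hpp).mpr hj0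
    have h5 : c * l ^ 2 * j ≡ 1 * j [MOD p] := by rw [one_mul]; exact hmod2'
    exact Nat.ModEq.cancel_right_of_coprime (by rw [Nat.coprime_iff_gcd_eq_one] at hcop; exact hcop) h5
  -- arithmetic: `l ^ 5 = 1`
  have hll' : l * l' ≡ 1 [MOD p] := by
    rw [← ZMod.natCast_eq_natCast_iff]
    push_cast
    exact hll
  have hl5 : l ^ 5 ≡ 1 [MOD p] := by
    have h5 : c * l' * l ≡ l ^ 2 * l [MOD p] := Nat.ModEq.mul_right _ hmod1
    have h6 : c * (l * l') ≡ c * 1 [MOD p] := Nat.ModEq.mul_left _ hll'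
    have h7 : c ≡ l ^ 3 [MOD p] := by
      have e1 : c * l' * l = c * (l * l') := by ring
      have e2 : l ^ 2 * l = l ^ 3 := by ring
      rw [e1, e2] at h5
      rw [mul_one] at h6
      exact h6.symm.trans h5
    have h8 : c * l ^ 2 ≡ l ^ 3 * l ^ 2 [MOD p] := Nat.ModEq.mul_right _ h7
    have e3 : l ^ 5 = l ^ 3 * l ^ 2 := by ring
    rw [e3]
    exact h8.symm.trans hmod2
  have hdvd := mc5_dvd_of_pow_modEq hl hl5
  have h9 := Nat.le_of_dvd (by norm_num) hdvd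
  -- `p - 1 ∣ 5`, `5 ≤ p`: `p = 6`, not prime
  have h10 : p = 6 := by
    have h11 : p - 1 = 1 ∨ p - 1 = 5 := by
      have := (Nat.dvd_prime (by norm_num : Nat.Prime 5)).mp hdvd
      exact this
    omega
  rw [h10] at hpp
  exact absurd hpp (by norm_num)

end Cfsg.Agent.MC5
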