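import Mathlib
import Cfsg.Agent.MC5.EndA
import Cfsg.Agent.MC5.Blackburn

set_option autoImplicit false

/-!
# S5316 (project MC5): the endgame `n = 6`, case (III) (`mc5_end6_III`)
-/

namespace Cfsg.Agent.MC5

open scoped commutatorElement
open Cfsg.Agent.Helper4.MC

section gen

variable {Q : Type*} [Group Q]

theorem mc5_comm_mul_left (a b c : Q) : ⁅a * b, c⁆ = a * ⁅b, c⁆ * a⁻¹ * ⁅a, c⁆ := by
  simp only [commutatorElement_def]
  group

theorem mc5_comm_mul_right (a b c : Q) : ⁅a, b * c⁆ = ⁅a, b⁆ * (b * ⁅a, c⁆ * b⁻¹) := by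
  simp only [commutatorElement_def]
  group

/-- `mc5_bil` with the weaker hypothesis that `t` commutes with `x ^ a * u` only -/
theorem mc5_bil' {x y u t : Q} (h1 : Commute ⁅x, y⁆ x) (h2 : Commute ⁅x, y⁆ y) (hu : Commute u y)
    (a b : ℕ) (ht : Commute t (x ^ a * u)) : ⁅x ^ a * u, y ^ b * t⁆ = ⁅x, y⁆ ^ (a * b) := by
  have hub : Commute u (y ^ b) := hu.pow_right b
  have e1 : ⁅x ^ a * u, y ^ b * t⁆ = ⁅x ^ a * u, y ^ b⁆ := by
    simp only [commutatorElement_def]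
    calc x ^ a * u * (y ^ b * t) * (x ^ a * u)⁻¹ * (y ^ b * t)⁻¹
        = x ^ a * u * y ^ b * (t * (x ^ a * u)⁻¹) * t⁻¹ * (y ^ b)⁻¹ := by group
      _ = x ^ a * u * y ^ b * ((x ^ a * u)⁻¹ * t) * t⁻¹ * (y ^ b)⁻¹ := by rw [ht.inv_right.eq]
      _ = x ^ a * u * y ^ b * (x ^ a * u)⁻¹ * (y ^ b)⁻¹ := by group
  have e2 : ⁅x ^ a * u, y ^ b⁆ = ⁅x ^ a, y ^ b⁆ := by
    simp only [commutatorElement_def]
    calc x ^ a * u * y ^ b * (x ^ a * u)⁻¹ * (y ^ b)⁻¹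
        = x ^ a * (u * y ^ b) * u⁻¹ * (x ^ a)⁻¹ * (y ^ b)⁻¹ := by group
      _ = x ^ a * (y ^ b * u) * u⁻¹ * (x ^ a)⁻¹ * (y ^ b)⁻¹ := by rw [hub.eq]
      _ = x ^ a * y ^ b * (x ^ a)⁻¹ * (y ^ b)⁻¹ := by group
  rw [e1, e2]
  exact mc5_comm_pow_pow h1 h2 a b

end gen

universe u
variable {G : Type u} [Group G] [Finite G] {p n : ℕ} [Fact p.Prime]

theorem mc5_end6_III (hp : 5 ≤ p) (hG : IsMC p 6 G) (hexc : twoStep G 4 ≠ twoStep G 2)
    (f : G → G) (hf : AutOn (lev G 1) f)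
    (l l' : ℕ) (hl : orderOf (l : ZMod p) = p - 1) (hll : (l : ZMod p) * (l' : ZMod p) = 1)
    (v d : G) (hv : v ∈ lev G 1) (hv' : v ∉ gam G 2)
    (H : Subgroup G) (hH : H ≤ gam G 3) (hHc : Nat.card H = p ^ 2) (hHv : ∀ h ∈ H, Commute h v)
    (hHZ : gam G 5 ≤ H) (hCv : ∀ u ∈ gam G 2, Commute u v → u ∈ H)
    (h1 : f v * (v ^ l')⁻¹ ∈ gam G 3)
    (h2 : ∀ z ∈ gam G 3, f z * (z ^ (l ^ 2))⁻¹ ∈ H)
    (h3 : d ∈ H) (h3' : d ∉ gam G 5) (h3'' : f d = d)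
    (h4 : ∀ a ∈ gam G 5, f a = a ^ l) : False := by
  have hpp := (Fact.out : p.Prime)
  have hn4 : 4 ≤ 6 := by norm_num
  have hexc' : twoStep G (6 - 2) ≠ twoStep G 2 := by
    simpa only [Nat.reduceSub] using hexc
  -- commutator facts
  have hF1 : ∀ a ∈ lev G 1, ∀ u ∈ gam G 2, ⁅a, u⁆ ∈ gam G 4 := by
    intro a ha u hu
    have hle := Cfsg.Agent.Helper8.MC.lev_comm_gam_le' hG hn4 (i := 1) (j := 2) le_rfl le_rfl
      (by norm_num)
    have := hle (Subgroup.commutator_mem_commutator ha hu)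
    simpa only [Nat.reduceAdd] using this
  have hF1' : ∀ a ∈ lev G 1, ∀ z ∈ gam G 3, ⁅a, z⁆ ∈ gam G 5 := by
    intro a ha z hz
    have hle := Cfsg.Agent.Helper8.MC.lev_comm_gam_le' hG hn4 (i := 1) (j := 3) le_rfl
      (by norm_num) (by norm_num)
    have := hle (Subgroup.commutator_mem_commutator ha hz)
    simpa only [Nat.reduceAdd] using this
  have hF22 : ∀ a ∈ gam G 2, ∀ b ∈ gam G 2, ⁅a, b⁆ ∈ gam G 4 := by
    intro a ha b hb
    have := comm_mem_gam (G := G) (i := 2) (j := 2) (by norm_num) (by norm_num) ha hb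
    simpa only [Nat.reduceAdd] using this
  have hF23 : ∀ a ∈ gam G 2, ∀ b ∈ gam G 3, ⁅a, b⁆ ∈ gam G 5 := by
    intro a ha b hb
    have := comm_mem_gam (G := G) (i := 2) (j := 3) (by norm_num) (by norm_num) ha hb
    simpa only [Nat.reduceAdd] using this
  have hF24 : ∀ a ∈ gam G 2, ∀ b ∈ gam G 4, Commute a b := by
    intro a ha b hb
    have := comm_mem_gam (G := G) (i := 2) (j := 4) (by norm_num) (by norm_num) ha hb
    simp only [Nat.reduceAdd] at this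
    rw [hG.gam_eq_bot le_rfl, Subgroup.mem_bot, commutatorElement_eq_one_iff_commute] at this
    exact this
  have hF33 : ∀ a ∈ gam G 3, ∀ b ∈ gam G 3, Commute a b := by
    intro a ha b hb
    have := comm_mem_gam (G := G) (i := 3) (j := 3) (by norm_num) (by norm_num) ha hb
    simp only [Nat.reduceAdd] at this
    rw [hG.gam_eq_bot le_rfl, Subgroup.mem_bot, commutatorElement_eq_one_iff_commute] at this
    exact this
  have hcen5 : ∀ a ∈ gam G 5, ∀ g : G, Commute a g := by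
    intro a ha g
    have hc : a ∈ Subgroup.center G := by
      rw [hG.center_eq]
      exact ha
    exact (Subgroup.mem_center_iff.mp hc g).symm
  have h32 : gam G 3 ≤ gam G 2 := gam_anti (by norm_num)
  have h43 : gam G 4 ≤ gam G 3 := gam_anti (by norm_num)
  have h54 : gam G 5 ≤ gam G 4 := gam_anti (by norm_num)
  have h21 : gam G 2 ≤ lev G 1 := by
    rw [lev_one]
    exact gam_two_le_twoStep le_rfl
  have hv2 : v ∉ lev G (1 + 1) := by
    rw [lev_of_two_le G (by norm_num)]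
    exact hv'
  -- (B2)
  have hB2 : ∀ i, 1 ≤ i → i + 3 ≤ 6 → ∀ x ∈ lev G i, x ∉ lev G (i + 1) →
      ∀ y ∈ gam G (6 - 1 - i), y ∉ gam G (6 - i) → ⁅x, y⁆ ≠ 1 :=
    fun i hi hin x hx hx' y hy hy' => mc5_exc_pairing hG le_rfl hexc' hi hin hx hx' hy hy'
  -- S1: `g₁ = ⟨v⟩ g₂` and `[g₁, g₁] ≤ g₄`
  have hlev : lev G 1 = Subgroup.zpowers v ⊔ lev G (1 + 1) :=
    hG.lev_eq_zpowers_sup hn4 (by norm_num) hv hv2
  rw [lev_of_two_le G (by norm_num : 2 ≤ 1 + 1)] at hlev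
  simp only [Nat.reduceAdd] at hlev
  have hK4 : ∀ a ∈ lev G 1, ∀ b ∈ lev G 1, ⁅a, b⁆ ∈ gam G 4 := by
    intro a ha b hb
    have ha' : a ∈ ((Subgroup.zpowers v ⊔ gam G 2 : Subgroup G) : Set G) := by
      rw [← hlev]
      exact ha
    have hb' : b ∈ ((Subgroup.zpowers v ⊔ gam G 2 : Subgroup G) : Set G) := by
      rw [← hlev]
      exact hb
    rw [Subgroup.mul_normal] at ha' hb'
    obtain ⟨α, hα, u, hu, rfl⟩ := Set.mem_mul.mp ha'
    obtain ⟨β, hβ, u', hu', rfl⟩ := Set.mem_mul.mp hb'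
    have hα1 : α ∈ lev G 1 := (Subgroup.zpowers_le.mpr hv) hα
    have hβ1 : β ∈ lev G 1 := (Subgroup.zpowers_le.mpr hv) hβ
    have hαβ : ⁅α, β⁆ = 1 := by
      rw [commutatorElement_eq_one_iff_commute]
      obtain ⟨i, rfl⟩ := Subgroup.mem_zpowers_iff.mp hα
      obtain ⟨j, rfl⟩ := Subgroup.mem_zpowers_iff.mp hβ
      exact (Commute.refl v).zpow_zpow i j
    rw [mc5_comm_mul_left]
    refine Subgroup.mul_mem _ ((gam_normal 4).conj_mem _ ?_ α) ?_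
    · rw [mc5_comm_mul_right]
      refine Subgroup.mul_mem _ ?_ ((gam_normal 4).conj_mem _ (hF22 u hu u' hu') β)
      rw [← commutatorElement_inv β u]
      exact Subgroup.inv_mem _ (hF1 β hβ1 u hu)
    · rw [mc5_comm_mul_right, hαβ, one_mul]
      exact (gam_normal 4).conj_mem _ (hF1 α hα1 u' hu') β
  -- S2: `H ⊓ g₄ ≤ g₅`, so `d ∉ g₄`
  have hH45 : ∀ h ∈ H, h ∈ gam G 4 → h ∈ gam G 5 := by
    intro h hh hh4
    by_contra hh5
    exact hB2 1 le_rfl (by norm_num) v hv hv2 h hh4 hh5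
      (by rw [commutatorElement_eq_one_iff_commute]; exact (hHv h hh).symm)
  have hd4 : d ∉ gam G 4 := fun hd4 => h3' (hH45 d h3 hd4)
  -- S3: `z₀ ∈ g₃` not commuting with `v`
  obtain ⟨z0, hz0, hz0v⟩ : ∃ z0 ∈ gam G 3, ⁅z0, v⁆ ≠ 1 := by
    by_contra hno
    push Not at hno
    have hle : gam G 3 ≤ H := fun z hz =>
      hCv z (h32 hz) (by rw [← commutatorElement_eq_one_iff_commute]; exact hno z hz)
    have hc := Subgroup.card_le_of_le hle
    rw [hHc, hG.card_gam (i := 3) (by norm_num) (by norm_num)] at hc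
    simp only [Nat.reduceSub] at hc
    exact absurd (Nat.pow_lt_pow_right hpp.one_lt (show 2 < 3 by norm_num)) (not_lt.mpr hc)
  have hζ5 : ⁅z0, v⁆ ∈ gam G 5 := by
    rw [← commutatorElement_inv v z0]
    exact Subgroup.inv_mem _ (hF1' v hv z0 hz0)
  have hcard5 : Nat.card (gam G 5) = p * Nat.card (⊥ : Subgroup G) := by
    rw [hG.card_gam (i := 5) (by norm_num) (by norm_num), Subgroup.card_bot]
    simp only [Nat.reduceSub]
    ring
  -- S4: `y ∈ g₂ ∖ g₃`, `k₀ = ⁅y, v⁆ ∈ g₄ ∖ g₅`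
  obtain ⟨y, hy2, hy3⟩ := SetLike.exists_of_lt (hG.gam_lt (i := 2) (by norm_num) (by norm_num))
  simp only [Nat.reduceAdd] at hy3
  have hk4 : ⁅y, v⁆ ∈ gam G 4 := by
    rw [← commutatorElement_inv v y]
    exact Subgroup.inv_mem _ (hF1 v hv y hy2)
  have hk5 : ⁅y, v⁆ ∉ gam G 5 := by
    intro hk5
    obtain ⟨j, hj⟩ := mc5_exists_pow_mem (p := p) (A := gam G 5) (K := ⊥) bot_le hcard5
      (y := ⁅z0, v⁆) hζ5 (by rw [Subgroup.mem_bot]; exact hz0v) (z := ⁅y, v⁆) hk5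
    rw [Subgroup.mem_bot, mul_inv_eq_one] at hj
    have hpow : ⁅z0 ^ j, v⁆ = ⁅z0, v⁆ ^ j := by
      have := mc5_comm_pow_pow (hcen5 _ hζ5 z0) (hcen5 _ hζ5 v) j 1
      rwa [pow_one, mul_one] at this
    have hinv : ⁅(z0 ^ j)⁻¹, v⁆ = (⁅z0, v⁆ ^ j)⁻¹ := by
      have e : ⁅(z0 ^ j)⁻¹, v⁆ = (z0 ^ j)⁻¹ * ⁅z0 ^ j, v⁆⁻¹ * z0 ^ j := by
        simp only [commutatorElement_def]
        group
      rw [e, hpow]
      have hc := hcen5 _ (Subgroup.inv_mem _ (Subgroup.pow_mem _ hζ5 j)) (z0 ^ j)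
      rw [mul_assoc, hc.eq, inv_mul_cancel_left]
    have hcomm : ⁅y * (z0 ^ j)⁻¹, v⁆ = 1 := by
      rw [mc5_comm_mul_left, hinv, ← hj]
      have hc := hcen5 _ (Subgroup.inv_mem _ hk5) y
      rw [← hc.eq, mul_inv_cancel_right, inv_mul_cancel]
    have hmem : y * (z0 ^ j)⁻¹ ∈ H :=
      hCv _ (Subgroup.mul_mem _ hy2 (Subgroup.inv_mem _ (Subgroup.pow_mem _ (h32 hz0) j)))
        (by rw [← commutatorElement_eq_one_iff_commute]; exact hcomm)
    apply hy3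
    have e : y = y * (z0 ^ j)⁻¹ * z0 ^ j := by group
    rw [e]
    exact Subgroup.mul_mem _ (hH hmem) (Subgroup.pow_mem _ hz0 j)
  -- S5: `g₂` is invariant
  have hKinv := hf.inv_commutator (A := lev G 1) (B := lev G 1) le_rfl le_rfl hf.mem hf.mem
  have hKle : ⁅lev G 1, lev G 1⁆ ≤ lev G 1 := by
    rw [Subgroup.commutator_le]
    intro a ha b hb
    exact h21 (h32 (h43 (hK4 a ha b hb)))
  have hk0K : ⁅y, v⁆ ∈ ⁅lev G 1, lev G 1⁆ := Subgroup.commutator_mem_commutator (h21 hy2) hv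
  have hinv2 : ∀ u ∈ gam G 2, f u ∈ gam G 2 := by
    intro u hu
    have hc := hf.inv_centralizer hKle hKinv (h21 hu) (fun k hk => by
      have hk4' : k ∈ gam G 4 := by
        have hle : ⁅lev G 1, lev G 1⁆ ≤ gam G 4 := by
          rw [Subgroup.commutator_le]
          exact hK4
        exact hle hk
      exact hF24 u hu k hk4')
    have hfu1 : f u ∈ lev G 1 := hf.mem u (h21 hu)
    by_contra hfu2
    have hfu2' : f u ∉ lev G (1 + 1) := by
      rw [lev_of_two_le G (by norm_num)]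
      exact hfu2
    exact hB2 1 le_rfl (by norm_num) (f u) hfu1 hfu2' ⁅y, v⁆ hk4 hk5
      (by rw [commutatorElement_eq_one_iff_commute]; exact hc _ hk0K)
  -- S6: `f y = y ^ c * y₃`
  have hcard23 : Nat.card (gam G 2) = p * Nat.card (gam G 3) := by
    rw [hG.card_gam (i := 2) (by norm_num) (by norm_num),
      hG.card_gam (i := 3) (by norm_num) (by norm_num)]
    simp only [Nat.reduceSub]
    ring
  obtain ⟨c, hc⟩ := mc5_exists_pow_mem (p := p) (A := gam G 2) (K := gam G 3) h32 hcard23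
    (y := y) hy2 hy3 (z := f y) (hinv2 y hy2)
  obtain ⟨y3, hy3', hfy⟩ : ∃ y3 ∈ gam G 3, f y = y ^ c * y3 := by
    obtain ⟨h5, h6⟩ := mc5_right_form hc
    exact ⟨_, h5, h6⟩
  obtain ⟨v3, hv3, hfv⟩ : ∃ v3 ∈ gam G 3, f v = v ^ l' * v3 := by
    obtain ⟨h5, h6⟩ := mc5_right_form h1
    exact ⟨_, h5, h6⟩
  have hd3 : d ∈ gam G 3 := hH h3
  have hd1 : d ∈ lev G 1 := h21 (h32 hd3)
  have hy1 : y ∈ lev G 1 := h21 hy2
  -- relation A: `c ≡ l`
  have hyd5 : ⁅y, d⁆ ∈ gam G 5 := hF23 y hy2 d hd3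
  have hyd1 : ⁅y, d⁆ ≠ 1 := by
    have hy2' : y ∈ lev G 2 := by rw [lev_of_two_le G le_rfl]; exact hy2
    have hy3'' : y ∉ lev G (2 + 1) := by
      rw [lev_of_two_le G (by norm_num)]
      exact hy3
    exact hB2 2 (by norm_num) (by norm_num) y hy2' hy3'' d hd3 hd4
  have hrelA : f ⁅y, d⁆ = ⁅y, d⁆ ^ (c * 1) := by
    rw [hf.map_comm hy1 hd1, hfy, h3'']
    have e : ⁅y ^ c * y3, d⁆ = ⁅y ^ c * y3, d ^ 1 * 1⁆ := by rw [pow_one, mul_one]
    rw [e]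
    exact mc5_bil (hcen5 _ hyd5 _) (hcen5 _ hyd5 _) (hF33 y3 hy3' d hd3)
      (fun q => Commute.one_left q) c 1
  have hmodA : c ≡ l [MOD p] := by
    apply mc5_modEq_of_pow_mem (K := (⊥ : Subgroup G)) (u := ⁅y, d⁆)
      (by rw [Subgroup.mem_bot]; exact hyd1) (mc5_pow_mem_of_card bot_le hcard5 hyd5)
    rw [Subgroup.mem_bot, mul_inv_eq_one, ← h4 _ hyd5, hrelA, mul_one]
  -- relation B: `c l' ≡ l ^ 2`
  have hfk : f ⁅y, v⁆ = ⁅f y, f v⁆ := hf.map_comm hy1 hv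
  have hfk4 : f ⁅y, v⁆ ∈ gam G 4 := by
    rw [hfk, ← commutatorElement_inv (f v) (f y)]
    exact Subgroup.inv_mem _ (hF1 _ (hf.mem v hv) _ (hinv2 y hy2))
  have hrelB : QuotientGroup.mk' (gam G 5) (f ⁅y, v⁆) =
      (QuotientGroup.mk' (gam G 5) ⁅y, v⁆) ^ (c * l') := by
    rw [hfk, hfy, hfv]
    simp only [map_commutatorElement, map_mul, map_pow]
    have hcen : ∀ q, Commute ⁅QuotientGroup.mk' (gam G 5) y, QuotientGroup.mk' (gam G 5) v⁆ q := by
      intro q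
      rw [← map_commutatorElement]
      exact mc5_central_mk (i := 4) (by norm_num) hk4 q
    have hcomm_of : ∀ a b : G, ⁅a, b⁆ ∈ gam G 5 →
        Commute (QuotientGroup.mk' (gam G 5) a) (QuotientGroup.mk' (gam G 5) b) := by
      intro a b hab
      have h1' : QuotientGroup.mk' (gam G 5) ⁅a, b⁆ = 1 := (QuotientGroup.eq_one_iff _).mpr hab
      rw [map_commutatorElement, commutatorElement_eq_one_iff_commute] at h1'
      exact h1'
    refine mc5_bil' (hcen _) (hcen _) ?_ c l' ?_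
    · apply hcomm_of
      rw [← commutatorElement_inv v y3]
      exact Subgroup.inv_mem _ (hF1' v hv y3 hy3')
    · have : Commute (QuotientGroup.mk' (gam G 5) v3) (QuotientGroup.mk' (gam G 5) (y ^ c * y3)) := by
        apply hcomm_of
        rw [← commutatorElement_inv (y ^ c * y3) v3]
        exact Subgroup.inv_mem _ (hF23 _ (Subgroup.mul_mem _ (Subgroup.pow_mem _ hy2 c) (h32 hy3'))
          v3 hv3)
      simpa only [map_mul, map_pow] using this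
  have hmemB1 : f ⁅y, v⁆ * (⁅y, v⁆ ^ (c * l'))⁻¹ ∈ gam G 5 := by
    rw [← QuotientGroup.eq_one_iff]
    show QuotientGroup.mk' (gam G 5) (f ⁅y, v⁆ * (⁅y, v⁆ ^ (c * l'))⁻¹) = 1
    rw [map_mul, map_inv, map_pow, hrelB, mul_inv_cancel]
  have hmemB2 : f ⁅y, v⁆ * (⁅y, v⁆ ^ (l ^ 2))⁻¹ ∈ gam G 5 := by
    apply hH45 _ (h2 _ (h43 hk4))
    exact Subgroup.mul_mem _ hfk4 (Subgroup.inv_mem _ (Subgroup.pow_mem _ hk4 _))
  have hcard45 : Nat.card (gam G 4) = p * Nat.card (gam G 5) := by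
    rw [hG.card_gam (i := 4) (by norm_num) (by norm_num),
      hG.card_gam (i := 5) (by norm_num) (by norm_num)]
    simp only [Nat.reduceSub]
    ring
  have hmodB : c * l' ≡ l ^ 2 [MOD p] := by
    apply mc5_modEq_of_pow_mem (K := gam G 5) (u := ⁅y, v⁆) hk5
      (mc5_pow_mem_of_card h54 hcard45 hk4)
    have e : ⁅y, v⁆ ^ (c * l') * (⁅y, v⁆ ^ (l ^ 2))⁻¹ =
        (f ⁅y, v⁆ * (⁅y, v⁆ ^ (c * l'))⁻¹)⁻¹ * (f ⁅y, v⁆ * (⁅y, v⁆ ^ (l ^ 2))⁻¹) := by
      rw [mul_inv_rev, inv_inv, mul_assoc, inv_mul_cancel_left]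
    rw [e]
    exact Subgroup.mul_mem _ (Subgroup.inv_mem _ hmemB1) hmemB2
  -- arithmetic
  have hll' : l * l' ≡ 1 [MOD p] := by
    rw [← ZMod.natCast_eq_natCast_iff]
    push_cast
    exact hll
  have hl2 : l ^ 2 ≡ 1 [MOD p] := by
    have h5 : c * l' ≡ l * l' [MOD p] := Nat.ModEq.mul_right _ hmodA
    exact hmodB.symm.trans (h5.trans hll')
  have hdvd := mc5_dvd_of_pow_modEq hl hl2
  have := Nat.le_of_dvd (by norm_num) hdvd
  omega

end Cfsg.Agent.MC5
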