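import Mathlib
import Cfsg.Agent.MC5.Eig
import Cfsg.Agent.MC5.Blackburn

set_option autoImplicit false
set_option linter.unusedVariables false
set_option linter.style.haveILetI false

/-!
# S5316 project: the endgame `n ≥ 8`, case (II) (`v ∈ C ∖ g₁`)

`mc5_end8_II`: with `R = ⟨v⟩ g₃`, `f` an automorphism of `R` with `f v ≡ v ^ l'` (mod `g₃`),
`f z ≡ z ^ (l ^ 2)` (mod `Z₂`) on `Z₃`, `f = l` on `A₁ = [Z₃, v]` and a fixed point `d ∈ Z₂ ∖ A₁`:
contradiction.  The chain `u₀ ∈ g₃ ∖ g₄`, `u_{k+1} = ⁅u_k, v⁆` has eigenvalues `e l' ^ k`; on `Z₃` this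
gives `e = l ^ (n - 4)`, the exceptional pairing `g₃ × γ_{n-4} → Z₁` gives the eigenvalue `l ^ (n - 1)` on
`Z₁`, and the fixed point `d` forces `l ^ (n - 1) = 1`, but `n - 1` is odd.
-/

namespace Cfsg.Agent.MC5

open scoped commutatorElement
open Cfsg.Agent.Helper4.MC Cfsg.Agent.Helper8.MC Cfsg.Agent.Helper8.HP Cfsg.Agent.Helper8.Engel

section pure
variable {Q : Type*} [Group Q]

theorem mc5_e8_comm_left {U' Y X : Q} (h1 : Commute U' X) (h2 : Commute U' ⁅Y, X⁆) :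
    ⁅U' * Y, X⁆ = ⁅Y, X⁆ := by
  rw [comm_mul_left_eq, commutatorElement_eq_one_iff_commute.2 h1, mul_one,
    conj_eq_of_commute h2]

theorem mc5_e8_comm_right {Y W Z : Q} (h1 : Commute Y W) (h2 : Commute W ⁅Y, Z⁆) :
    ⁅Y, W * Z⁆ = ⁅Y, Z⁆ := by
  rw [comm_mul_right_eq, commutatorElement_eq_one_iff_commute.2 h1, one_mul,
    conj_eq_of_commute h2]

theorem mc5_e8_calc {U U' V W : Q} (a b : ℕ) (hU' : ∀ g, Commute U' g) (hUW : Commute U W)
    (hc : ∀ g, Commute ⁅U, V⁆ g) : ⁅U' * U ^ a, W * V ^ b⁆ = ⁅U, V⁆ ^ (a * b) := by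
  have e1 : ⁅U ^ a, V ^ b⁆ = ⁅U, V⁆ ^ (a * b) := mc5_comm_pow_pow (hc U) (hc V) a b
  have h4 : Commute W ⁅U ^ a, V ^ b⁆ := by
    rw [e1]
    exact ((hc W).pow_left _).symm
  rw [mc5_e8_comm_left (hU' _) (hU' _), mc5_e8_comm_right (hUW.pow_left a) h4, e1]

/-- one step of the eigenvalue recursion: `f u ≡ u ^ a` (mod `γ_{j+1}`), `f v ≡ v ^ b` (mod `γ₃`)
give `f ⁅u, v⁆ ≡ ⁅u, v⁆ ^ (a b)` (mod `γ_{j+2}`). -/
theorem mc5_e8_step {G : Type*} [Group G] {j : ℕ} (hj : 1 ≤ j) {R : Subgroup G} {f : G → G}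
    (hf : AutOn R f) {u v : G} (huR : u ∈ R) (hvR : v ∈ R) (hu : u ∈ gam G j) {a b : ℕ}
    (h1 : f u * (u ^ a)⁻¹ ∈ gam G (j + 1)) (h2 : f v * (v ^ b)⁻¹ ∈ gam G 3) :
    f ⁅u, v⁆ * (⁅u, v⁆ ^ (a * b))⁻¹ ∈ gam G (j + 2) := by
  set N := gam G (j + 2) with hN
  haveI hNn : N.Normal := gam_normal _
  set π := QuotientGroup.mk' N with hπ
  have hker : ∀ x : G, π x = 1 ↔ x ∈ N := fun x => QuotientGroup.eq_one_iff x
  have hcen : ∀ y ∈ gam G (j + 1), ∀ g : G ⧸ N, Commute (π y) g := by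
    intro y hy g
    obtain ⟨g0, rfl⟩ := QuotientGroup.mk'_surjective N g
    have h3 : π ⁅y, g0⁆ = 1 := (hker _).2 (comm_mem_gam_succ' (by omega) g0 hy)
    rw [map_commutatorElement, commutatorElement_eq_one_iff_commute] at h3
    exact h3
  have e1 : π (f u) = π (f u * (u ^ a)⁻¹) * π u ^ a := by
    rw [← map_pow, ← map_mul, inv_mul_cancel_right]
  have e2 : π (f v) = π (f v * (v ^ b)⁻¹) * π v ^ b := by
    rw [← map_pow, ← map_mul, inv_mul_cancel_right]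
  have hUW : Commute (π u) (π (f v * (v ^ b)⁻¹)) := by
    have h5 : ⁅u, f v * (v ^ b)⁻¹⁆ ∈ N :=
      gam_anti (by omega) (comm_mem_gam (G := G) (i := j) (j := 3) hj (by omega) hu h2)
    have h3 : π ⁅u, f v * (v ^ b)⁻¹⁆ = 1 := (hker _).2 h5
    rw [map_commutatorElement, commutatorElement_eq_one_iff_commute] at h3
    exact h3
  have huv : ⁅u, v⁆ ∈ gam G (j + 1) := comm_mem_gam_succ' hj v hu
  have key : π (f ⁅u, v⁆) = π ⁅u, v⁆ ^ (a * b) := by
    rw [hf.map_comm huR hvR, map_commutatorElement, e1, e2, map_commutatorElement]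
    refine mc5_e8_calc a b (hcen _ h1) hUW ?_
    rw [← map_commutatorElement]
    exact hcen _ huv
  rw [← hker, map_mul, map_inv, map_pow, key, mul_inv_cancel]

end pure

universe u

variable {G : Type u} [Group G] [Finite G] {p n : ℕ} [Fact p.Prime]

theorem mc5_e8_pow_mem (hG : IsMC p n G) {i : ℕ} (hi : 2 ≤ i) {z : G} (hz : z ∈ gam G i) :
    z ^ p ∈ gam G (i + 1) := by
  have hp2 : 2 ≤ p := (Fact.out : p.Prime).two_le
  have := Cfsg.Agent.Lead.MC.agemo_gam_le hG i hi (pow_mem_agemo p hz)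
  exact gam_anti (by omega) this

/-- `ad v` is injective on the sections `γ_j / γ_{j+1}`, `2 ≤ j ≤ n - 3`, for `v ∉ K₂`. -/
theorem mc5_e8_adv (hG : IsMC p n G) {v : G} (hv' : v ∉ twoStep G 2) {j : ℕ} (hj : 2 ≤ j)
    (hjn : j + 3 ≤ n) {u : G} (hu : u ∈ gam G j) (hu' : u ∉ gam G (j + 1)) :
    ⁅u, v⁆ ∈ gam G (j + 1) ∧ ⁅u, v⁆ ∉ gam G (j + 2) := by
  refine ⟨comm_mem_gam_succ' (by omega) v hu, fun h => hv' ?_⟩
  rw [← twoStep_eq_two hG hj hjn, hG.mem_twoStep_iff hj (by omega) hu hu' v,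
    ← commutatorElement_inv]
  exact inv_mem h

theorem mc5_end8_II (hp : 5 ≤ p) (hG : IsMC p n G) (hn : 8 ≤ n)
    (hexc : twoStep G (n - 2) ≠ twoStep G 2) (v d : G)
    (f : G → G) (hf : AutOn (Subgroup.zpowers v ⊔ gam G 3) f)
    (l l' : ℕ) (hl : orderOf (l : ZMod p) = p - 1) (hll : (l : ZMod p) * (l' : ZMod p) = 1)
    (hv : v ∈ twoStep G (n - 2)) (hv' : v ∉ twoStep G 2)
    (h1 : f v * (v ^ l')⁻¹ ∈ gam G 3)
    (h2 : ∀ z ∈ gam G (n - 3), f z * (z ^ (l ^ 2))⁻¹ ∈ gam G (n - 2))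
    (h3 : d ∈ gam G (n - 2)) (h3' : ∀ x ∈ gam G (n - 3), d ≠ ⁅x, v⁆) (h3'' : f d = d)
    (h4 : ∀ x ∈ gam G (n - 3), f ⁅x, v⁆ = ⁅x, v⁆ ^ l) : False := by
  have hpp : p.Prime := Fact.out
  obtain ⟨hev, hnp⟩ := mc5_exc_even hG (by omega) hexc
  have hcen := mc5_exc_centralizer hG (by omega) hexc
  obtain ⟨m, rfl⟩ : ∃ m, n = m + 8 := ⟨n - 8, by omega⟩
  rw [show m + 8 - 3 = m + 5 by omega] at h2 h3' h4 hcen
  rw [show m + 8 - 2 = m + 6 by omega] at h2 h3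
  set R := Subgroup.zpowers v ⊔ gam G 3 with hR
  have hvR : v ∈ R := Subgroup.mem_sup_left (Subgroup.mem_zpowers v)
  have hgR : ∀ {j : ℕ}, 3 ≤ j → gam G j ≤ R := fun hj => (gam_anti hj).trans le_sup_right
  have hbot : ∀ {i : ℕ}, m + 8 ≤ i → ∀ {z : G}, z ∈ gam G i → z = 1 := by
    intro i hi z hz
    rw [hG.gam_eq_bot hi, Subgroup.mem_bot] at hz
    exact hz
  have hcenter : ∀ z ∈ gam G (m + 7), ∀ g : G, Commute z g := by
    intro z hz g
    have hzc : z ∈ Subgroup.center G := by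
      rw [hG.center_eq]; exact gam_anti (by omega) hz
    exact (Subgroup.mem_center_iff.1 hzc g).symm
  -- `Z₃` is invariant
  have hZ3 : ∀ z ∈ gam G (m + 5), f z ∈ gam G (m + 5) := by
    intro z hz
    have e : f z = f z * (z ^ (l ^ 2))⁻¹ * z ^ (l ^ 2) := by rw [inv_mul_cancel_right]
    rw [e]
    exact mul_mem (gam_anti (by omega) (h2 z hz)) (pow_mem hz _)
  -- `g₃ = C_R(Z₃)` is invariant
  have hg3 : ∀ w ∈ gam G 3, f w ∈ gam G 3 := by
    intro w hw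
    rw [← hcen, Subgroup.mem_centralizer_iff]
    intro k hk
    have hc : ∀ k ∈ gam G (m + 5), Commute w k := by
      intro k hk
      have h5 := comm_mem_gam (G := G) (i := 3) (j := m + 5) (by omega) (by omega) hw hk
      exact commutatorElement_eq_one_iff_commute.1 (hbot (by omega) h5)
    exact ((hf.inv_centralizer (hgR (by omega)) hZ3 (hgR le_rfl hw) hc) k hk).eq.symm
  -- the chain
  obtain ⟨x, hx, hx'⟩ := SetLike.exists_of_lt (hG.gam_lt (i := 3) (by omega) (by omega))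
  set u : ℕ → G := fun k => (fun w => ⁅w, v⁆)^[k] x with hudef
  have hu0 : u 0 = x := rfl
  have hus : ∀ k, u (k + 1) = ⁅u k, v⁆ := fun k => Function.iterate_succ_apply' _ k x
  have hmem : ∀ k, u k ∈ gam G (k + 3) := by
    intro k
    induction k with
    | zero => rw [hu0]; exact hx
    | succ k ih =>
      rw [hus]
      exact gam_anti (by omega) (comm_mem_gam_succ' (G := G) (i := k + 3) (by omega) v ih)
  have hlev : ∀ k, k ≤ m + 3 → u k ∉ gam G (k + 4) := by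
    intro k
    induction k with
    | zero => intro _; rw [hu0]; exact hx'
    | succ k ih =>
      intro hk
      have h5 := mc5_e8_adv hG hv' (j := k + 3) (by omega) (by omega) (hmem k)
        (fun h => ih (by omega) (gam_anti (by omega) h))
      rw [hus]
      exact fun h => h5.2 (gam_anti (by omega) h)
  have hu3 : ∀ k, u k ∈ gam G 3 := fun k => gam_anti (by omega) (hmem k)
  have huR : ∀ k, u k ∈ R := fun k => hgR le_rfl (hu3 k)
  -- the eigenvalue at the bottom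
  have hcard : ∀ i, 2 ≤ i → i + 1 ≤ m + 8 →
      Nat.card (gam G i) = p * Nat.card (gam G (i + 1)) := by
    intro i hi hin
    rw [hG.card_gam hi (by omega), hG.card_gam (by omega) hin, ← pow_succ']
    congr 1
    omega
  obtain ⟨e, he⟩ := mc5_exists_pow_mem (p := p) (A := gam G 3) (K := gam G 4)
    (gam_anti (by omega)) (hcard 3 (by omega) (by omega)) hx hx' (hg3 x hx)
  have hE : ∀ k, f (u k) * (u k ^ (e * l' ^ k))⁻¹ ∈ gam G (k + 4) := by
    intro k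
    induction k with
    | zero =>
      rw [hu0, pow_zero, mul_one]
      exact he
    | succ k ih =>
      have h5 := mc5_e8_step (j := k + 3) (by omega) hf (huR k) hvR (hmem k)
        (gam_anti (by omega) ih) h1
      rw [hus, pow_succ, ← mul_assoc]
      exact gam_anti (by omega) h5
  -- the eigenvalue on `Z₃ / Z₂`
  have hz1 : u (m + 2) ∈ gam G (m + 5) := hmem (m + 2)
  have hz2 : u (m + 2) ∉ gam G (m + 6) := hlev (m + 2) (by omega)
  have hmod1 : e * l' ^ (m + 2) ≡ l ^ 2 [MOD p] := by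
    apply mc5_modEq_of_pow_mem (K := gam G (m + 6)) (u := u (m + 2)) hz2
      (gam_anti (by omega) (mc5_e8_pow_mem hG (by omega) hz1))
    have a1 : f (u (m + 2)) * (u (m + 2) ^ (e * l' ^ (m + 2)))⁻¹ ∈ gam G (m + 6) :=
      gam_anti (by omega) (hE (m + 2))
    have a2 := h2 _ hz1
    have e5 : u (m + 2) ^ (e * l' ^ (m + 2)) * (u (m + 2) ^ (l ^ 2))⁻¹ =
        (f (u (m + 2)) * (u (m + 2) ^ (e * l' ^ (m + 2)))⁻¹)⁻¹ *
          (f (u (m + 2)) * (u (m + 2) ^ (l ^ 2))⁻¹) := by group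
    rw [e5]
    exact mul_mem (inv_mem a1) a2
  -- the pairing
  set y := u (m + 1) with hydef
  have hy1 : y ∈ gam G (m + 4) := hmem (m + 1)
  have hy2 : y ∉ gam G (m + 5) := hlev (m + 1) (by omega)
  have hc1 : ⁅x, y⁆ ≠ 1 := by
    apply mc5_exc_pairing hG (by omega) hexc (i := 3) (by omega) (by omega)
    · rw [lev_of_two_le G (by omega)]; exact hx
    · rw [lev_of_two_le G (by omega)]; exact hx'
    · rw [show m + 8 - 1 - 3 = m + 4 by omega]; exact hy1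
    · rw [show m + 8 - 3 = m + 5 by omega]; exact hy2
  have hcZ : ⁅x, y⁆ ∈ gam G (m + 7) :=
    gam_anti (by omega) (comm_mem_gam (G := G) (i := 3) (j := m + 4) (by omega) (by omega) hx hy1)
  have hcR : ⁅x, y⁆ ∈ R := hgR (by omega) hcZ
  have hfc : f ⁅x, y⁆ = ⁅x, y⁆ ^ (e * (e * l' ^ (m + 1))) := by
    rw [hf.map_comm (hgR le_rfl hx) (huR (m + 1))]
    obtain ⟨x₁, hx₁, ex⟩ : ∃ x₁ ∈ gam G 4, f x = x₁ * x ^ e :=
      ⟨f x * (x ^ e)⁻¹, he, by rw [inv_mul_cancel_right]⟩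
    obtain ⟨y₁, hy₁, ey⟩ : ∃ y₁ ∈ gam G (m + 5), f y = y₁ * y ^ (e * l' ^ (m + 1)) :=
      ⟨f y * (y ^ (e * l' ^ (m + 1)))⁻¹, hE (m + 1), by rw [inv_mul_cancel_right]⟩
    have hfy : f y ∈ gam G (m + 4) := by
      rw [ey]; exact mul_mem (gam_anti (by omega) hy₁) (pow_mem hy1 _)
    have c1 : Commute x₁ (f y) :=
      commutatorElement_eq_one_iff_commute.1 (hbot (by omega)
        (comm_mem_gam (G := G) (i := 4) (j := m + 4) (by omega) (by omega) hx₁ hfy))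
    have c2 : Commute x₁ ⁅x ^ e, f y⁆ :=
      (hcenter _ (gam_anti (by omega) (comm_mem_gam (G := G) (i := 3) (j := m + 4) (by omega)
        (by omega) (pow_mem hx e) hfy)) x₁).symm
    rw [ex, mc5_e8_comm_left c1 c2, ey]
    have c3 : Commute (x ^ e) y₁ :=
      commutatorElement_eq_one_iff_commute.1 (hbot (by omega)
        (comm_mem_gam (G := G) (i := 3) (j := m + 5) (by omega) (by omega) (pow_mem hx e) hy₁))
    have c4 : Commute y₁ ⁅x ^ e, y ^ (e * l' ^ (m + 1))⁆ :=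
      (hcenter _ (gam_anti (by omega) (comm_mem_gam (G := G) (i := 3) (j := m + 4) (by omega)
        (by omega) (pow_mem hx e) (pow_mem hy1 _))) y₁).symm
    rw [mc5_e8_comm_right c3 c4]
    exact mc5_comm_pow_pow (hcenter _ hcZ x) (hcenter _ hcZ y) _ _
  -- `Z₁` consists of powers of `⁅x, y⁆`
  haveI hbn : (⊥ : Subgroup G).Normal := inferInstance
  have hZ1pow : ∀ c' ∈ gam G (m + 7), ∃ t : ℕ, c' = ⁅x, y⁆ ^ t := by
    intro c' hc'
    obtain ⟨t, ht⟩ := mc5_exists_pow_mem (p := p) (A := gam G (m + 7)) (K := ⊥) bot_le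
      (by rw [hG.card_gam (by omega) (by omega), Subgroup.card_bot, mul_one,
            show m + 8 - (m + 7) = 1 by omega, pow_one])
      hcZ (by rw [Subgroup.mem_bot]; exact hc1) hc'
    rw [Subgroup.mem_bot, mul_inv_eq_one] at ht
    exact ⟨t, ht⟩
  have hfZ1 : ∀ c' ∈ gam G (m + 7), f c' = c' ^ (e * (e * l' ^ (m + 1))) := by
    intro c' hc'
    obtain ⟨t, rfl⟩ := hZ1pow c' hc'
    rw [hf.map_pow hcR t, hfc, ← pow_mul, ← pow_mul, mul_comm]
  -- `a₀ ∈ Z₂ ∖ Z₁` with eigenvalue `l`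
  set a₀ := u (m + 3) with ha₀def
  have ha1 : a₀ ∈ gam G (m + 6) := hmem (m + 3)
  have ha2 : a₀ ∉ gam G (m + 7) := hlev (m + 3) le_rfl
  have ha₀R : a₀ ∈ R := huR (m + 3)
  have hfa₀ : f a₀ = a₀ ^ l := by
    rw [ha₀def, hus (m + 2)]
    exact h4 _ hz1
  have ha₀p : a₀ ^ p ∈ gam G (m + 7) :=
    gam_anti (by omega) (mc5_e8_pow_mem hG (by omega) ha1)
  -- decompose `d`
  obtain ⟨k, hk⟩ := mc5_exists_pow_mem (p := p) (A := gam G (m + 6)) (K := gam G (m + 7))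
    (gam_anti (by omega)) (hcard (m + 6) (by omega) (by omega)) ha1 ha2 h3
  obtain ⟨c', hc', hd⟩ : ∃ c' ∈ gam G (m + 7), d = c' * a₀ ^ k :=
    ⟨d * (a₀ ^ k)⁻¹, hk, by rw [inv_mul_cancel_right]⟩
  have hc'R : c' ∈ R := hgR (by omega) hc'
  have hfd : f d = c' ^ (e * (e * l' ^ (m + 1))) * a₀ ^ (l * k) := by
    rw [hd, hf.mul c' hc'R (a₀ ^ k) (R.pow_mem ha₀R k), hfZ1 c' hc', hf.map_pow ha₀R k, hfa₀,
      ← pow_mul]
  have heq : c' ^ (e * (e * l' ^ (m + 1))) * a₀ ^ (l * k) = c' * a₀ ^ k := by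
    rw [← hfd, h3'', ← hd]
  have hmemk : a₀ ^ (l * k) * (a₀ ^ k)⁻¹ ∈ gam G (m + 7) := by
    have e6 : a₀ ^ (l * k) = (c' ^ (e * (e * l' ^ (m + 1))))⁻¹ * (c' * a₀ ^ k) := by
      rw [← heq, inv_mul_cancel_left]
    have e7 : a₀ ^ (l * k) * (a₀ ^ k)⁻¹ = (c' ^ (e * (e * l' ^ (m + 1))))⁻¹ * c' := by
      rw [e6, mul_assoc, mul_assoc, mul_inv_cancel, mul_one]
    rw [e7]
    exact mul_mem (inv_mem (pow_mem hc' _)) hc'
  have hmod2 : l * k ≡ k [MOD p] := mc5_modEq_of_pow_mem ha2 ha₀p hmemk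
  have hl1 : (l : ZMod p) ≠ 1 := by
    intro h
    rw [h, orderOf_one] at hl
    omega
  have hpk : p ∣ k := by
    have h5 : (l : ZMod p) * (k : ZMod p) = (k : ZMod p) := by
      have := (ZMod.natCast_eq_natCast_iff _ _ _).2 hmod2
      push_cast at this
      exact this
    have h6 : ((l : ZMod p) - 1) * (k : ZMod p) = 0 := by rw [sub_mul, one_mul, h5, sub_self]
    rcases mul_eq_zero.1 h6 with h7 | h7
    · exact absurd (sub_eq_zero.1 h7) hl1
    · exact (ZMod.natCast_eq_zero_iff k p).1 h7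
  -- so `d ∈ Z₁`
  have hdZ1 : d ∈ gam G (m + 7) := by
    obtain ⟨q, rfl⟩ := hpk
    rw [hd, pow_mul]
    exact mul_mem hc' (pow_mem ha₀p q)
  have hd1 : d ≠ 1 := by
    have := h3' 1 (one_mem _)
    rwa [commutatorElement_one_left] at this
  have hmod3 : e * (e * l' ^ (m + 1)) ≡ 1 [MOD p] := by
    apply mc5_modEq_of_pow_mem (K := (⊥ : Subgroup G)) (u := d)
    · rw [Subgroup.mem_bot]; exact hd1
    · rw [Subgroup.mem_bot]
      exact hbot (by omega) (mc5_e8_pow_mem hG (by omega) hdZ1)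
    · rw [Subgroup.mem_bot, pow_one, ← hfZ1 d hdZ1, h3'', mul_inv_cancel]
  -- number theory
  have key : ∀ k : ℕ, (l : ZMod p) ^ k * (l' : ZMod p) ^ k = 1 := fun k => by
    rw [← mul_pow, hll, one_pow]
  have E1 : (e : ZMod p) * (l' : ZMod p) ^ (m + 2) = (l : ZMod p) ^ 2 := by
    have := (ZMod.natCast_eq_natCast_iff _ _ _).2 hmod1
    push_cast at this
    exact this
  have E2 : (e : ZMod p) * ((e : ZMod p) * (l' : ZMod p) ^ (m + 1)) = 1 := by
    have := (ZMod.natCast_eq_natCast_iff _ _ _).2 hmod3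
    push_cast at this
    exact this
  have E3 : (e : ZMod p) = (l : ZMod p) ^ (m + 4) := by
    calc (e : ZMod p)
        = (e : ZMod p) * ((l' : ZMod p) ^ (m + 2) * (l : ZMod p) ^ (m + 2)) := by
          rw [mul_comm ((l' : ZMod p) ^ (m + 2)), key, mul_one]
      _ = (l : ZMod p) ^ 2 * (l : ZMod p) ^ (m + 2) := by rw [← mul_assoc, E1]
      _ = (l : ZMod p) ^ (m + 4) := by rw [← pow_add]; congr 1; omega
  have E4 : (l : ZMod p) ^ (m + 7) = 1 := by
    rw [E3] at E2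
    have h5 : (l : ZMod p) ^ (m + 4) * (l' : ZMod p) ^ (m + 1) = (l : ZMod p) ^ 3 := by
      rw [show m + 4 = 3 + (m + 1) by omega, pow_add, mul_assoc, key, mul_one]
    rw [h5, ← pow_add] at E2
    rwa [show m + 4 + 3 = m + 7 by omega] at E2
  have hdvd : p - 1 ∣ m + 7 := by
    rw [← hl]
    exact orderOf_dvd_of_pow_eq_one E4
  obtain ⟨q, hq⟩ := hdvd
  obtain ⟨r, hr⟩ := hev
  rcases hpp.eq_two_or_odd' with h | ⟨s, hs⟩
  · omega
  · have h5 : p - 1 = 2 * s := by omega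
    rw [h5, mul_assoc] at hq
    omega

end Cfsg.Agent.MC5
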