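import Cfsg.Agent.MC5.EndB8IIIb

set_option autoImplicit false
set_option linter.unusedVariables false
set_option linter.style.haveILetI false
set_option linter.unusedSectionVars false

/-!
# S5316 project: the endgame `mc5_end8_III` (case III, `n ≥ 8`)

Part C: the pairing `γ₃ × γ_{n-5} → γ_{n-1} = Z(G)` and the final contradiction
`l ^ m = 1` or `l ^ (m + 2) = 1` with `n = 2 m + 6 ≤ p + 1`.
-/

namespace Cfsg.Agent.MC5

open scoped commutatorElement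
open Cfsg.Agent.Helper4.MC

universe u

namespace E8C

variable {G : Type u} [Group G] [Finite G] {p a : ℕ} [Fact p.Prime] {v d : G} {f : G → G}
  {l l' : ℕ} {H : Subgroup G}

/-! #### the pairing `γ₃ × γ_{n-5} → γ_{n-1}` -/

theorem pair_mem (C : E8C p a G v d f l l' H) {x y : G} (hx : x ∈ gam G 3) (hy : y ∈ gam G a) :
    ⁅x, y⁆ ∈ gam G (a + 4) := by
  have ha := C.ha
  exact C.comm_mem3 (j := a) (by omega) le_rfl hx hy

theorem central (C : E8C p a G v d f l l' H) {z : G} (hz : z ∈ gam G (a + 4)) (g : G) :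
    Commute z g := by
  have h : z ∈ Subgroup.center G := by
    rw [C.mc.center_eq]
    have e : a + 5 - 1 = a + 4 := by omega
    rw [e]
    exact hz
  exact (Subgroup.mem_center_iff.1 h g).symm

theorem pair_mul (C : E8C p a G v d f l l' H) {x y y' : G} (hx : x ∈ gam G 3) (hy : y ∈ gam G a)
    (hy' : y' ∈ gam G a) : ⁅x, y * y'⁆ = ⁅x, y⁆ * ⁅x, y'⁆ :=
  mc5_e8c_alg2 (C.central (C.pair_mem hx hy') y).symm

theorem pair_pow (C : E8C p a G v d f l l' H) {x y : G} (hx : x ∈ gam G 3) (hy : y ∈ gam G a)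
    (k : ℕ) : ⁅x, y ^ k⁆ = ⁅x, y⁆ ^ k := by
  have hc := C.central (C.pair_mem hx hy)
  have h := mc5_comm_pow_pow (hc x) (hc y) 1 k
  rw [pow_one, one_mul] at h
  exact h

theorem pair_pow_left (C : E8C p a G v d f l l' H) {x y : G} (hx : x ∈ gam G 3)
    (hy : y ∈ gam G a) (k : ℕ) : ⁅x ^ k, y⁆ = ⁅x, y⁆ ^ k := by
  have hc := C.central (C.pair_mem hx hy)
  have h := mc5_comm_pow_pow (hc x) (hc y) k 1
  rw [pow_one, mul_one] at h
  exact h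

theorem pair_top (C : E8C p a G v d f l l' H) {x c : G} (hx : x ∈ gam G 3)
    (hc : c ∈ gam G (a + 2)) : ⁅x, c⁆ = 1 :=
  C.comm_eq_one (by norm_num) (by omega) (by omega) hx hc

/-- `⁅u, f y⁆ ^ q = ⁅u, y⁆ ^ l` if `f u ≡ u ^ q` modulo `γ₅` -/
theorem pair_eig (C : E8C p a G v d f l l' H) {q : ℕ} {u : G} (hu : u ∈ gam G 3)
    (hfu : f u * (u ^ q)⁻¹ ∈ gam G 5) (hinv : ∀ x ∈ gam G a, f x ∈ gam G a) {y : G}
    (hy : y ∈ gam G a) : ⁅u, f y⁆ ^ q = ⁅u, y⁆ ^ l := by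
  have hcy := C.pair_mem hu hy
  rw [← C.h4 _ hcy, C.aut.map_comm (C.gam_le le_rfl hu) (C.gam_le C.ha hy)]
  obtain ⟨c, hc, hfu'⟩ : ∃ c ∈ gam G 5, f u = c * u ^ q :=
    ⟨_, hfu, (inv_mul_cancel_right _ _).symm⟩
  have hY := hinv y hy
  rw [hfu']
  have hcen := C.central (C.pair_mem (Subgroup.pow_mem _ hu q) hY)
  have h1 : Commute c (f y) := commutatorElement_eq_one_iff_commute.1
    (C.comm_eq_one (by norm_num) (by have := C.ha; omega) (by omega) hc hY)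
  rw [mc5_e8c_alg1 h1 (hcen c).symm, C.pair_pow_left hu hY]

/-- an element of `γ_{n-1}` of which two powers agree -/
theorem modEq_of_pow_eq (C : E8C p a G v d f l l' H) {X : G} (hX : X ∈ gam G (a + 4))
    (hX1 : X ≠ 1) {A B : ℕ} (h : X ^ A = X ^ B) : A ≡ B [MOD p] := by
  have hXp : X ^ p ∈ (⊥ : Subgroup G) := by
    have h1 := C.pow_p_mem (i := a + 4) (by omega) hX
    rw [C.mc.gam_eq_bot (by omega)] at h1
    exact h1
  have hX' : X ∉ (⊥ : Subgroup G) := by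
    rw [Subgroup.mem_bot]; exact hX1
  apply mc5_modEq_of_pow_mem hX' hXp
  rw [h, mul_inv_cancel]
  exact Subgroup.one_mem _

/-- the main theorem in the reindexed form -/
theorem contra (C : E8C p a G v d f l l' H) : False := by
  have ha := C.ha
  obtain ⟨heven, hnp⟩ := C.even
  obtain ⟨m, hm⟩ : ∃ m, a = 2 * m + 1 := by
    obtain ⟨r, hr⟩ := heven
    exact ⟨(a - 1) / 2, by omega⟩
  have hm1 : 1 ≤ m := by omega
  have hinv_a : ∀ x ∈ gam G a, f x ∈ gam G a :=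
    C.inv_odd ((a - 3) / 2) a (by omega) (by omega)
  have hd2 : d ∈ gam G (a + 2) := C.hH C.h3
  -- `w` of level `n - 5`, eigenvalue `l`, `⁅v, w⁆ = d`
  obtain ⟨w, hw, hw', hvw, hfw⟩ := C.step (j := a) (e := 1) C.ha le_rfl hinv_a hd2 C.d_notin
    (by rw [C.h3'', pow_one, mul_inv_cancel]; exact Subgroup.one_mem _)
  rw [one_mul] at hfw
  -- `u` of level `3`, eigenvalue `l ^ m`
  obtain ⟨u, hu, hu', hfu⟩ := C.chain heven hw hw' hfw (m - 1) 3 le_rfl (by omega)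
  have e1 : m - 1 + 1 = m := by omega
  have e2 : 3 + 2 = 5 := rfl
  rw [e1, e2] at hfu
  have e3 : 3 + 1 = 4 := rfl
  rw [e3] at hu'
  -- arithmetic in `ZMod p`
  have hlm : ∀ k : ℕ, 1 ≤ k → k + 1 < p → (l : ZMod p) ^ k ≠ 1 := by
    intro k hk1 hkp hk
    have h1 := orderOf_dvd_of_pow_eq_one hk
    rw [C.hl] at h1
    have h2 := Nat.le_of_dvd (by omega) h1
    omega
  have hl'l : (l' : ZMod p) * (l : ZMod p) = 1 := by rw [mul_comm]; exact C.hll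
  -- (P2): `⁅u, w⁆ = 1`
  have huw : ⁅u, w⁆ = 1 := by
    by_contra hne
    have h1 := C.pair_eig hu hfu hinv_a hw
    obtain ⟨c', hc', hfw'⟩ : ∃ c' ∈ gam G (a + 2), f w = c' * w ^ l :=
      ⟨_, hfw, (inv_mul_cancel_right _ _).symm⟩
    rw [hfw', C.pair_mul hu (gam_anti (by omega) hc') (Subgroup.pow_mem _ hw l),
      C.pair_top hu hc', one_mul, C.pair_pow hu hw, ← pow_mul] at h1
    have h2 := C.modEq_of_pow_eq (C.pair_mem hu hw) hne h1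
    have h3 := (ZMod.natCast_eq_natCast_iff _ _ _).2 h2
    push_cast at h3
    apply hlm m hm1 (by omega)
    calc (l : ZMod p) ^ m = (l' * l) * l ^ m := by rw [hl'l, one_mul]
      _ = l' * (l * l ^ m) := by ring
      _ = l' * l := by rw [h3]
      _ = 1 := hl'l
  -- `y₀` of level `n - 4`
  obtain ⟨y₀, hy₀, hy₀'⟩ := SetLike.exists_of_lt (C.mc.gam_lt (i := a + 1) (by omega) (by omega))
  have e4 : a + 1 + 1 = a + 2 := by omega
  rw [e4] at hy₀'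
  have hy₀a : y₀ ∈ gam G a := gam_anti (Nat.le_succ a) hy₀
  have hne : ⁅u, y₀⁆ ≠ 1 := C.pairing3 hu hu' hy₀ hy₀'
  -- `f y₀ = c₂ * y₀ ^ b * w ^ a'`
  obtain ⟨a', ha'⟩ := mc5_exists_pow_mem (A := gam G a) (K := gam G (a + 1))
    (gam_anti (Nat.le_succ a)) (C.card_succ (by omega) (by omega)) hw hw' (hinv_a y₀ hy₀a)
  obtain ⟨b, hb⟩ := mc5_exists_pow_mem (A := gam G (a + 1)) (K := gam G (a + 2))
    (gam_anti (by omega)) (by rw [C.card_succ (j := a + 1) (by omega) (by omega)]) hy₀ hy₀' ha'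
  obtain ⟨c₂, hc₂, hfy⟩ : ∃ c₂ ∈ gam G (a + 2), f y₀ = c₂ * y₀ ^ b * w ^ a' :=
    ⟨_, hb, by rw [inv_mul_cancel_right, inv_mul_cancel_right]⟩
  have hc₂a : c₂ ∈ gam G a := gam_anti (by omega) hc₂
  -- (P3): `b * l ^ m ≡ l`
  have hP3 : (b : ZMod p) * (l : ZMod p) ^ m = l := by
    have h1 := C.pair_eig hu hfu hinv_a hy₀a
    rw [hfy, C.pair_mul hu (Subgroup.mul_mem _ hc₂a (Subgroup.pow_mem _ hy₀a b))
      (Subgroup.pow_mem _ hw a'), C.pair_mul hu hc₂a (Subgroup.pow_mem _ hy₀a b),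
      C.pair_top hu hc₂, one_mul, C.pair_pow hu hy₀a, C.pair_pow hu hw, huw, one_pow, mul_one,
      ← pow_mul] at h1
    have h2 := C.modEq_of_pow_eq (C.pair_mem hu hy₀a) hne h1
    have h3 := (ZMod.natCast_eq_natCast_iff _ _ _).2 h2
    push_cast at h3
    exact h3
  -- (P4): `b * l' ≡ l ^ 2`
  have hz₀ : ⁅v, y₀⁆ ∈ gam G (a + 3) := by
    have h1 := C.comm_mem (j := a + 1) (by omega) (by omega) C.hv hy₀
    exact h1
  have hz₀' : ⁅v, y₀⁆ ∉ gam G (a + 4) := by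
    intro h
    apply hy₀'
    exact C.inj (i := a + 1) (by omega) (by omega) hy₀ h
  have hz₀H : ⁅v, y₀⁆ ∉ H := fun h => hz₀' (C.H_inf h hz₀)
  have hz₀2 : ⁅v, y₀⁆ ∈ gam G (a + 2) := gam_anti (by omega) hz₀
  have hP4 : (b : ZMod p) * (l' : ZMod p) = (l : ZMod p) ^ 2 := by
    have h0 := C.ad (j := a) C.ha le_rfl hinv_a hy₀a
    rw [hfy, C.ad_mul (by omega) (by omega) (Subgroup.mul_mem _ hc₂a (Subgroup.pow_mem _ hy₀a b))
      (Subgroup.pow_mem _ hw a'), C.ad_mul (by omega) (by omega) hc₂a (Subgroup.pow_mem _ hy₀a b),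
      C.ad_pow (by omega) (by omega) hy₀a b, C.ad_pow (by omega) (by omega) hw a', hvw] at h0
    have hvc : (QuotientGroup.mk' (gam G (a + 4))) ⁅v, c₂⁆ = 1 := by
      rw [← map_one (QuotientGroup.mk' (gam G (a + 4))), mc5_e8c_mk_eq_iff, inv_one, mul_one]
      exact C.comm_mem (j := a + 2) (by omega) (by omega) C.hv hc₂
    rw [hvc, one_mul, ← map_pow, ← map_pow, ← map_mul, ← map_pow, mc5_e8c_mk_eq_iff] at h0
    -- `h0 : f z₀ * ((z₀ ^ b * d ^ a') ^ l')⁻¹ ∈ γ_{n-1}`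
    have hcomm : Commute ⁅v, y₀⁆ d := commutatorElement_eq_one_iff_commute.1
      (C.comm_eq_one (by omega) (by omega) (by omega) hz₀2 hd2)
    have hX : (⁅v, y₀⁆ ^ b * d ^ a') ^ l' = ⁅v, y₀⁆ ^ (b * l') * d ^ (a' * l') := by
      rw [(hcomm.pow_pow b a').mul_pow, ← pow_mul, ← pow_mul]
    rw [hX] at h0
    have h2 := C.h2 _ hz₀2
    have hD : d ^ (a' * l') ∈ H := Subgroup.pow_mem _ C.h3 _
    have hζ := C.hHZ h0
    -- `E * F⁻¹ = ζ⁻¹ * (f z₀ * F⁻¹) * D⁻¹` where `f z₀ = ζ * E * D`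
    have hEF : ⁅v, y₀⁆ ^ (b * l') * (⁅v, y₀⁆ ^ (l ^ 2))⁻¹ ∈ H := by
      have hDF : Commute (d ^ (a' * l')) (⁅v, y₀⁆ ^ (l ^ 2)) :=
        (hcomm.pow_pow (l ^ 2) (a' * l')).symm
      have e5 : ⁅v, y₀⁆ ^ (b * l') * (⁅v, y₀⁆ ^ (l ^ 2))⁻¹ =
          (f ⁅v, y₀⁆ * (⁅v, y₀⁆ ^ (b * l') * d ^ (a' * l'))⁻¹)⁻¹ *
            (f ⁅v, y₀⁆ * (⁅v, y₀⁆ ^ (l ^ 2))⁻¹) * (d ^ (a' * l'))⁻¹ := by
        have e6 : (⁅v, y₀⁆ ^ (l ^ 2))⁻¹ * (d ^ (a' * l'))⁻¹ =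
            (d ^ (a' * l'))⁻¹ * (⁅v, y₀⁆ ^ (l ^ 2))⁻¹ := (hDF.inv_inv).symm.eq
        calc ⁅v, y₀⁆ ^ (b * l') * (⁅v, y₀⁆ ^ (l ^ 2))⁻¹
            = ⁅v, y₀⁆ ^ (b * l') * d ^ (a' * l') *
                ((d ^ (a' * l'))⁻¹ * (⁅v, y₀⁆ ^ (l ^ 2))⁻¹) := by group
          _ = ⁅v, y₀⁆ ^ (b * l') * d ^ (a' * l') *
                ((⁅v, y₀⁆ ^ (l ^ 2))⁻¹ * (d ^ (a' * l'))⁻¹) := by rw [e6]
          _ = _ := by group
      rw [e5]
      exact Subgroup.mul_mem _ (Subgroup.mul_mem _ (Subgroup.inv_mem _ hζ) h2)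
        (Subgroup.inv_mem _ hD)
    have hzp : ⁅v, y₀⁆ ^ p ∈ H := by
      have h1 := C.pow_p_mem (i := a + 3) (by omega) hz₀
      rw [C.mc.gam_eq_bot (by omega), Subgroup.mem_bot] at h1
      rw [h1]
      exact Subgroup.one_mem _
    have h3 := mc5_modEq_of_pow_mem hz₀H hzp hEF
    have h4 := (ZMod.natCast_eq_natCast_iff _ _ _).2 h3
    push_cast at h4
    exact h4
  -- (P5)
  have hb : (b : ZMod p) = (l : ZMod p) ^ 3 := by
    calc (b : ZMod p) = b * (l' * l) := by rw [hl'l, mul_one]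
      _ = (b * l') * l := by ring
      _ = l ^ 2 * l := by rw [hP4]
      _ = l ^ 3 := by ring
  rw [hb] at hP3
  apply hlm (m + 2) (by omega) (by omega)
  calc (l : ZMod p) ^ (m + 2) = (l' * l) * l ^ (m + 2) := by rw [hl'l, one_mul]
    _ = l' * (l ^ 3 * l ^ m) := by ring
    _ = l' * l := by rw [hP3]
    _ = 1 := hl'l

end E8C


variable {G : Type u} [Group G] [Finite G] {p n : ℕ} [Fact p.Prime]

theorem mc5_end8_III (hp : 5 ≤ p) (hG : IsMC p n G) (hn : 8 ≤ n)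
    (hexc : twoStep G (n - 2) ≠ twoStep G 2) (v d : G)
    (f : G → G) (hf : AutOn (Subgroup.zpowers v ⊔ gam G 3) f)
    (l l' : ℕ) (hl : orderOf (l : ZMod p) = p - 1) (hll : (l : ZMod p) * (l' : ZMod p) = 1)
    (hv : v ∈ lev G 1) (hv' : v ∉ gam G 2)
    (H : Subgroup G) (hH : H ≤ gam G (n - 3)) (hHc : Nat.card H = p ^ 2)
    (hHv : ∀ h ∈ H, Commute h v) (hHZ : gam G (n - 1) ≤ H)
    (hCv : ∀ u ∈ gam G 2, Commute u v → u ∈ H)
    (h1 : f v * (v ^ l')⁻¹ ∈ gam G 3)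
    (h2 : ∀ z ∈ gam G (n - 3), f z * (z ^ (l ^ 2))⁻¹ ∈ H)
    (h3 : d ∈ H) (h3' : d ∉ gam G (n - 1)) (h3'' : f d = d)
    (h4 : ∀ a ∈ gam G (n - 1), f a = a ^ l) : False := by
  obtain ⟨a, rfl⟩ : ∃ a, n = a + 5 := ⟨n - 5, by omega⟩
  have e1 : a + 5 - 1 = a + 4 := by omega
  have e2 : a + 5 - 2 = a + 3 := by omega
  have e3 : a + 5 - 3 = a + 2 := by omega
  rw [e1] at hHZ h3' h4
  rw [e2] at hexc
  rw [e3] at hH h2
  exact E8C.contra (p := p) (a := a) (v := v) (d := d) (f := f) (l := l) (l' := l') (H := H)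
    ⟨hp, hG, by omega, hexc, hf, hl, hll, hv, hv', hH, hHc, hHv, hHZ, hCv, h1, h2, h3, h3', h3'',
      h4⟩

end Cfsg.Agent.MC5
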