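import Mathlib
import Cfsg.Prelude.Def_FusionSystem
import Cfsg.Agent.Helper8.MCTS
import Cfsg.Agent.Helper1.MCB2
import Cfsg.Agent.MC5.Eig
import Cfsg.Agent.MC5.Blackburn

set_option autoImplicit false
set_option linter.unusedVariables false
set_option linter.style.haveILetI false
set_option linter.unusedSectionVars false

/-!
# S5316 project: the endgame `mc5_end8_III`, part A (eigen-chains along `ad v`)

`n = a + 5`.  `v ∈ g₁ ∖ g₂` with `C_{g₂}(v) = H ≤ γ_{n-3}`; `f` an automorphism of `R = ⟨v⟩ γ₃` with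
`f v ≡ v ^ l'` mod `γ₃`.  `x ↦ ⁅v, x⁆` maps `γ_j` ONTO `γ_{j+2}` (`2 ≤ j ≤ n - 3`), the odd terms
`γ₃, γ₅, …` are `f`-invariant and the eigenvalues of `f` on the sections `γ_j / γ_{j+2}` are
transported down along `ad v`, each step multiplying by `l`.
-/

namespace Cfsg.Agent.MC5

open scoped commutatorElement
open Cfsg.Agent.Helper4.MC

universe u

/-! ### generic algebra -/

section alg

variable {Q : Type*} [Group Q]

theorem mc5_e8c_alg1 {g x y : Q} (h1 : Commute g y) (h2 : Commute g ⁅x, y⁆) :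
    ⁅g * x, y⁆ = ⁅x, y⁆ := by
  have e : ⁅g * x, y⁆ = g * ⁅x, y⁆ * g⁻¹ * ⁅g, y⁆ := by
    simp only [commutatorElement_def]; group
  rw [e, (commutatorElement_eq_one_iff_commute).2 h1, mul_one, h2.eq, mul_inv_cancel_right]

theorem mc5_e8c_alg2 {x y z : Q} (h : Commute y ⁅x, z⁆) : ⁅x, y * z⁆ = ⁅x, y⁆ * ⁅x, z⁆ := by
  have e : ⁅x, y * z⁆ = ⁅x, y⁆ * (y * ⁅x, z⁆ * y⁻¹) := by
    simp only [commutatorElement_def]; group
  rw [e, h.eq, mul_inv_cancel_right]

theorem mc5_e8c_mk_eq_iff (N : Subgroup Q) [N.Normal] (x y : Q) :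
    (QuotientGroup.mk' N) x = (QuotientGroup.mk' N) y ↔ x * y⁻¹ ∈ N := by
  constructor
  · intro h
    have h' : (QuotientGroup.mk' N) (x * y⁻¹) = 1 := by
      rw [map_mul, map_inv, h, mul_inv_cancel]
    exact (QuotientGroup.eq_one_iff _).1 h'
  · intro h
    have h' : (QuotientGroup.mk' N) (x * y⁻¹) = 1 := (QuotientGroup.eq_one_iff _).2 h
    rw [map_mul, map_inv, mul_inv_eq_one] at h'
    exact h'

theorem mc5_e8c_commute_mk (N : Subgroup Q) [N.Normal] {x y : Q} (h : ⁅x, y⁆ ∈ N) :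
    Commute ((QuotientGroup.mk' N) x) ((QuotientGroup.mk' N) y) := by
  have h2 : (QuotientGroup.mk' N) ⁅x, y⁆ = 1 := (QuotientGroup.eq_one_iff _).2 h
  rw [map_commutatorElement, commutatorElement_eq_one_iff_commute] at h2
  exact h2

/-- `x ^ l' ∈ K`, `x ^ p ∈ K`, `l'` invertible mod `p`: `x ∈ K` -/
theorem mc5_e8c_of_pow_mem {K : Subgroup Q} {x : Q} {p l l' : ℕ} [Fact p.Prime]
    (hll : (l : ZMod p) * (l' : ZMod p) = 1) (hxp : x ^ p ∈ K) (h : x ^ l' ∈ K) : x ∈ K := by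
  by_contra hx
  have h0 : x ^ l' * (x ^ 0)⁻¹ ∈ K := by simpa using h
  have hmod := mc5_modEq_of_pow_mem hx hxp h0
  have h1 : (l' : ZMod p) = 0 := by
    have := (ZMod.natCast_eq_natCast_iff _ _ _).2 hmod
    simpa using this
  rw [h1, mul_zero] at hll
  exact zero_ne_one hll

theorem mc5_e8c_arith1 {p l l' e c : ℕ} (hll : (l : ZMod p) * (l' : ZMod p) = 1)
    (h : e ≡ c * l' [MOD p]) : c ≡ e * l [MOD p] := by
  rw [← ZMod.natCast_eq_natCast_iff] at h ⊢
  push_cast at h ⊢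
  rw [h]
  calc (c : ZMod p) = c * (l * l') := by rw [hll, mul_one]
    _ = c * l' * l := by ring

end alg

/-! ### the configuration -/

/-- the hypotheses of `mc5_end8_III`, with `n = a + 5` -/
structure E8C (p a : ℕ) (G : Type u) [Group G] (v d : G) (f : G → G) (l l' : ℕ)
    (H : Subgroup G) : Prop where
  hp : 5 ≤ p
  mc : IsMC p (a + 5) G
  ha : 3 ≤ a
  exc : twoStep G (a + 3) ≠ twoStep G 2
  aut : AutOn (Subgroup.zpowers v ⊔ gam G 3) f
  hl : orderOf (l : ZMod p) = p - 1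
  hll : (l : ZMod p) * (l' : ZMod p) = 1
  hv : v ∈ lev G 1
  hv' : v ∉ gam G 2
  hH : H ≤ gam G (a + 2)
  hHc : Nat.card H = p ^ 2
  hHv : ∀ h ∈ H, Commute h v
  hHZ : gam G (a + 4) ≤ H
  hCv : ∀ u ∈ gam G 2, Commute u v → u ∈ H
  h1 : f v * (v ^ l')⁻¹ ∈ gam G 3
  h2 : ∀ z ∈ gam G (a + 2), f z * (z ^ (l ^ 2))⁻¹ ∈ H
  h3 : d ∈ H
  h3' : d ∉ gam G (a + 4)
  h3'' : f d = d
  h4 : ∀ x ∈ gam G (a + 4), f x = x ^ l

namespace E8C

variable {G : Type u} [Group G] [Finite G] {p a : ℕ} [Fact p.Prime] {v d : G} {f : G → G}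
  {l l' : ℕ} {H : Subgroup G}

/-! #### Blackburn facts, reindexed -/

theorem even (C : E8C p a G v d f l l' H) : Even (a + 5) ∧ a + 5 ≤ p + 1 := by
  have hexc : twoStep G (a + 5 - 2) ≠ twoStep G 2 := by
    have e : a + 5 - 2 = a + 3 := by omega
    rw [e]; exact C.exc
  exact mc5_exc_even C.mc (by omega) hexc

theorem inf_eq (C : E8C p a G v d f l l' H) : twoStep G 2 ⊓ twoStep G (a + 3) = gam G 2 := by
  have e : a + 5 - 2 = a + 3 := by omega
  have hexc : twoStep G (a + 5 - 2) ≠ twoStep G 2 := by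
    rw [e]; exact C.exc
  have h := mc5_exc_inf C.mc (by omega) hexc
  rw [e] at h
  exact h

theorem cent_eq (C : E8C p a G v d f l l' H) :
    Subgroup.centralizer (gam G (a + 2) : Set G) = gam G 3 := by
  have ha := C.ha
  have e : a + 5 - 2 = a + 3 := by omega
  have hexc : twoStep G (a + 5 - 2) ≠ twoStep G 2 := by
    rw [e]; exact C.exc
  have h := mc5_exc_centralizer C.mc (by omega) hexc
  have e3 : a + 5 - 3 = a + 2 := by omega
  rw [e3] at h
  exact h

theorem pairing3 (C : E8C p a G v d f l l' H) {x y : G} (hx : x ∈ gam G 3) (hx' : x ∉ gam G 4)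
    (hy : y ∈ gam G (a + 1)) (hy' : y ∉ gam G (a + 2)) : ⁅x, y⁆ ≠ 1 := by
  have ha := C.ha
  have e : a + 5 - 2 = a + 3 := by omega
  have hexc : twoStep G (a + 5 - 2) ≠ twoStep G 2 := by
    rw [e]; exact C.exc
  have e1 : a + 5 - 1 - 3 = a + 1 := by omega
  have e2 : a + 5 - 3 = a + 2 := by omega
  refine mc5_exc_pairing C.mc (by omega) hexc (i := 3) (by norm_num) (by omega) ?_ ?_ ?_ ?_
  · rw [lev_of_two_le G (by norm_num : 2 ≤ 3)]; exact hx
  · rw [lev_of_two_le G (by norm_num : 2 ≤ 3 + 1)]; exact hx'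
  · rw [e1]; exact hy
  · rw [e2]; exact hy'

/-! #### basic facts -/

theorem R_le (C : E8C p a G v d f l l' H) : Subgroup.zpowers v ⊔ gam G 3 ≤ lev G 1 := by
  apply sup_le
  · exact (Subgroup.zpowers_le).2 C.hv
  · rw [lev_one]
    exact (gam_anti (by norm_num : 2 ≤ 3)).trans (gam_two_le_twoStep le_rfl)

theorem v_mem (C : E8C p a G v d f l l' H) : v ∈ Subgroup.zpowers v ⊔ gam G 3 :=
  Subgroup.mem_sup_left (Subgroup.mem_zpowers v)

theorem gam_le (C : E8C p a G v d f l l' H) {j : ℕ} (hj : 3 ≤ j) :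
    gam G j ≤ Subgroup.zpowers v ⊔ gam G 3 :=
  (gam_anti hj).trans le_sup_right

theorem comm_mem (C : E8C p a G v d f l l' H) {j : ℕ} (hj : 2 ≤ j) (hjn : j + 3 ≤ a + 5)
    {r x : G} (hr : r ∈ lev G 1) (hx : x ∈ gam G j) : ⁅r, x⁆ ∈ gam G (j + 2) := by
  have h := Cfsg.Agent.Helper8.MC.lev_comm_gam_le' C.mc (by omega) (i := 1) (j := j) le_rfl hj
    (by omega)
  have e : 1 + j + 1 = j + 2 := by omega
  rw [e] at h
  exact h (Subgroup.commutator_mem_commutator hr hx)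

theorem comm_mem' (C : E8C p a G v d f l l' H) {j : ℕ} (hj : 2 ≤ j) (hjn : j + 3 ≤ a + 5)
    {r x : G} (hr : r ∈ lev G 1) (hx : x ∈ gam G j) : ⁅x, r⁆ ∈ gam G (j + 2) := by
  rw [← commutatorElement_inv]
  exact Subgroup.inv_mem _ (C.comm_mem hj hjn hr hx)

theorem comm_mem3 (C : E8C p a G v d f l l' H) {j : ℕ} (hj : 2 ≤ j) (hjn : j + 5 ≤ a + 5)
    {r x : G} (hr : r ∈ gam G 3) (hx : x ∈ gam G j) : ⁅r, x⁆ ∈ gam G (j + 4) := by
  have h := Cfsg.Agent.Helper8.MC.lev_comm_gam_le' C.mc (by omega) (i := 3) (j := j)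
    (by norm_num) hj (by omega)
  rw [lev_of_two_le G (by norm_num : 2 ≤ 3)] at h
  have e : 3 + j + 1 = j + 4 := by omega
  rw [e] at h
  exact h (Subgroup.commutator_mem_commutator hr hx)

theorem comm_eq_one (C : E8C p a G v d f l l' H) {i j : ℕ} (hi : 1 ≤ i) (hj : 1 ≤ j)
    (hij : a + 5 ≤ i + j) {x y : G} (hx : x ∈ gam G i) (hy : y ∈ gam G j) : ⁅x, y⁆ = 1 := by
  have h := comm_mem_gam hi hj hx hy
  rw [C.mc.gam_eq_bot hij, Subgroup.mem_bot] at h
  exact h

/-- `⁅γ_i, γ_j⁆ ≤ γ_k` for `k ≤ i + j` -/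
theorem comm_mem_le (C : E8C p a G v d f l l' H) {i j k : ℕ} (hi : 1 ≤ i) (hj : 1 ≤ j)
    (hk : k ≤ i + j) {x y : G} (hx : x ∈ gam G i) (hy : y ∈ gam G j) : ⁅x, y⁆ ∈ gam G k :=
  gam_anti hk (comm_mem_gam hi hj hx hy)

theorem pow_p_mem (C : E8C p a G v d f l l' H) {i : ℕ} (hi : 2 ≤ i) {x : G} (hx : x ∈ gam G i) :
    x ^ p ∈ gam G (i + 2) := by
  have h := Cfsg.Agent.Lead.MC.agemo_gam_le C.mc i hi
  have h2 : x ^ p ∈ gam G (i + p - 1) := h (Cfsg.Agent.Helper8.HP.pow_mem_agemo p hx)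
  exact gam_anti (by have := C.hp; omega) h2

theorem card_succ (C : E8C p a G v d f l l' H) {j : ℕ} (hj : 2 ≤ j) (hjn : j + 1 ≤ a + 5) :
    Nat.card (gam G j) = p * Nat.card (gam G (j + 1)) := by
  rw [C.mc.card_gam hj (by omega), C.mc.card_gam (by omega) hjn, ← pow_succ']
  congr 1
  omega

/-! #### `ad v` is onto and injective on sections -/

theorem stepA (C : E8C p a G v d f l l' H) {j : ℕ} (hj : 2 ≤ j) (hjn : j + 3 ≤ a + 5) :
    ∀ y ∈ gam G (j + 2), ∃ x ∈ gam G j, ⁅v, x⁆ = y := by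
  apply Cfsg.Agent.Helper1.MC.exists_comm_eq v (gam G j) (gam G (j + 2))
    (fun g hg => C.comm_mem hj hjn C.hv hg)
  have hle : gam G j ⊓ Subgroup.centralizer ({v} : Set G) ≤ H := by
    intro x hx
    rw [Subgroup.mem_inf, Subgroup.mem_centralizer_singleton_iff] at hx
    exact C.hCv x (gam_anti hj hx.1) hx.2
  have h1 : Nat.card (gam G j ⊓ Subgroup.centralizer ({v} : Set G) : Subgroup G) ≤ p ^ 2 := by
    rw [← C.hHc]
    exact Subgroup.card_le_of_le hle
  rw [C.mc.card_gam hj (by omega), C.mc.card_gam (by omega) (by omega)]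
  calc Nat.card (gam G j ⊓ Subgroup.centralizer ({v} : Set G) : Subgroup G)
        * p ^ (a + 5 - (j + 2)) ≤ p ^ 2 * p ^ (a + 5 - (j + 2)) := Nat.mul_le_mul_right _ h1
    _ = p ^ (a + 5 - j) := by
        rw [← pow_add]
        congr 1
        omega

theorem inj (C : E8C p a G v d f l l' H) {i : ℕ} (hi : 2 ≤ i) (hin : i + 4 ≤ a + 5) {x : G}
    (hx : x ∈ gam G i) (hvx : ⁅v, x⁆ ∈ gam G (i + 3)) : x ∈ gam G (i + 1) := by
  by_contra hx'
  have hgen := C.mc.gam_eq_zpowers_sup hi (by omega) hx hx'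
  have hle : Subgroup.zpowers x ⊔ gam G (i + 1) ≤ commSub (gam G (i + 3)) v := by
    apply sup_le
    · rw [Subgroup.zpowers_le, mem_commSub]
      exact hvx
    · intro y hy
      rw [mem_commSub]
      have h := C.comm_mem (j := i + 1) (by omega) (by omega) C.hv hy
      have e : i + 1 + 2 = i + 3 := by omega
      rw [e] at h
      exact h
  have hlt := C.mc.gam_lt (i := i + 2) (by omega) (by omega)
  apply not_le_of_gt hlt
  intro y hy
  obtain ⟨x', hx'', rfl⟩ := C.stepA hi (by omega) y hy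
  have h1 : x' ∈ Subgroup.zpowers x ⊔ gam G (i + 1) := by
    rw [← hgen]; exact hx''
  have h2 := (mem_commSub _ _ _).1 (hle h1)
  have e : i + 2 + 1 = i + 3 := by omega
  rw [e]
  exact h2

/-! #### the level of `d` -/

theorem d_notin (C : E8C p a G v d f l l' H) : d ∉ gam G (a + 3) := by
  intro hd
  have hgen := C.mc.gam_eq_zpowers_sup (i := a + 3) (by omega) (by omega) hd C.h3'
  have hcent : Subgroup.zpowers d ⊔ gam G (a + 3 + 1) ≤
      Subgroup.centralizer ({v} : Set G) := by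
    apply sup_le
    · rw [Subgroup.zpowers_le, Subgroup.mem_centralizer_singleton_iff]
      exact (C.hHv d C.h3).eq
    · intro y hy
      rw [Subgroup.mem_centralizer_singleton_iff]
      exact (C.hHv y (C.hHZ hy)).eq
  have hv2 : v ∈ twoStep G (a + 3) := by
    rw [mem_twoStep]
    intro y hy
    have h1 : y ∈ Subgroup.zpowers d ⊔ gam G (a + 3 + 1) := by
      rw [← hgen]; exact hy
    have h2 := hcent h1
    rw [Subgroup.mem_centralizer_singleton_iff] at h2
    have h3 : ⁅v, y⁆ = 1 := commutatorElement_eq_one_iff_commute.2 h2.symm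
    rw [h3]
    exact Subgroup.one_mem _
  have hv3 : v ∈ gam G 2 := by
    rw [← C.inf_eq]
    refine ⟨?_, hv2⟩
    rw [← lev_one]
    exact C.hv
  exact C.hv' hv3

/-- `H ∩ γ_{n-2} = γ_{n-1}` -/
theorem H_inf (C : E8C p a G v d f l l' H) {z : G} (hz : z ∈ H) (hz' : z ∈ gam G (a + 3)) :
    z ∈ gam G (a + 4) := by
  haveI : Finite H := inferInstance
  have hcard : Nat.card H = p * Nat.card (gam G (a + 4)) := by
    rw [C.hHc, C.mc.card_gam (by omega) (by omega)]
    have e : a + 5 - (a + 4) = 1 := by omega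
    rw [e, pow_one, sq]
  obtain ⟨c, hc⟩ := mc5_exists_pow_mem (A := H) (K := gam G (a + 4)) C.hHZ hcard C.h3 C.h3' hz
  have hd2 : d ∈ gam G (a + 2) := C.hH C.h3
  have hdp : d ^ p ∈ gam G (a + 4) := C.pow_p_mem (by omega) hd2
  have hdc : d ^ c ∈ gam G (a + 3) := by
    have h1 : (z * (d ^ c)⁻¹)⁻¹ * z ∈ gam G (a + 3) :=
      Subgroup.mul_mem _ (Subgroup.inv_mem _ (gam_anti (by omega) hc)) hz'
    have e : (z * (d ^ c)⁻¹)⁻¹ * z = d ^ c := by group
    rw [e] at h1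
    exact h1
  have hmod : c ≡ 0 [MOD p] := by
    apply mc5_modEq_of_pow_mem C.d_notin (gam_anti (by omega) hdp)
    simpa using hdc
  have h2 := mc5_pow_congr hdp hmod
  have h3 : d ^ c ∈ gam G (a + 4) := by simpa using h2
  have e : z = z * (d ^ c)⁻¹ * d ^ c := by group
  rw [e]
  exact Subgroup.mul_mem _ hc h3

/-! #### invariance -/

theorem inv_top (C : E8C p a G v d f l l' H) : ∀ x ∈ gam G (a + 2), f x ∈ gam G (a + 2) := by
  intro x hx
  have h := C.hH (C.h2 x hx)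
  have h1 := Subgroup.mul_mem _ h (Subgroup.pow_mem _ hx (l ^ 2))
  rw [inv_mul_cancel_right] at h1
  exact h1

theorem inv_three (C : E8C p a G v d f l l' H) : ∀ x ∈ gam G 3, f x ∈ gam G 3 := by
  intro u hu
  have ha := C.ha
  have hK : gam G (a + 2) ≤ Subgroup.zpowers v ⊔ gam G 3 := C.gam_le (by omega)
  have hc : ∀ k ∈ gam G (a + 2), Commute u k := fun k hk =>
    commutatorElement_eq_one_iff_commute.1
      (C.comm_eq_one (by norm_num) (by omega) (by omega) hu hk)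
  have h := C.aut.inv_centralizer hK C.inv_top (C.gam_le le_rfl hu) hc
  rw [← C.cent_eq, Subgroup.mem_centralizer_iff]
  intro k hk
  exact (h k hk).eq.symm

theorem inv_odd (C : E8C p a G v d f l l' H) :
    ∀ k j, j = 2 * k + 3 → j + 1 ≤ a + 5 → ∀ x ∈ gam G j, f x ∈ gam G j := by
  intro k
  induction k with
  | zero =>
    intro j hj _
    subst hj
    exact C.inv_three
  | succ k ih =>
    intro j hj hjn y hy
    have ih' := ih (2 * k + 3) rfl (by omega)
    have e : j = 2 * k + 3 + 2 := by omega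
    subst e
    obtain ⟨x, hx, rfl⟩ := C.stepA (j := 2 * k + 3) (by omega) (by omega) y hy
    rw [C.aut.map_comm C.v_mem (C.gam_le (by omega) hx)]
    exact C.comm_mem (by omega) (by omega) (C.R_le (C.aut.mem v C.v_mem)) (ih' x hx)

end E8C

end Cfsg.Agent.MC5
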