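import Cfsg.Agent.MC5.EndB8IIIa

set_option autoImplicit false
set_option linter.unusedVariables false
set_option linter.style.haveILetI false
set_option linter.unusedSectionVars false

/-!
# S5316 project: the endgame `mc5_end8_III`, part B (transport of eigenvalues along `ad v`)
-/

namespace Cfsg.Agent.MC5

open scoped commutatorElement
open Cfsg.Agent.Helper4.MC

universe u

namespace E8C

variable {G : Type u} [Group G] [Finite G] {p a : ℕ} [Fact p.Prime] {v d : G} {f : G → G}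
  {l l' : ℕ} {H : Subgroup G}

/-- `f ⁅v, x⁆ ≡ ⁅v, f x⁆ ^ l'` modulo `γ_{j+4}`, for `x ∈ γ_j` -/
theorem ad (C : E8C p a G v d f l l' H) {j : ℕ} (hj : 3 ≤ j) (hjn : j + 5 ≤ a + 5)
    (hinv : ∀ x ∈ gam G j, f x ∈ gam G j) {x : G} (hx : x ∈ gam G j) :
    (QuotientGroup.mk' (gam G (j + 4))) (f ⁅v, x⁆) =
      ((QuotientGroup.mk' (gam G (j + 4))) ⁅v, f x⁆) ^ l' := by
  have hy := hinv x hx
  rw [C.aut.map_comm C.v_mem (C.gam_le hj hx)]
  obtain ⟨g', hg', hfv⟩ : ∃ g' ∈ gam G 3, f v = g' * v ^ l' :=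
    ⟨_, C.h1, (inv_mul_cancel_right _ _).symm⟩
  rw [hfv]
  have hvl : v ^ l' ∈ lev G 1 := Subgroup.pow_mem _ C.hv l'
  have h2 : ⁅v ^ l', f x⁆ ∈ gam G (j + 2) := C.comm_mem (by omega) (by omega) hvl hy
  have h2' : ⁅v, f x⁆ ∈ gam G (j + 2) := C.comm_mem (by omega) (by omega) C.hv hy
  have hc1 : Commute ((QuotientGroup.mk' (gam G (j + 4))) g')
      ((QuotientGroup.mk' (gam G (j + 4))) (f x)) :=
    mc5_e8c_commute_mk _ (C.comm_mem3 (by omega) hjn hg' hy)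
  have hc2 : Commute ((QuotientGroup.mk' (gam G (j + 4))) g')
      ⁅(QuotientGroup.mk' (gam G (j + 4))) (v ^ l'), (QuotientGroup.mk' (gam G (j + 4))) (f x)⁆ := by
    rw [← map_commutatorElement]
    exact mc5_e8c_commute_mk _ (C.comm_mem_le (by norm_num) (by omega) (by omega) hg' h2)
  rw [map_commutatorElement, map_mul, mc5_e8c_alg1 hc1 hc2]
  have hc3 : Commute ⁅(QuotientGroup.mk' (gam G (j + 4))) v,
      (QuotientGroup.mk' (gam G (j + 4))) (f x)⁆ ((QuotientGroup.mk' (gam G (j + 4))) v) := by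
    rw [← map_commutatorElement]
    exact mc5_e8c_commute_mk _ (C.comm_mem' (j := j + 2) (by omega) (by omega) C.hv h2')
  have hc4 : Commute ⁅(QuotientGroup.mk' (gam G (j + 4))) v,
      (QuotientGroup.mk' (gam G (j + 4))) (f x)⁆ ((QuotientGroup.mk' (gam G (j + 4))) (f x)) := by
    rw [← map_commutatorElement]
    exact mc5_e8c_commute_mk _ (C.comm_mem_le (by omega) (by omega) (by omega) h2' hy)
  have h5 := mc5_comm_pow_pow hc3 hc4 l' 1
  rw [pow_one, mul_one] at h5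
  rw [map_pow, h5, map_commutatorElement]

/-- `x ↦ ⁅v, x⁆` is multiplicative on `γ_j` modulo `γ_{j+4}` -/
theorem ad_mul (C : E8C p a G v d f l l' H) {j : ℕ} (hj : 2 ≤ j) (hjn : j + 3 ≤ a + 5)
    {x y : G} (hx : x ∈ gam G j) (hy : y ∈ gam G j) :
    (QuotientGroup.mk' (gam G (j + 4))) ⁅v, x * y⁆ =
      (QuotientGroup.mk' (gam G (j + 4))) ⁅v, x⁆ * (QuotientGroup.mk' (gam G (j + 4))) ⁅v, y⁆ := by
  have h2 : ⁅v, y⁆ ∈ gam G (j + 2) := C.comm_mem hj hjn C.hv hy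
  have hc : Commute ((QuotientGroup.mk' (gam G (j + 4))) x)
      ⁅(QuotientGroup.mk' (gam G (j + 4))) v, (QuotientGroup.mk' (gam G (j + 4))) y⁆ := by
    rw [← map_commutatorElement]
    exact mc5_e8c_commute_mk _ (C.comm_mem_le (by omega) (by omega) (by omega) hx h2)
  rw [map_commutatorElement, map_mul, mc5_e8c_alg2 hc, ← map_commutatorElement,
    ← map_commutatorElement]

theorem ad_pow (C : E8C p a G v d f l l' H) {j : ℕ} (hj : 2 ≤ j) (hjn : j + 3 ≤ a + 5)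
    {x : G} (hx : x ∈ gam G j) (k : ℕ) :
    (QuotientGroup.mk' (gam G (j + 4))) ⁅v, x ^ k⁆ =
      ((QuotientGroup.mk' (gam G (j + 4))) ⁅v, x⁆) ^ k := by
  induction k with
  | zero => simp
  | succ k ih =>
    rw [pow_succ, C.ad_mul hj hjn (Subgroup.pow_mem _ hx k) hx, ih, pow_succ]

/-- one step down the chain -/
theorem step (C : E8C p a G v d f l l' H) {j e : ℕ} (hj : 3 ≤ j) (hjn : j + 5 ≤ a + 5)
    (hinv : ∀ x ∈ gam G j, f x ∈ gam G j) {t : G} (ht : t ∈ gam G (j + 2))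
    (ht' : t ∉ gam G (j + 3)) (hte : f t * (t ^ e)⁻¹ ∈ gam G (j + 4)) :
    ∃ u ∈ gam G j, u ∉ gam G (j + 1) ∧ ⁅v, u⁆ = t ∧ f u * (u ^ (e * l))⁻¹ ∈ gam G (j + 2) := by
  obtain ⟨u, hu, hut⟩ := C.stepA (by omega) (by omega) t ht
  have hu' : u ∉ gam G (j + 1) := by
    intro h
    apply ht'
    rw [← hut]
    have h1 := C.comm_mem (j := j + 1) (by omega) (by omega) C.hv h
    have e1 : j + 1 + 2 = j + 3 := by omega
    rw [e1] at h1
    exact h1
  refine ⟨u, hu, hu', hut, ?_⟩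
  have hcard := C.card_succ (j := j) (by omega) (by omega)
  obtain ⟨c, hc⟩ := mc5_exists_pow_mem (A := gam G j) (K := gam G (j + 1))
    (gam_anti (Nat.le_succ j)) hcard hu hu' (hinv u hu)
  obtain ⟨w, hw, hfu⟩ : ∃ w ∈ gam G (j + 1), f u = w * u ^ c :=
    ⟨_, hc, (inv_mul_cancel_right _ _).symm⟩
  have hwj : w ∈ gam G j := gam_anti (Nat.le_succ j) hw
  have hvw3 : ⁅v, w⁆ ∈ gam G (j + 3) := by
    have h1 := C.comm_mem (j := j + 1) (by omega) (by omega) C.hv hw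
    have e1 : j + 1 + 2 = j + 3 := by omega
    rw [e1] at h1
    exact h1
  -- the key congruence modulo `γ_{j+4}`
  have hcomm : Commute ((QuotientGroup.mk' (gam G (j + 4))) ⁅v, w⁆)
      ((QuotientGroup.mk' (gam G (j + 4))) t) :=
    mc5_e8c_commute_mk _ (C.comm_mem_le (by omega) (by omega) (by omega) hvw3 ht)
  have key : (QuotientGroup.mk' (gam G (j + 4))) (f t) =
      (QuotientGroup.mk' (gam G (j + 4))) ⁅v, w⁆ ^ l' *
        (QuotientGroup.mk' (gam G (j + 4))) t ^ (c * l') := by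
    have h0 := C.ad hj hjn hinv hu
    rw [hfu, C.ad_mul (by omega) (by omega) hwj (Subgroup.pow_mem _ hu c),
      C.ad_pow (by omega) (by omega) hu c, hut] at h0
    rw [h0, (hcomm.pow_right c).mul_pow, ← pow_mul]
  have hte' : (QuotientGroup.mk' (gam G (j + 4))) (f t) =
      (QuotientGroup.mk' (gam G (j + 4))) (t ^ e) := (mc5_e8c_mk_eq_iff _ _ _).2 hte
  -- `X := ⁅v, w⁆ ^ l'`, `Y := t ^ e * (t ^ (c * l'))⁻¹`
  have hXY : ⁅v, w⁆ ^ l' * (t ^ e * (t ^ (c * l'))⁻¹)⁻¹ ∈ gam G (j + 4) := by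
    rw [map_pow] at hte'
    rw [← mc5_e8c_mk_eq_iff, map_pow, map_mul, map_inv, map_pow, map_pow, ← hte', key]
    rw [mul_inv_cancel_right]
  have hX3 : ⁅v, w⁆ ^ l' ∈ gam G (j + 3) := Subgroup.pow_mem _ hvw3 l'
  have hY3 : t ^ e * (t ^ (c * l'))⁻¹ ∈ gam G (j + 3) := by
    have h1 : (⁅v, w⁆ ^ l' * (t ^ e * (t ^ (c * l'))⁻¹)⁻¹)⁻¹ * ⁅v, w⁆ ^ l' ∈ gam G (j + 3) :=
      Subgroup.mul_mem _ (Subgroup.inv_mem _ (gam_anti (by omega) hXY)) hX3
    have e1 : (⁅v, w⁆ ^ l' * (t ^ e * (t ^ (c * l'))⁻¹)⁻¹)⁻¹ * ⁅v, w⁆ ^ l' =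
        t ^ e * (t ^ (c * l'))⁻¹ := by group
    rw [e1] at h1
    exact h1
  have htp : t ^ p ∈ gam G (j + 4) := by
    have h1 := C.pow_p_mem (i := j + 2) (by omega) ht
    have e1 : j + 2 + 2 = j + 4 := by omega
    rw [e1] at h1
    exact h1
  have hmod : e ≡ c * l' [MOD p] :=
    mc5_modEq_of_pow_mem ht' (gam_anti (by omega) htp) hY3
  have hY4 : t ^ e * (t ^ (c * l'))⁻¹ ∈ gam G (j + 4) := mc5_pow_congr htp hmod
  have hX4 : ⁅v, w⁆ ^ l' ∈ gam G (j + 4) := by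
    have h1 := Subgroup.mul_mem _ hXY hY4
    rw [inv_mul_cancel_right] at h1
    exact h1
  have hvwp : ⁅v, w⁆ ^ p ∈ gam G (j + 4) := by
    have h1 := C.pow_p_mem (i := j + 3) (by omega) hvw3
    exact gam_anti (by omega) h1
  have hvw4 : ⁅v, w⁆ ∈ gam G (j + 4) := mc5_e8c_of_pow_mem C.hll hvwp hX4
  have hw2 : w ∈ gam G (j + 2) := by
    have e1 : j + 1 + 3 = j + 4 := by omega
    have h1 := C.inj (i := j + 1) (by omega) (by omega) hw (by rw [e1]; exact hvw4)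
    exact h1
  have hmod2 : c ≡ e * l [MOD p] := mc5_e8c_arith1 C.hll hmod
  have hup : u ^ p ∈ gam G (j + 2) := C.pow_p_mem (by omega) hu
  have h6 := mc5_pow_congr hup hmod2
  have e2 : f u * (u ^ (e * l))⁻¹ = w * (u ^ c * (u ^ (e * l))⁻¹) := by
    rw [hfu, mul_assoc]
  rw [e2]
  exact Subgroup.mul_mem _ hw2 h6

/-- the chain: from `w` of level `n - 5` with eigenvalue `l` down to level `3` -/
theorem chain (C : E8C p a G v d f l l' H) (heven : Even (a + 5)) {w : G} (hw : w ∈ gam G a)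
    (hw' : w ∉ gam G (a + 1)) (hfw : f w * (w ^ l)⁻¹ ∈ gam G (a + 2)) :
    ∀ i j : ℕ, 3 ≤ j → j + 2 * i = a →
      ∃ u ∈ gam G j, u ∉ gam G (j + 1) ∧ f u * (u ^ (l ^ (i + 1)))⁻¹ ∈ gam G (j + 2) := by
  intro i
  induction i with
  | zero =>
    intro j hj hja
    have e : j = a := by omega
    rw [e]
    refine ⟨w, hw, hw', ?_⟩
    rw [zero_add, pow_one]
    exact hfw
  | succ i ih =>
    intro j hj hja
    obtain ⟨t, ht, ht', hte⟩ := ih (j + 2) (by omega) (by omega)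
    have hinv : ∀ x ∈ gam G j, f x ∈ gam G j := by
      obtain ⟨r, hr⟩ := heven
      exact C.inv_odd ((j - 3) / 2) j (by omega) (by omega)
    have e1 : j + 2 + 1 = j + 3 := by omega
    have e2 : j + 2 + 2 = j + 4 := by omega
    rw [e1] at ht'
    rw [e2] at hte
    obtain ⟨u, hu, hu', -, hfu⟩ := C.step hj (by omega) hinv ht ht' hte
    refine ⟨u, hu, hu', ?_⟩
    rw [pow_succ l (i + 1)]
    exact hfu

end E8C

end Cfsg.Agent.MC5
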