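import Mathlib
import Cfsg.Agent.MC5.EndA6III

set_option autoImplicit false

/-!
# S5316 (project MC5): the back half of the endgame `n ≥ 8`, case (II)

Assuming that `f` (an automorphism of `R ≥ ⟨v⟩ γ₃`) leaves the `γ_j` invariant: the eigenvalue recursion along
`ad v` (`mc5_e8x_rec`, `mc5_e8x_eig`) and the final pairing argument (`mc5_e8x_final`).
-/

namespace Cfsg.Agent.MC5

open scoped commutatorElement
open Cfsg.Agent.Helper4.MC

universe u
variable {G : Type u} [Group G] [Finite G] {p n : ℕ} [Fact p.Prime]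

theorem mc5_e8x_card (hG : IsMC p n G) {j : ℕ} (hj : 2 ≤ j) (hjn : j + 1 ≤ n) :
    Nat.card (gam G j) = p * Nat.card (gam G (j + 1)) := by
  rw [hG.card_gam hj (by omega), hG.card_gam (by omega) hjn]
  have : n - j = (n - (j + 1)) + 1 := by omega
  rw [this, pow_succ]
  ring

/-- commuting images in a quotient -/
theorem mc5_e8x_commute_mk {K : Subgroup G} [K.Normal] {a b : G} (hab : ⁅a, b⁆ ∈ K) :
    Commute (QuotientGroup.mk' K a) (QuotientGroup.mk' K b) := by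
  have h1 : QuotientGroup.mk' K ⁅a, b⁆ = 1 := (QuotientGroup.eq_one_iff _).mpr hab
  rw [map_commutatorElement, commutatorElement_eq_one_iff_commute] at h1
  exact h1

/-- eigenvalue recursion along `ad v` -/
theorem mc5_e8x_rec (hG : IsMC p n G) {R : Subgroup G} {f : G → G} (hf : AutOn R f) {v : G}
    (hvR : v ∈ R) (hv' : v ∉ twoStep G 2) {l l' : ℕ} (hll : (l : ZMod p) * (l' : ZMod p) = 1)
    (h1 : f v * (v ^ l')⁻¹ ∈ gam G 3) {j : ℕ} (hj : 3 ≤ j) (hjn : j + 3 ≤ n) (hjR : gam G j ≤ R)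
    (hinv : ∀ x ∈ gam G j, f x ∈ gam G j) {e : ℕ}
    (he : ∀ z ∈ gam G (j + 1), f z * (z ^ e)⁻¹ ∈ gam G (j + 2)) :
    ∀ x ∈ gam G j, f x * (x ^ (e * l))⁻¹ ∈ gam G (j + 1) := by
  have hpp := (Fact.out : p.Prime)
  obtain ⟨x0, hx0, hx0'⟩ := SetLike.exists_of_lt (hG.gam_lt (i := j) (by omega) (by omega))
  have hk1 : ⁅x0, v⁆ ∈ gam G (j + 1) := comm_mem_gam_succ' (G := G) (by omega) v hx0
  have hk2 : ⁅x0, v⁆ ∉ gam G (j + 2) := by
    intro hk
    apply hv'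
    rw [← Cfsg.Agent.Helper8.MC.twoStep_eq_two hG (by omega : 2 ≤ j) hjn,
      hG.mem_twoStep_iff (by omega) (by omega) hx0 hx0', ← commutatorElement_inv x0 v]
    exact Subgroup.inv_mem _ hk
  have hcard := mc5_e8x_card hG (j := j) (by omega) (by omega)
  have hcard1 := mc5_e8x_card hG (j := j + 1) (by omega) (by omega)
  have hle1 : gam G (j + 1) ≤ gam G j := gam_anti (by omega)
  have hle2 : gam G (j + 2) ≤ gam G (j + 1) := gam_anti (by omega)
  obtain ⟨a, ha⟩ := mc5_exists_pow_mem (p := p) (A := gam G j) (K := gam G (j + 1)) hle1 hcard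
    (y := x0) hx0 hx0' (z := f x0) (hinv x0 hx0)
  obtain ⟨x1, hx1, hfx0⟩ : ∃ x1 ∈ gam G (j + 1), f x0 = x0 ^ a * x1 := by
    obtain ⟨h5, h6⟩ := mc5_right_form ha
    exact ⟨_, h5, h6⟩
  obtain ⟨v3, hv3, hfv⟩ : ∃ v3 ∈ gam G 3, f v = v ^ l' * v3 := by
    obtain ⟨h5, h6⟩ := mc5_right_form h1
    exact ⟨_, h5, h6⟩
  have hfk : f ⁅x0, v⁆ = ⁅f x0, f v⁆ := hf.map_comm (hjR hx0) hvR
  have hrel : QuotientGroup.mk' (gam G (j + 2)) (f ⁅x0, v⁆) =
      (QuotientGroup.mk' (gam G (j + 2)) ⁅x0, v⁆) ^ (a * l') := by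
    rw [hfk, hfx0, hfv]
    simp only [map_commutatorElement, map_mul, map_pow]
    have hcen : ∀ q, Commute ⁅QuotientGroup.mk' (gam G (j + 2)) x0,
        QuotientGroup.mk' (gam G (j + 2)) v⁆ q := by
      intro q
      rw [← map_commutatorElement]
      exact mc5_central_mk (i := j + 1) (by omega) hk1 q
    refine mc5_bil' (hcen _) (hcen _) ?_ a l' ?_
    · apply mc5_e8x_commute_mk
      exact comm_mem_gam_succ' (G := G) (i := j + 1) (by omega) v hx1
    · have hc : Commute (QuotientGroup.mk' (gam G (j + 2)) v3)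
          (QuotientGroup.mk' (gam G (j + 2)) (x0 ^ a * x1)) := by
        apply mc5_e8x_commute_mk
        have hmem : x0 ^ a * x1 ∈ gam G j :=
          Subgroup.mul_mem _ (Subgroup.pow_mem _ hx0 a) (hle1 hx1)
        have := comm_mem_gam (G := G) (i := 3) (j := j) (by omega) (by omega) hv3 hmem
        exact gam_anti (by omega) this
      simpa only [map_mul, map_pow] using hc
  have hmem1 : f ⁅x0, v⁆ * (⁅x0, v⁆ ^ (a * l'))⁻¹ ∈ gam G (j + 2) := by
    rw [← QuotientGroup.eq_one_iff]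
    show QuotientGroup.mk' (gam G (j + 2)) (f ⁅x0, v⁆ * (⁅x0, v⁆ ^ (a * l'))⁻¹) = 1
    rw [map_mul, map_inv, map_pow, hrel, mul_inv_cancel]
  have hmem2 := he _ hk1
  have hmod : a * l' ≡ e [MOD p] := by
    apply mc5_modEq_of_pow_mem (K := gam G (j + 2)) (u := ⁅x0, v⁆) hk2
      (mc5_pow_mem_of_card hle2 hcard1 hk1)
    have e1 : ⁅x0, v⁆ ^ (a * l') * (⁅x0, v⁆ ^ e)⁻¹ =
        (f ⁅x0, v⁆ * (⁅x0, v⁆ ^ (a * l'))⁻¹)⁻¹ * (f ⁅x0, v⁆ * (⁅x0, v⁆ ^ e)⁻¹) := by
      rw [mul_inv_rev, inv_inv, mul_assoc, inv_mul_cancel_left]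
    rw [e1]
    exact Subgroup.mul_mem _ (Subgroup.inv_mem _ hmem1) hmem2
  have hll' : l' * l ≡ 1 [MOD p] := by
    rw [← ZMod.natCast_eq_natCast_iff]
    push_cast
    rw [mul_comm]
    exact hll
  have ha' : a ≡ e * l [MOD p] := by
    have h5 : a * l' * l ≡ e * l [MOD p] := Nat.ModEq.mul_right _ hmod
    have h6 : a * (l' * l) ≡ a * 1 [MOD p] := Nat.ModEq.mul_left _ hll'
    have h7 : a * l' * l = a * (l' * l) := by ring
    rw [h7] at h5
    rw [mul_one] at h6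
    exact h6.symm.trans h5
  -- all of `γ_j`
  intro x hx
  obtain ⟨i, hi⟩ := mc5_exists_pow_mem (p := p) (A := gam G j) (K := gam G (j + 1)) hle1 hcard
    (y := x0) hx0 hx0' (z := x) hx
  obtain ⟨x', hx', hxx⟩ : ∃ x' ∈ gam G (j + 1), x = x' * x0 ^ i :=
    ⟨_, hi, (inv_mul_cancel_right _ _).symm⟩
  have hfx' : f x' ∈ gam G (j + 1) := by
    have h5 := he x' hx'
    have e1 : f x' = (f x' * (x' ^ e)⁻¹) * x' ^ e := (inv_mul_cancel_right _ _).symm
    rw [e1]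
    exact Subgroup.mul_mem _ (hle2 h5) (Subgroup.pow_mem _ hx' e)
  have hfx : f x = f x' * (x0 ^ a * x1) ^ i := by
    rw [hxx, hf.mul _ (hjR (hle1 hx')) _ (Subgroup.pow_mem _ (hjR hx0) i),
      hf.map_pow (hjR hx0), hfx0]
  have hone : ∀ g ∈ gam G (j + 1), QuotientGroup.mk' (gam G (j + 1)) g = 1 := fun g hg =>
    (QuotientGroup.eq_one_iff g).mpr hg
  have hx0p : x0 ^ p ∈ gam G (j + 1) := mc5_pow_mem_of_card hle1 hcard hx0
  have hcong : x0 ^ (a * i) * (x0 ^ (i * (e * l)))⁻¹ ∈ gam G (j + 1) := by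
    apply mc5_pow_congr hx0p
    have h5 : a * i ≡ e * l * i [MOD p] := Nat.ModEq.mul_right _ ha'
    rw [mul_comm i (e * l)]
    exact h5
  rw [← QuotientGroup.eq_one_iff]
  show QuotientGroup.mk' (gam G (j + 1)) (f x * (x ^ (e * l))⁻¹) = 1
  rw [hfx]
  conv_lhs => rw [hxx]
  simp only [map_mul, map_pow, map_inv, hone _ hx', hone _ hx1, hone _ hfx', one_mul, mul_one]
  have h8 := hone _ hcong
  simp only [map_mul, map_pow, map_inv] at h8
  rw [← pow_mul, ← pow_mul]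
  exact h8

/-- the eigenvalues on `γ_j / γ_{j+1}`, `3 ≤ j ≤ n - 3` -/
theorem mc5_e8x_eig (hG : IsMC p n G) {R : Subgroup G} {f : G → G} (hf : AutOn R f) {v : G}
    (hvR : v ∈ R) (hv' : v ∉ twoStep G 2) {l l' : ℕ} (hll : (l : ZMod p) * (l' : ZMod p) = 1)
    (h1 : f v * (v ^ l')⁻¹ ∈ gam G 3) (h3R : gam G 3 ≤ R)
    (hinv : ∀ j, 3 ≤ j → j + 3 ≤ n → ∀ x ∈ gam G j, f x ∈ gam G j)
    (h2 : ∀ z ∈ gam G (n - 3), f z * (z ^ (l ^ 2))⁻¹ ∈ gam G (n - 2)) :
    ∀ k, k + 6 ≤ n → ∀ x ∈ gam G (n - 3 - k), f x * (x ^ (l ^ (2 + k)))⁻¹ ∈ gam G (n - 2 - k) := by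
  intro k
  induction k with
  | zero =>
    intro _ x hx
    exact h2 x hx
  | succ k ih =>
    intro hk x hx
    have ih' := ih (by omega)
    have e1 : n - 3 - (k + 1) + 1 = n - 3 - k := by omega
    have e2 : n - 3 - (k + 1) + 2 = n - 2 - k := by omega
    have e3 : n - 2 - (k + 1) = n - 3 - (k + 1) + 1 := by omega
    have hrec := mc5_e8x_rec hG hf hvR hv' hll h1 (j := n - 3 - (k + 1)) (by omega) (by omega)
      ((gam_anti (by omega)).trans h3R) (hinv _ (by omega) (by omega)) (e := l ^ (2 + k))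
      (by rw [e1, e2]; exact ih') x hx
    rw [e3]
    have e4 : l ^ (2 + (k + 1)) = l ^ (2 + k) * l := by rw [← add_assoc, pow_succ]
    rw [e4]
    exact hrec

/-- the final pairing argument -/
theorem mc5_e8x_final (hp : 5 ≤ p) (hG : IsMC p n G) (hn : 8 ≤ n)
    (hexc : twoStep G (n - 2) ≠ twoStep G 2) {R : Subgroup G} {f : G → G} (hf : AutOn R f)
    (h3R : gam G 3 ≤ R) {l : ℕ} (hl : orderOf (l : ZMod p) = p - 1)
    (heig : ∀ k, k + 6 ≤ n → ∀ x ∈ gam G (n - 3 - k),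
      f x * (x ^ (l ^ (2 + k)))⁻¹ ∈ gam G (n - 2 - k))
    (hfix : ∀ a ∈ gam G (n - 1), f a = a) : False := by
  have hpp := (Fact.out : p.Prime)
  obtain ⟨x, hx3, hx4⟩ := SetLike.exists_of_lt (hG.gam_lt (i := 3) (by omega) (by omega))
  obtain ⟨y, hy3, hy4⟩ := SetLike.exists_of_lt (hG.gam_lt (i := n - 4) (by omega) (by omega))
  have e0 : n - 4 + 1 = n - 3 := by omega
  rw [e0] at hy4
  simp only [Nat.reduceAdd] at hx4
  -- the eigenvalues on `γ₃ / γ₄` and `γ_{n-4} / γ_{n-3}`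
  have hA := heig (n - 6) (by omega) x (by rw [show n - 3 - (n - 6) = 3 by omega]; exact hx3)
  rw [show n - 2 - (n - 6) = 4 by omega] at hA
  have hB := heig 1 (by omega) y (by rw [show n - 3 - 1 = n - 4 by omega]; exact hy3)
  rw [show n - 2 - 1 = n - 3 by omega] at hB
  obtain ⟨x', hx', hfx⟩ : ∃ x' ∈ gam G 4, f x = x ^ (l ^ (2 + (n - 6))) * x' := by
    obtain ⟨h5, h6⟩ := mc5_right_form hA
    exact ⟨_, h5, h6⟩
  obtain ⟨y', hy', hfy⟩ : ∃ y' ∈ gam G (n - 3), f y = y ^ (l ^ (2 + 1)) * y' := by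
    obtain ⟨h5, h6⟩ := mc5_right_form hB
    exact ⟨_, h5, h6⟩
  -- the pairing
  have hxy1 : ⁅x, y⁆ ≠ 1 := by
    apply mc5_exc_pairing hG (by omega) hexc (i := 3) (by norm_num) (by omega)
      (by rw [lev_of_two_le G (by norm_num)]; exact hx3)
      (by rw [lev_of_two_le G (by norm_num)]; exact hx4)
    · rw [show n - 1 - 3 = n - 4 by omega]
      exact hy3
    · exact hy4
  have hxyZ : ⁅x, y⁆ ∈ gam G (n - 1) := by
    have := comm_mem_gam (G := G) (i := 3) (j := n - 4) (by norm_num) (by omega) hx3 hy3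
    rwa [show 3 + (n - 4) = n - 1 by omega] at this
  have hcen : ∀ a ∈ gam G (n - 1), ∀ g : G, Commute a g := by
    intro a ha g
    have hc : a ∈ Subgroup.center G := by
      rw [hG.center_eq]
      exact ha
    exact (Subgroup.mem_center_iff.mp hc g).symm
  have hcomm_of : ∀ i j : ℕ, 1 ≤ i → 1 ≤ j → n ≤ i + j → ∀ a ∈ gam G i, ∀ b ∈ gam G j,
      Commute a b := by
    intro i j hi hj hij a ha b hb
    have := comm_mem_gam (G := G) hi hj ha hb
    rw [hG.gam_eq_bot hij, Subgroup.mem_bot, commutatorElement_eq_one_iff_commute] at this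
    exact this
  have hyR : y ∈ R := h3R (gam_anti (by omega) hy3)
  have hrel : f ⁅x, y⁆ = ⁅x, y⁆ ^ (l ^ (2 + (n - 6)) * l ^ (2 + 1)) := by
    rw [hf.map_comm (h3R hx3) hyR, hfx, hfy]
    refine mc5_bil' (hcen _ hxyZ _) (hcen _ hxyZ _) ?_ _ _ ?_
    · exact hcomm_of 4 (n - 4) (by norm_num) (by omega) (by omega) x' hx' y hy3
    · exact hcomm_of (n - 3) 3 (by omega) (by norm_num) (by omega) y' hy' _
        (Subgroup.mul_mem _ (Subgroup.pow_mem _ hx3 _) (gam_anti (by norm_num) hx'))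
  have hcardZ : Nat.card (gam G (n - 1)) = p * Nat.card (⊥ : Subgroup G) := by
    rw [hG.card_gam (i := n - 1) (by omega) (by omega), Subgroup.card_bot]
    rw [show n - (n - 1) = 1 by omega]
    ring
  have hmod : l ^ (2 + (n - 6)) * l ^ (2 + 1) ≡ 1 [MOD p] := by
    apply mc5_modEq_of_pow_mem (K := (⊥ : Subgroup G)) (u := ⁅x, y⁆)
      (by rw [Subgroup.mem_bot]; exact hxy1) (mc5_pow_mem_of_card bot_le hcardZ hxyZ)
    rw [Subgroup.mem_bot, mul_inv_eq_one, pow_one, ← hrel]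
    exact hfix _ hxyZ
  have hmod' : l ^ (n - 1) ≡ 1 [MOD p] := by
    have e1 : l ^ (2 + (n - 6)) * l ^ (2 + 1) = l ^ (n - 1) := by
      rw [← pow_add]
      congr 1
      omega
    rwa [e1] at hmod
  have hdvd := mc5_dvd_of_pow_modEq hl hmod'
  obtain ⟨heven, -⟩ := mc5_exc_even hG (by omega) hexc
  obtain ⟨r, hr⟩ := heven
  rcases hpp.eq_two_or_odd' with h2 | ⟨s, hs⟩
  · omega
  · obtain ⟨t, ht⟩ := hdvd
    have h5 : p - 1 = 2 * s := by omega
    rw [h5, mul_assoc] at ht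
    generalize s * t = q at ht
    omega

end Cfsg.Agent.MC5
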