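import Mathlib
import Cfsg.Prelude.Def_FusionSystem
import Cfsg.Agent.Lead.FusionSat3
import Cfsg.Agent.Lead.FusionAut
import Cfsg.Agent.Helper4.P4A

set_option autoImplicit false
set_option linter.unusedVariables false
set_option linter.style.haveILetI false

/-!
# S5316 project: generic fusion-system lemmas

* `mc5_fus_extend`: an automorphism `α ∈ Aut_F(Q)` of a receptive subgroup extends to every subgroup
  `R` of `N_α`.
* `mc5_fus_autS_normal`: if `N` is fully automized and `Aut_F(N)` stabilizes a normal chain of `N`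
  with all factors of order `p`, then `Aut_S(N)` is normal in `Aut_F(N)`.
-/

namespace Cfsg.Agent.MC5

open Cfsg Cfsg.FusionSystem Cfsg.Agent.Lead

variable {Ω : Type*} [Group Ω] {S : Subgroup Ω}

/-- An automorphism `α ∈ Aut_F(Q)` of a receptive subgroup extends to a map on any subgroup `R ≤ S`
all of whose elements normalize `Q` and lie in `N_α`. -/
theorem mc5_fus_extend (F : FusionSystem S) {Q : Subgroup Ω} (hrec : F.IsReceptive Q)
    (α : MulAut Q) (hα : α ∈ F.autGroup Q) (R : Subgroup Ω) (hQR : Q ≤ R)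
    (hR : ∀ g ∈ R, g ∈ S ∧ g ∈ Subgroup.normalizer (Q : Set Ω) ∧
      ∃ h ∈ S, ∀ (x : Q) (hx : g * (x : Ω) * g⁻¹ ∈ Q),
        ((α ⟨g * x * g⁻¹, hx⟩ : Q) : Ω) = h * ((α x : Q) : Ω) * h⁻¹) :
    ∃ ψ ∈ F.Hom R, ∀ (x : Ω) (hx : x ∈ Q), ψ ⟨x, hQR hx⟩ = ((α ⟨x, hx⟩ : Q) : Ω) := by
  have hQS := hrec.1
  have hφ := (Fusion.mem_autGroup_iff F hQS α).mp hα
  set φ : Q →* Ω := Q.subtype.comp α.toMonoidHom with hφdef
  have hr : φ.range = Q := by
    ext y
    constructor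
    · rintro ⟨x, rfl⟩
      exact (α x).2
    · intro hy
      refine ⟨α.symm ⟨y, hy⟩, ?_⟩
      simp [hφdef]
  obtain ⟨ψ', hψ', hext⟩ := hrec.2 Q φ hφ hr
  have hle : R ≤ extender S Q φ := by
    intro g hg
    obtain ⟨h1, h2, h, hh, h3⟩ := hR g hg
    apply Subgroup.subset_closure
    exact ⟨h1, h2, h, hh, fun x hx => h3 x hx⟩
  refine ⟨ψ'.comp (Subgroup.inclusion hle), Fusion.restrict_mem F hψ' hle, ?_⟩
  intro x hx
  exact hext x hx (hle (hQR hx))

/-- If `N` is fully automized and every element of `Aut_F(N)` stabilizes a chain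
`1 = K 0 < K 1 < ⋯ < K m = N` of normal subgroups of `N` with `|K i| = p ^ i`, then `Aut_S(N)` is
normal in `Aut_F(N)`. -/
theorem mc5_fus_autS_normal [Finite S] (p : ℕ) [hp : Fact p.Prime] (hS : IsPGroup p S)
    (F : FusionSystem S) {N : Subgroup Ω} (hfa : F.IsFullyAutomized p N) (m : ℕ)
    (K : ℕ → Subgroup ↥N) (hmono : ∀ i < m, K i ≤ K (i + 1)) (hK0 : K 0 = ⊥) (hKm : K m = ⊤)
    (hcard : ∀ i ≤ m, Nat.card (K i) = p ^ i) (hnorm : ∀ i ≤ m, (K i).Normal)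
    (hinv : ∀ φ ∈ F.autGroup N, ∀ i ≤ m, ∀ y ∈ K i, φ y ∈ K i) :
    ∀ φ ∈ F.autGroup N, ∀ u ∈ autInducedBy S N, φ * u * φ⁻¹ ∈ autInducedBy S N := by
  have hNS : N ≤ S := hfa.1
  haveI : Finite N := Fusion.finite_of_le hNS
  have hpos : 0 < p := hp.out.pos
  have hTA := Fusion.autInducedBy_le_autGroup F hNS
  have hTp := Fusion.isPGroup_autInducedBy p hS N
  set C := Cfsg.Agent.Helper4.P4A.chainStab m K hmono with hC
  have hCp : IsPGroup p C := Cfsg.Agent.Helper4.P4A.isPGroup_chainStab m K hmono hK0 hKm hcard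
  -- every `p`-element of `Aut_F(N)` lies in `C`
  have hpel : ∀ α ∈ F.autGroup N, ∀ k : ℕ, α ^ (p ^ k) = 1 → α ∈ C := by
    intro α hαA k hαk
    rw [hC, Cfsg.Agent.Helper4.P4A.mem_chainStab]
    intro i hi
    haveI hn1 : (K i).Normal := hnorm i hi.le
    haveI : ((K i).subgroupOf (K (i + 1))).Normal := inferInstance
    have hidx : Nat.card (K (i + 1) ⧸ (K i).subgroupOf (K (i + 1))) = p := by
      have := Cfsg.Agent.Lead.CharChain.card_quot_mul (K i) (K (i + 1)) (hmono i hi)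
      rw [hcard i hi.le, hcard (i + 1) hi, pow_succ'] at this
      exact Nat.eq_of_mul_eq_mul_right (pow_pos hpos i) this
    exact Cfsg.Agent.Lead.CharChain.section_trivial α k hαk (K i) (K (i + 1))
      (hinv α hαA (i + 1) hi) (hinv α hαA i hi.le) hidx
  -- `C ∩ Aut_F(N) = Aut_S(N)`
  obtain ⟨Rsyl, hRsyl⟩ := hfa.2
  have h1 : IsPGroup p ((C ⊓ F.autGroup N).subgroupOf (F.autGroup N)) :=
    (hCp.to_le inf_le_left).comap_subtype
  have hTC : autInducedBy S N ≤ C ⊓ F.autGroup N := by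
    intro u hu
    refine Subgroup.mem_inf.2 ⟨?_, hTA hu⟩
    obtain ⟨k, hk⟩ := hTp ⟨u, hu⟩
    exact hpel u (hTA hu) k (congrArg Subtype.val hk)
  have h2 : (Rsyl : Subgroup (F.autGroup N)) ≤ (C ⊓ F.autGroup N).subgroupOf (F.autGroup N) := by
    rw [hRsyl]
    exact Subgroup.subgroupOf_mono _ hTC
  have h3 := Rsyl.is_maximal' h1 h2
  intro φ hφ u hu
  have hmem : φ * u * φ⁻¹ ∈ F.autGroup N :=
    Subgroup.mul_mem _ (Subgroup.mul_mem _ hφ (hTA hu)) (Subgroup.inv_mem _ hφ)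
  have hCmem : φ * u * φ⁻¹ ∈ C := by
    obtain ⟨k, hk⟩ := hTp ⟨u, hu⟩
    have hk' : u ^ (p ^ k) = 1 := congrArg Subtype.val hk
    apply hpel _ hmem k
    rw [conj_pow, hk', mul_one, mul_inv_cancel]
  have h4 : (⟨φ * u * φ⁻¹, hmem⟩ : F.autGroup N) ∈
      (C ⊓ F.autGroup N).subgroupOf (F.autGroup N) :=
    Subgroup.mem_subgroupOf.2 (Subgroup.mem_inf.2 ⟨hCmem, hmem⟩)
  rw [h3, hRsyl, Subgroup.mem_subgroupOf] at h4
  exact h4

end Cfsg.Agent.MC5
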