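import Mathlib
import Cfsg.Prelude.Def_FusionSystem
import Cfsg.Agent.MC5.Base
import Cfsg.Agent.Helper9.G3E
import Cfsg.Agent.Helper1.MaxClassBasic
import Cfsg.Agent.Lead.FusionKNorm2
import Cfsg.Agent.Lead.FusionConj

set_option autoImplicit false
set_option linter.unusedVariables false
set_option linter.style.haveILetI false

/-!
# S5316 project, glue part A: the configuration `Cfg p n ↥S (E.subgroupOf S)`
-/

namespace Cfsg.Agent.MC5

open Cfsg Cfsg.FusionSystem Cfsg.Agent.Lead Cfsg.Agent.Helper4.MC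

variable {Ω : Type*} [Group Ω] {S : Subgroup Ω}

/-- the normalizer in `↥S` of `E.subgroupOf S` corresponds to `N_S(E)` -/
theorem mc5_glue_mem_normalizer {E : Subgroup Ω} (hES : E ≤ S) (s : ↥S) :
    s ∈ Subgroup.normalizer ((E.subgroupOf S : Subgroup ↥S) : Set ↥S) ↔
      (s : Ω) ∈ normalizerIn S E := by
  rw [Subgroup.mem_normalizer_iff]
  constructor
  · intro h
    refine Subgroup.mem_inf.2 ⟨s.2, ?_⟩
    rw [Subgroup.mem_normalizer_iff]
    intro y
    constructor
    · intro hy
      have := (h ⟨y, hES hy⟩).1 (Subgroup.mem_subgroupOf.2 hy)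
      exact Subgroup.mem_subgroupOf.1 this
    · intro hy
      have hyS : y ∈ S := by
        have h1 : (s : Ω)⁻¹ * ((s : Ω) * y * (s : Ω)⁻¹) * (s : Ω) = y := by group
        rw [← h1]
        exact S.mul_mem (S.mul_mem (S.inv_mem s.2) (hES hy)) s.2
      have := (h ⟨y, hyS⟩).2 (Subgroup.mem_subgroupOf.2 hy)
      exact Subgroup.mem_subgroupOf.1 this
  · intro h t
    have h1 := (Subgroup.mem_normalizer_iff.1 (Subgroup.mem_inf.1 h).2) (t : Ω)
    constructor
    · intro ht
      exact Subgroup.mem_subgroupOf.2 (h1.1 (Subgroup.mem_subgroupOf.1 ht))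
    · intro ht
      exact Subgroup.mem_subgroupOf.2 (h1.2 (Subgroup.mem_subgroupOf.1 ht))

theorem mc5_glue_map_normalizer {E : Subgroup Ω} (hES : E ≤ S) :
    (Subgroup.normalizer ((E.subgroupOf S : Subgroup ↥S) : Set ↥S)).map S.subtype =
      normalizerIn S E := by
  ext x
  constructor
  · rintro ⟨s, hs, rfl⟩
    exact (mc5_glue_mem_normalizer hES s).1 hs
  · intro hx
    exact ⟨⟨x, (Subgroup.mem_inf.1 hx).1⟩, (mc5_glue_mem_normalizer hES _).2 hx, rfl⟩

/-- `|N_S(E)| = p⁴` for an essential elementary abelian subgroup of order `p³`. -/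
theorem mc5_glue_card_normalizerIn [Finite S] (p : ℕ) [hp : Fact p.Prime] (hS : IsPGroup p S)
    (F : FusionSystem S) (hF : F.IsSaturated p) (E : Subgroup Ω) (hE : F.IsEssential p E)
    (hEA : Cfsg.IsElementaryAbelian p E) (hEc : Nat.card E = p ^ 3) :
    Nat.card (normalizerIn S E) = p ^ 4 := by
  have hpp := hp.out
  have hES : E ≤ S := hE.1.1
  have hNS : normalizerIn S E ≤ S := inf_le_left
  haveI : Finite E := Fusion.finite_of_le hES
  haveI : Finite (normalizerIn S E) := Fusion.finite_of_le hNS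
  have hT := Cfsg.Agent.Helper9.G3.card_autInducedBy_of_essential p hS F hF E hE hEA hEc
  have hcent : centralizerIn S E ≤ E := hE.1.2 E (Fusion.isConj_refl F hES)
  -- upper bound
  have h1 := card_le_card_autInducedBy_mul (normalizerIn S E) E inf_le_right
  have h2 : Nat.card (autInducedBy (normalizerIn S E) E) ≤ p := by
    rw [← hT]
    apply Subgroup.card_le_of_le
    intro α hα
    obtain ⟨g, hg, h⟩ := (mem_autInducedBy_iff _ _ α).1 hα
    exact (mem_autInducedBy_iff _ _ α).2 ⟨g, hNS hg, h⟩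
  have h3 : Nat.card ↥(normalizerIn S E ⊓ Subgroup.centralizer (E : Set Ω)) ≤ p ^ 3 := by
    rw [← hEc]
    apply Subgroup.card_le_of_le
    intro x hx
    exact hcent (Subgroup.mem_inf.2 ⟨hNS (Subgroup.mem_inf.1 hx).1, (Subgroup.mem_inf.1 hx).2⟩)
  have hle : Nat.card (normalizerIn S E) ≤ p ^ 4 := by
    calc Nat.card (normalizerIn S E) ≤ _ := h1
      _ ≤ p * p ^ 3 := Nat.mul_le_mul h2 h3
      _ = p ^ 4 := by ring
  -- lower bound: normalizers grow
  have hlt : E < S := lt_of_le_of_ne hES (Cfsg.Agent.Helper4.Rk.essential_facts hS F hF hE).2.2.2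
  have hgrow : E < normalizerIn S E := by
    haveI : Group.IsNilpotent ↥S := hS.isNilpotent
    have hnc := Group.normalizerCondition_of_isNilpotent (G := ↥S)
    have hE'top : E.subgroupOf S < ⊤ := by
      refine lt_of_le_of_ne le_top ?_
      intro h
      rw [Subgroup.subgroupOf_eq_top] at h
      exact absurd h (not_le_of_gt hlt)
    have h4 := hnc (E.subgroupOf S) hE'top
    refine lt_of_le_of_ne (Fusion.le_normalizerIn hES) ?_
    intro heq
    obtain ⟨hle', hne⟩ := h4
    apply hne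
    intro s hs
    have := (mc5_glue_mem_normalizer hES s).1 hs
    rw [← heq] at this
    exact Subgroup.mem_subgroupOf.2 this
  have hNp : IsPGroup p (normalizerIn S E) := hS.to_le hNS
  obtain ⟨k, hk⟩ := IsPGroup.iff_card.1 hNp
  have hcardlt : Nat.card E < Nat.card (normalizerIn S E) := by
    apply lt_of_not_ge
    intro hge
    exact hgrow.ne (Subgroup.eq_of_le_of_card_ge hgrow.le hge)
  rw [hk] at hle hcardlt ⊢
  rw [hEc] at hcardlt
  have h5 : 3 < k := (Nat.pow_lt_pow_iff_right hpp.one_lt).1 hcardlt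
  have h6 : k ≤ 4 := (Nat.pow_le_pow_iff_right hpp.one_lt).1 hle
  have : k = 4 := by omega
  rw [this]

/-- `↥S` is of maximal class -/
theorem mc5_glue_isMC [Finite S] (p : ℕ) [hp : Fact p.Prime] (hS : IsPGroup p ↥S) (n : ℕ)
    (hn : Nat.card S = p ^ n) (h5 : 5 ≤ n) (hmax : Subgroup.lowerCentralSeries S (n - 2) ≠ ⊥) :
    IsMC p n ↥S := by
  haveI : Group.IsNilpotent ↥S := hS.isNilpotent
  refine ⟨hn, by omega, ?_⟩
  apply le_antisymm
  · exact Cfsg.Agent.Helper1.nilpotencyClass_le_pred (p := p) n ↥S hn (by omega)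
  · by_contra hlt
    push Not at hlt
    have h1 : Group.nilpotencyClass ↥S ≤ n - 2 := by omega
    rw [← Subgroup.lowerCentralSeries_eq_bot_iff_nilpotencyClass_le] at h1
    apply hmax
    rw [← Subgroup.top_subtype_lowerCentralSeries, h1, Subgroup.map_bot]

/-- the configuration -/
theorem mc5_glue_cfg [Finite S] (p : ℕ) [hp : Fact p.Prime] (hp5 : 5 ≤ p) (hS : IsPGroup p ↥S)
    (n : ℕ) (hn : Nat.card S = p ^ n) (h5 : 5 ≤ n)
    (hmax : Subgroup.lowerCentralSeries S (n - 2) ≠ ⊥) (F : FusionSystem S)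
    (hF : F.IsSaturated p) (E : Subgroup Ω) (hE : F.IsEssential p E)
    (hEA : Cfsg.IsElementaryAbelian p E) (hEc : Nat.card E = p ^ 3) :
    Cfg p n ↥S (E.subgroupOf S) := by
  have hES : E ≤ S := hE.1.1
  have hcent : centralizerIn S E ≤ E := hE.1.2 E (Fusion.isConj_refl F hES)
  refine ⟨mc5_glue_isMC p hS n hn h5 hmax, hp5, h5, ?_, ?_, ?_, ?_, ?_⟩
  · intro a ha b hb
    apply Subtype.ext
    have := hEA.1.is_comm.comm ⟨a.1, Subgroup.mem_subgroupOf.1 ha⟩ ⟨b.1, Subgroup.mem_subgroupOf.1 hb⟩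
    have h2 := congrArg (Subtype.val : ↥E → Ω) this
    simpa using h2
  · intro a ha
    apply Subtype.ext
    have := hEA.2 a.1 (Subgroup.mem_subgroupOf.1 ha)
    simpa using this
  · rw [Nat.card_congr (Subgroup.subgroupOfEquivOfLe hES).toEquiv, hEc]
  · intro u hu
    rw [Subgroup.mem_subgroupOf]
    apply hcent
    refine Subgroup.mem_inf.2 ⟨u.2, ?_⟩
    rw [Subgroup.mem_centralizer_iff]
    intro y hy
    have := hu ⟨y, hES hy⟩ (Subgroup.mem_subgroupOf.2 hy)
    exact (congrArg Subtype.val this.eq).symm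
  · rw [← mc5_glue_card_normalizerIn p hS F hF E hE hEA hEc, ← mc5_glue_map_normalizer hES,
      Subgroup.card_map_of_injective S.subtype_injective]

end Cfsg.Agent.MC5
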