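import Mathlib
import Cfsg.Prelude.Def_FusionSystem
import Cfsg.Agent.MC5.Eig
import Cfsg.Agent.Lead.Fusion

set_option autoImplicit false
set_option linter.unusedVariables false
set_option linter.style.haveILetI false

/-!
# S5316 project, glue part B: from maps of the fusion system to functions `↥S → ↥S`
-/

namespace Cfsg.Agent.MC5

open Cfsg Cfsg.FusionSystem Cfsg.Agent.Lead

variable {Ω : Type*} [Group Ω] {S : Subgroup Ω}

open Classical in
/-- a homomorphism `ψ : R → Ω` with values in `S`, as a function `↥S → ↥S` (junk value `1` outside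
`R`) -/
noncomputable def mc5Fun (R : Subgroup Ω) (ψ : ↥R →* Ω) (hψS : ∀ x, ψ x ∈ S) : ↥S → ↥S :=
  fun s => if hs : (s : Ω) ∈ R then ⟨ψ ⟨s, hs⟩, hψS _⟩ else 1

theorem mc5Fun_apply (R : Subgroup Ω) (ψ : ↥R →* Ω) (hψS : ∀ x, ψ x ∈ S) (s : ↥S)
    (hs : (s : Ω) ∈ R) : ((mc5Fun R ψ hψS s : ↥S) : Ω) = ψ ⟨s, hs⟩ := by
  unfold mc5Fun
  rw [dif_pos hs]

theorem mc5Fun_autOn (R : Subgroup Ω) (ψ : ↥R →* Ω) (hψS : ∀ x, ψ x ∈ S)
    (hinj : Function.Injective ψ) (hr : ∀ x, ψ x ∈ R) :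
    AutOn (R.subgroupOf S) (mc5Fun R ψ hψS) := by
  refine ⟨fun s hs => ?_, fun s hs t ht => ?_, fun s hs h1 => ?_⟩
  · rw [Subgroup.mem_subgroupOf] at hs ⊢
    rw [mc5Fun_apply R ψ hψS s hs]
    exact hr _
  · rw [Subgroup.mem_subgroupOf] at hs ht
    apply Subtype.ext
    have hst : ((s * t : ↥S) : Ω) ∈ R := R.mul_mem hs ht
    rw [mc5Fun_apply R ψ hψS _ hst]
    have h1 : ((mc5Fun R ψ hψS s * mc5Fun R ψ hψS t : ↥S) : Ω) = ψ ⟨s, hs⟩ * ψ ⟨t, ht⟩ := by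
      rw [Subgroup.coe_mul, mc5Fun_apply R ψ hψS s hs, mc5Fun_apply R ψ hψS t ht]
    rw [h1, ← map_mul]
    rfl
  · rw [Subgroup.mem_subgroupOf] at hs
    have h2 := congrArg (Subtype.val : ↥S → Ω) h1
    rw [mc5Fun_apply R ψ hψS s hs, Subgroup.coe_one, ← map_one ψ] at h2
    have h3 := hinj h2
    apply Subtype.ext
    exact congrArg (Subtype.val : ↥R → Ω) h3

/-- the function attached to an `F`-automorphism -/
noncomputable def mc5FunAut (F : FusionSystem S) {R : Subgroup Ω} (hRS : R ≤ S) (γ : MulAut ↥R) :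
    ↥S → ↥S :=
  mc5Fun R (R.subtype.comp γ.toMonoidHom) (fun x => hRS (γ x).2)

theorem mc5FunAut_apply (F : FusionSystem S) {R : Subgroup Ω} (hRS : R ≤ S) (γ : MulAut ↥R)
    (s : ↥S) (hs : (s : Ω) ∈ R) : ((mc5FunAut F hRS γ s : ↥S) : Ω) = ((γ ⟨s, hs⟩ : ↥R) : Ω) :=
  mc5Fun_apply R _ _ s hs

theorem mc5FunAut_autOn (F : FusionSystem S) {R : Subgroup Ω} (hRS : R ≤ S) (γ : MulAut ↥R) :
    AutOn (R.subgroupOf S) (mc5FunAut F hRS γ) := by
  apply mc5Fun_autOn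
  · intro a b hab
    apply γ.injective
    apply Subtype.ext
    exact hab
  · intro x
    exact (γ x).2

/-- `(P'.map ι).subgroupOf S = P'` -/
theorem mc5_subgroupOf_map (P' : Subgroup ↥S) : (P'.map S.subtype).subgroupOf S = P' := by
  ext s
  rw [Subgroup.mem_subgroupOf]
  exact Subgroup.mem_map_iff_mem S.subtype_injective

theorem mc5_map_le (P' : Subgroup ↥S) : P'.map S.subtype ≤ S := by
  rintro _ ⟨s, -, rfl⟩
  exact s.2

theorem mc5_mem_map {P' : Subgroup ↥S} {s : ↥S} : (s : Ω) ∈ P'.map S.subtype ↔ s ∈ P' :=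
  Subgroup.mem_map_iff_mem S.subtype_injective

end Cfsg.Agent.MC5
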