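import Mathlib
import Cfsg.Agent.Lead.EssPSq3
import Cfsg.Agent.Lead.GexA

set_option autoImplicit false

/-!
S5316, linear step, part A: the `SL₂(p)` engine with explicit fixed vectors, the torus element,
restriction of automorphisms to an invariant subgroup, and the chain criterion.
-/

namespace Cfsg.Agent.MC5

open Cfsg.Agent.Lead.EssPSq

section Engine

variable {H : Type*} [Group H] [Finite H] {p : ℕ} [hp : Fact p.Prime]

/-- Two automorphisms of order `p` of `C_p²` with independent fixed vectors `x`, `y` generate the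
full image of `SL₂(p)` in the coordinates `x`, `y`. -/
theorem mc5_tv_sl2_range (h : EA p H) (A : Subgroup (MulAut H)) (α β : MulAut H) (hα : α ∈ A)
    (hβ : β ∈ A) (hαp : α ^ p = 1) (hβp : β ^ p = 1) (hα1 : α ≠ 1) (hβ1 : β ≠ 1)
    {x y : H} (hx : x ≠ 1) (hy : y ∉ Subgroup.zpowers x) (hαx : α x = x) (hβy : β y = y) :
    (phi (coordEquiv h hx hy)).range ≤ A := by
  have hy1 : y ≠ 1 := fun h1 => hy (h1 ▸ Subgroup.one_mem _)
  have hxy : x ∉ Subgroup.zpowers y := not_mem_symm h hx hy1 hy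
  obtain ⟨a, ha⟩ := L1 h hx hy α hαp hαx
  obtain ⟨c, hc⟩ := L1 h hy1 hxy β hβp hβy
  have ha0 : a ≠ 0 := by
    rintro rfl
    apply hα1
    apply agree h hx hy
    · rw [hαx]; rfl
    · rw [ha, ZMod.val_zero, pow_zero, one_mul]; rfl
  have hc0 : c ≠ 0 := by
    rintro rfl
    apply hβ1
    apply agree h hx hy
    · rw [hc, ZMod.val_zero, pow_zero, one_mul]; rfl
    · rw [hβy]; rfl
  have htop : A.comap (phi (coordEquiv h hx hy)) = ⊤ := by
    apply sl2_gen
    · intro t
      rw [Subgroup.mem_comap, G1 h hx hy _ (coordEquiv_apply h hx hy) α hαx ha0 ha t]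
      exact A.pow_mem hα _
    · intro t
      rw [Subgroup.mem_comap, G2 h hx hy _ (coordEquiv_apply h hx hy) β hβy hc0 hc t]
      exact A.pow_mem hβ _
  rintro _ ⟨M, rfl⟩
  have : M ∈ A.comap (phi (coordEquiv h hx hy)) := by rw [htop]; exact Subgroup.mem_top M
  exact this

/-- the torus element `diag(a, b)`, `a b = 1` -/
def mc5_tv_torus (a b : ZMod p) (hab : a * b = 1) : SL2 p :=
  ⟨!![a, 0; 0, b], by rw [Matrix.det_fin_two_of, mul_zero, sub_zero, hab]⟩

theorem mc5_tv_torus_val (a b : ZMod p) (hab : a * b = 1) :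
    (mc5_tv_torus a b hab).1 = !![a, 0; 0, b] := rfl

theorem mc5_tv_torus_apply_aux {x y : H} (e : Multiplicative (Fin 2 → ZMod p) ≃* H)
    (he : ∀ v : Fin 2 → ZMod p, e (Multiplicative.ofAdd v) = x ^ (v 0).val * y ^ (v 1).val)
    (a b : ZMod p) (hab : a * b = 1) :
    phi e (mc5_tv_torus a b hab) x = x ^ a.val ∧
      phi e (mc5_tv_torus a b hab) y = y ^ b.val := by
  have hex : e (Multiplicative.ofAdd ![1, 0]) = x := by
    rw [he]; simp [pow_val_one]
  have hey : e (Multiplicative.ofAdd ![0, 1]) = y := by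
    rw [he]; simp [pow_val_one]
  constructor
  · conv_lhs => rw [← hex]
    rw [phi_apply, mc5_tv_torus_val]
    have : (!![a, 0; 0, b] : Matrix (Fin 2) (Fin 2) (ZMod p)).mulVec ![1, 0] = ![a, 0] := by
      ext i; fin_cases i <;> simp [Matrix.mulVec, dotProduct, Fin.sum_univ_two]
    rw [this, he]
    simp
  · conv_lhs => rw [← hey]
    rw [phi_apply, mc5_tv_torus_val]
    have : (!![a, 0; 0, b] : Matrix (Fin 2) (Fin 2) (ZMod p)).mulVec ![0, 1] = ![0, b] := by
      ext i; fin_cases i <;> simp [Matrix.mulVec, dotProduct, Fin.sum_univ_two]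
    rw [this, he]
    simp

theorem mc5_tv_torus_apply (h : EA p H) {x y : H} (hx : x ≠ 1) (hy : y ∉ Subgroup.zpowers x)
    (a b : ZMod p) (hab : a * b = 1) :
    phi (coordEquiv h hx hy) (mc5_tv_torus a b hab) x = x ^ a.val ∧
      phi (coordEquiv h hx hy) (mc5_tv_torus a b hab) y = y ^ b.val :=
  mc5_tv_torus_apply_aux _ (coordEquiv_apply h hx hy) a b hab

end Engine

end Cfsg.Agent.MC5
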