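import Mathlib
import Cfsg.Agent.MC5.TvA

set_option autoImplicit false

/-!
S5316, linear step, part B: commutator map of an automorphism of an abelian group, transvections
of `C_p³`, the chain criterion.
-/

namespace Cfsg.Agent.MC5

open Cfsg.Agent.Lead.EssPSq

variable {E : Type*} [Group E] {p : ℕ} [hp : Fact p.Prime]

/-- `x ↦ x⁻¹ α(x)` as an endomorphism of a commutative group -/
def mc5_tv_nu (hcomm : ∀ a b : E, a * b = b * a) (α : MulAut E) : E →* E where
  toFun x := x⁻¹ * α x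
  map_one' := by simp
  map_mul' x y := by
    rw [map_mul, mul_inv_rev, hcomm y⁻¹ x⁻¹, mul_assoc, mul_assoc, ← mul_assoc y⁻¹,
      hcomm y⁻¹ (α x), mul_assoc]

theorem mc5_tv_nu_apply (hcomm : ∀ a b : E, a * b = b * a) (α : MulAut E) (x : E) :
    mc5_tv_nu hcomm α x = x⁻¹ * α x := rfl

theorem mc5_tv_mem_ker (hcomm : ∀ a b : E, a * b = b * a) (α : MulAut E) (x : E) :
    x ∈ (mc5_tv_nu hcomm α).ker ↔ α x = x := by
  rw [MonoidHom.mem_ker, mc5_tv_nu_apply, inv_mul_eq_one, eq_comm]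

theorem mc5_tv_apply_eq (hcomm : ∀ a b : E, a * b = b * a) (α : MulAut E) (x : E) :
    α x = x * mc5_tv_nu hcomm α x := by
  rw [mc5_tv_nu_apply, mul_inv_cancel_left]

/-- `α` commutes with its commutator map -/
theorem mc5_tv_nu_comm (hcomm : ∀ a b : E, a * b = b * a) (α : MulAut E) (x : E) :
    α (mc5_tv_nu hcomm α x) = mc5_tv_nu hcomm α (α x) := by
  rw [mc5_tv_nu_apply, mc5_tv_nu_apply, map_mul, map_inv]

variable [Finite E]

/-- A nontrivial automorphism fixing a subgroup of order `p²` of a commutative group of order `p³`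
pointwise: that subgroup is the fixed-point group and the commutator group has order `p`. -/
theorem mc5_tv_ker_range (hcomm : ∀ a b : E, a * b = b * a) (hcard : Nat.card E = p ^ 3)
    (α : MulAut E) (hα1 : α ≠ 1) (C : Subgroup E) (hC : Nat.card C = p ^ 2)
    (hfix : ∀ c ∈ C, α c = c) :
    (mc5_tv_nu hcomm α).ker = C ∧ Nat.card (mc5_tv_nu hcomm α).range = p := by
  have hpos : 0 < p := hp.out.pos
  have hle : C ≤ (mc5_tv_nu hcomm α).ker := fun c hc =>
    (mc5_tv_mem_ker hcomm α c).2 (hfix c hc)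
  have hne : (mc5_tv_nu hcomm α).ker ≠ ⊤ := by
    intro htop
    apply hα1
    ext x
    have : x ∈ (mc5_tv_nu hcomm α).ker := by rw [htop]; exact Subgroup.mem_top x
    exact (mc5_tv_mem_ker hcomm α x).1 this
  have hdvd : Nat.card (mc5_tv_nu hcomm α).ker ∣ p ^ 3 := hcard ▸ Subgroup.card_subgroup_dvd_card _
  obtain ⟨k, hk3, hk⟩ := (Nat.dvd_prime_pow hp.out).1 hdvd
  have hk2 : 2 ≤ k := by
    have h1 : p ^ 2 ∣ p ^ k := by
      rw [← hC, ← hk]; exact Subgroup.card_dvd_of_le hle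
    exact (Nat.pow_dvd_pow_iff_le_right hp.out.one_lt).1 h1
  have hk3' : k ≠ 3 := by
    rintro rfl
    exact hne (Subgroup.eq_top_of_card_eq _ (by rw [hk, hcard]))
  have hk' : k = 2 := by omega
  subst hk'
  have hker : (mc5_tv_nu hcomm α).ker = C :=
    (Subgroup.eq_of_le_of_card_ge hle (by rw [hk, hC])).symm
  refine ⟨hker, ?_⟩
  have h1 := Subgroup.card_mul_index (mc5_tv_nu hcomm α).ker
  rw [Subgroup.index_ker, hk, hcard] at h1
  have h3 : p ^ 3 = p ^ 2 * p := by ring
  rw [h3] at h1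
  exact Nat.eq_of_mul_eq_mul_left (pow_pos hpos 2) h1

omit [Finite E] in
/-- integer powers of an element of order dividing `p` as `ZMod p`-powers -/
theorem mc5_tv_zpow_eq {x : E} (hx : x ^ p = 1) (m : ℤ) : x ^ m = x ^ ((m : ZMod p)).val := by
  have h1 : x ^ (p : ℤ) = 1 := by rw [zpow_natCast, hx]
  rw [zpow_eq_zpow_emod m h1, ← ZMod.val_intCast, zpow_natCast]

omit [Finite E] in
theorem mc5_tv_mem_zpowers_iff {x z : E} (hx : x ^ p = 1) :
    z ∈ Subgroup.zpowers x ↔ ∃ i : ZMod p, z = x ^ i.val := by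
  constructor
  · intro hz
    obtain ⟨m, rfl⟩ := Subgroup.mem_zpowers_iff.1 hz
    exact ⟨(m : ZMod p), mc5_tv_zpow_eq hx m⟩
  · rintro ⟨i, rfl⟩
    exact Subgroup.pow_mem _ (Subgroup.mem_zpowers x) _

/-- a nontrivial element of a subgroup of order `p` generates it -/
theorem mc5_tv_zpowers_eq {Z : Subgroup E} (hZ : Nat.card Z = p) {z : E} (hz : z ∈ Z)
    (hz1 : z ≠ 1) : Subgroup.zpowers z = Z := by
  have hle : Subgroup.zpowers z ≤ Z := by rw [Subgroup.zpowers_le]; exact hz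
  apply Subgroup.eq_of_le_of_card_ge hle
  have hdvd : Nat.card (Subgroup.zpowers z) ∣ p := hZ ▸ Subgroup.card_dvd_of_le hle
  rcases (Nat.dvd_prime hp.out).1 hdvd with h1 | h1
  · exfalso
    apply hz1
    have := Subgroup.card_eq_one.1 h1
    have hm : z ∈ Subgroup.zpowers z := Subgroup.mem_zpowers z
    rw [this, Subgroup.mem_bot] at hm
    exact hm
  · rw [h1, hZ]

/-- An automorphism of `p`-power order `p` acts trivially on an invariant subgroup of order `p`. -/
theorem mc5_tv_fix_of_card_eq (α : MulAut E) (hαp : α ^ p = 1) (Z : Subgroup E)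
    (hZ : Nat.card Z = p) (hinv : ∀ z ∈ Z, α z ∈ Z) : ∀ z ∈ Z, α z = z := by
  intro z hz
  by_cases hz1 : z = 1
  · rw [hz1, map_one]
  have hzp : z ^ p = 1 := by
    have := pow_card_eq_one' (G := Z) (x := ⟨z, hz⟩)
    rw [hZ] at this
    exact congrArg Subtype.val this
  have hgen := mc5_tv_zpowers_eq hZ hz hz1
  have hαz : α z ∈ Subgroup.zpowers z := by rw [hgen]; exact hinv z hz
  obtain ⟨i, hi⟩ := (mc5_tv_mem_zpowers_iff hzp).1 hαz
  have key : ∀ n : ℕ, (α ^ n) z = z ^ (i ^ n).val := by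
    intro n
    induction n with
    | zero => rw [pow_zero, pow_zero, pow_val_one]; rfl
    | succ n ih =>
      rw [pow_succ', MulAut.mul_apply, ih, map_pow, hi, ← pow_val_mul hzp, ← pow_succ']
  have h1 := key p
  rw [hαp, ZMod.pow_card, MulAut.one_apply] at h1
  rw [hi, ← h1]

/-- The chain criterion: if `τ` moves everything by elements of `Z`, fixes `Z` pointwise, `τ'` moves
everything by elements of `K'`, fixes `K'` pointwise, and `Z ≤ K'`, then `⟨τ, τ'⟩` is a
`p`-group. -/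
theorem mc5_tv_isPGroup_closure (hE : IsPGroup p E) (τ τ' : MulAut E) (Z K' : Subgroup E)
    (hZK : Z ≤ K') (h1 : ∀ e : E, e⁻¹ * τ e ∈ Z) (h2 : ∀ z ∈ Z, τ z = z)
    (h3 : ∀ e : E, e⁻¹ * τ' e ∈ K') (h4 : ∀ z ∈ K', τ' z = z) :
    IsPGroup p (Subgroup.closure ({τ, τ'} : Set (MulAut E))) := by
  have hanti := Cfsg.Agent.Lead.Gex.chain4_anti (Q := E) (M := K') (W := Z) (Z₁ := ⊥) hZK bot_le
  apply Cfsg.Agent.Lead.Gex.isPGroup_of_chainStab hE hanti
    (Cfsg.Agent.Lead.Gex.chain4_zero K' Z ⊥) (Cfsg.Agent.Lead.Gex.chain4_four K' Z ⊥)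
  intro α hα
  apply Cfsg.Agent.Lead.Gex.ChainStab.of_mem_closure hanti _ hα
  intro β hβ
  rcases hβ with rfl | hβ
  · apply Cfsg.Agent.Lead.Gex.chainStab_chain4
    · intro x; exact hZK (h1 x)
    · intro x _; exact h1 x
    · intro x hx
      rw [h2 x hx, inv_mul_cancel]; exact Subgroup.one_mem _
    · intro x hx
      rw [Subgroup.mem_bot.1 hx, map_one]
  · rw [Set.mem_singleton_iff] at hβ
    subst hβ
    apply Cfsg.Agent.Lead.Gex.chainStab_chain4
    · intro x; exact h3 x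
    · intro x hx
      rw [h4 x hx, inv_mul_cancel]; exact Subgroup.one_mem _
    · intro x hx
      rw [h4 x (hZK hx), inv_mul_cancel]; exact Subgroup.one_mem _
    · intro x hx
      rw [Subgroup.mem_bot.1 hx, map_one]

/-- If the `p`-subgroups of `A` have order at most `p`, two elements of order `p` generating a
`p`-group generate the same subgroup. -/
theorem mc5_tv_mem_zpowers_of_isPGroup (A : Subgroup (MulAut E)) (τ τ' : MulAut E)
    (hτ : τ ∈ A) (hτ' : τ' ∈ A) (hτp : τ ^ p = 1) (hτ1 : τ ≠ 1)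
    (hsyl : ∀ Q : Subgroup (MulAut E), Q ≤ A → IsPGroup p Q → Nat.card Q ≤ p)
    (hQ : IsPGroup p (Subgroup.closure ({τ, τ'} : Set (MulAut E)))) :
    τ' ∈ Subgroup.zpowers τ := by
  have hle : Subgroup.closure ({τ, τ'} : Set (MulAut E)) ≤ A := by
    rw [Subgroup.closure_le]
    rintro β (rfl | hβ)
    · exact hτ
    · rw [Set.mem_singleton_iff] at hβ; subst hβ; exact hτ'
  have hcard := hsyl _ hle hQ
  have hz : Subgroup.zpowers τ ≤ Subgroup.closure ({τ, τ'} : Set (MulAut E)) := by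
    rw [Subgroup.zpowers_le]
    exact Subgroup.subset_closure (Set.mem_insert _ _)
  have hzc : Nat.card (Subgroup.zpowers τ) = p := by
    rw [Nat.card_zpowers]
    exact orderOf_eq_prime hτp hτ1
  have := Subgroup.eq_of_le_of_card_ge hz (by rw [hzc]; exact hcard)
  rw [this]
  exact Subgroup.subset_closure (Set.mem_insert_of_mem _ rfl)

end Cfsg.Agent.MC5
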