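import Mathlib
import Cfsg.Agent.MC5.TvB

set_option autoImplicit false

/-!
S5316, linear step, part C: two transvections of `C_p³` in a group of automorphisms whose
`p`-subgroups have order at most `p` are opposite; coordinates.
-/

namespace Cfsg.Agent.MC5

open Cfsg.Agent.Lead.EssPSq

variable {E : Type*} [Group E] {p : ℕ} [hp : Fact p.Prime]

/-- The data of the pair lemma: `τ`, `τ'` of order `p` in `A`, each fixing a subgroup of order `p²`
pointwise, generating different subgroups; `p`-subgroups of `A` have order at most `p`. -/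
structure Mc5TvPair (p : ℕ) (A : Subgroup (MulAut E)) (τ τ' : MulAut E) (C C' : Subgroup E) :
    Prop where
  comm : ∀ a b : E, a * b = b * a
  exp : ∀ a : E, a ^ p = 1
  card : Nat.card E = p ^ 3
  mem : τ ∈ A
  mem' : τ' ∈ A
  pow : τ ^ p = 1
  pow' : τ' ^ p = 1
  ne : τ ≠ 1
  notMem : τ' ∉ Subgroup.zpowers τ
  cardC : Nat.card C = p ^ 2
  cardC' : Nat.card C' = p ^ 2
  fix : ∀ c ∈ C, τ c = c
  fix' : ∀ c ∈ C', τ' c = c
  syl : ∀ Q : Subgroup (MulAut E), Q ≤ A → IsPGroup p Q → Nat.card Q ≤ p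

namespace Mc5TvPair

variable {A : Subgroup (MulAut E)} {τ τ' : MulAut E} {C C' : Subgroup E}

omit hp in
theorem ne' (P : Mc5TvPair p A τ τ' C C') : τ' ≠ 1 :=
  fun h => P.notMem (h ▸ Subgroup.one_mem _)

theorem symm (P : Mc5TvPair p A τ τ' C C') : Mc5TvPair p A τ' τ C' C where
  comm := P.comm
  exp := P.exp
  card := P.card
  mem := P.mem'
  mem' := P.mem
  pow := P.pow'
  pow' := P.pow
  ne := P.ne'
  notMem := by
    intro hmem
    apply P.notMem
    have hle : Subgroup.zpowers τ ≤ Subgroup.zpowers τ' := by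
      rw [Subgroup.zpowers_le]; exact hmem
    have h1 : Nat.card (Subgroup.zpowers τ) = p := by
      rw [Nat.card_zpowers]; exact orderOf_eq_prime P.pow P.ne
    have h2 : Nat.card (Subgroup.zpowers τ') = p := by
      rw [Nat.card_zpowers]; exact orderOf_eq_prime P.pow' P.ne'
    have : Finite (Subgroup.zpowers τ') := Nat.finite_of_card_ne_zero (by
      rw [h2]; exact hp.out.ne_zero)
    have := Subgroup.eq_of_le_of_card_ge hle (by rw [h1, h2])
    rw [this]
    exact Subgroup.mem_zpowers τ'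
  cardC := P.cardC'
  cardC' := P.cardC
  fix := P.fix'
  fix' := P.fix
  syl := P.syl

variable [Finite E]

theorem ker_eq (P : Mc5TvPair p A τ τ' C C') : (mc5_tv_nu P.comm τ).ker = C :=
  (mc5_tv_ker_range P.comm P.card τ P.ne C P.cardC P.fix).1

theorem card_range (P : Mc5TvPair p A τ τ' C C') : Nat.card (mc5_tv_nu P.comm τ).range = p :=
  (mc5_tv_ker_range P.comm P.card τ P.ne C P.cardC P.fix).2

theorem fix_range (P : Mc5TvPair p A τ τ' C C') :
    ∀ z ∈ (mc5_tv_nu P.comm τ).range, τ z = z := by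
  apply mc5_tv_fix_of_card_eq τ P.pow _ P.card_range
  rintro _ ⟨x, rfl⟩
  exact ⟨τ x, (mc5_tv_nu_comm P.comm τ x).symm⟩

theorem range_le (P : Mc5TvPair p A τ τ' C C') : (mc5_tv_nu P.comm τ).range ≤ C := by
  intro z hz
  rw [← P.ker_eq, mc5_tv_mem_ker]
  exact P.fix_range z hz

omit hp [Finite E] in
theorem isPGroup (P : Mc5TvPair p A τ τ' C C') : IsPGroup p E :=
  IsPGroup.of_card P.card

/-- the commutator group of `τ` is not centralized by `τ'` -/
theorem not_le (P : Mc5TvPair p A τ τ' C C') : ¬ (mc5_tv_nu P.comm τ).range ≤ C' := by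
  intro hle
  apply P.notMem
  apply mc5_tv_mem_zpowers_of_isPGroup A τ τ' P.mem P.mem' P.pow P.ne P.syl
  apply mc5_tv_isPGroup_closure P.isPGroup τ τ' (mc5_tv_nu P.comm τ).range C' hle
  · intro e; exact ⟨e, rfl⟩
  · exact P.fix_range
  · intro e
    exact P.symm.range_le ⟨e, rfl⟩
  · exact P.fix'

end Mc5TvPair

end Cfsg.Agent.MC5
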