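import Mathlib
import Cfsg.Agent.MC5.TvC

set_option autoImplicit false

/-!
S5316, linear step, part D: coordinates `x, y, d` adapted to an opposite pair of transvections.
-/

namespace Cfsg.Agent.MC5

open Cfsg.Agent.Lead.EssPSq

variable {E : Type*} [Group E] {p : ℕ} [hp : Fact p.Prime]

theorem mc5_tv_pow_val_eq_one {x : E} (hx : x ^ p = 1) (hx1 : x ≠ 1) {i : ZMod p}
    (h : x ^ i.val = 1) : i = 0 := by
  by_contra hi
  apply hx1
  have := mem_of_pow_val_mem hx hi ⊥ (by rw [h]; exact Subgroup.one_mem _)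
  exact Subgroup.mem_bot.1 this

/-- three coordinates -/
noncomputable def mc5_tv_coord3 (hcomm : ∀ a b : E, a * b = b * a) (hexp : ∀ a : E, a ^ p = 1)
    (x y d : E) : Multiplicative (Fin 3 → ZMod p) →* E where
  toFun v := x ^ (Multiplicative.toAdd v 0).val * y ^ (Multiplicative.toAdd v 1).val *
    d ^ (Multiplicative.toAdd v 2).val
  map_one' := by simp
  map_mul' v w := by
    let _ : CommGroup E := { ‹Group E› with mul_comm := hcomm }
    simp only [toAdd_mul, Pi.add_apply]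
    rw [pow_val_add (hexp x), pow_val_add (hexp y), pow_val_add (hexp d)]
    rw [mul_mul_mul_comm (x ^ _) (x ^ _) (y ^ _) (y ^ _), mul_mul_mul_comm]

theorem mc5_tv_coord3_apply (hcomm : ∀ a b : E, a * b = b * a) (hexp : ∀ a : E, a ^ p = 1)
    (x y d : E) (v : Multiplicative (Fin 3 → ZMod p)) :
    mc5_tv_coord3 hcomm hexp x y d v =
      x ^ (Multiplicative.toAdd v 0).val * y ^ (Multiplicative.toAdd v 1).val *
        d ^ (Multiplicative.toAdd v 2).val := rfl

theorem mc5_tv_card_V3 : Nat.card (Multiplicative (Fin 3 → ZMod p)) = p ^ 3 := by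
  rw [Nat.card_congr Multiplicative.toAdd, Nat.card_eq_fintype_card, Fintype.card_fun, ZMod.card,
    Fintype.card_fin]

variable [Finite E]

/-- independent `x, y, d` generate a group of order `p³` -/
theorem mc5_tv_exists_coord3 (hcomm : ∀ a b : E, a * b = b * a) (hexp : ∀ a : E, a ^ p = 1)
    (hcard : Nat.card E = p ^ 3) (x y d : E)
    (hind : ∀ i j k : ZMod p, x ^ i.val * y ^ j.val * d ^ k.val = 1 → i = 0 ∧ j = 0 ∧ k = 0)
    (e : E) : ∃ i j k : ZMod p, e = x ^ i.val * y ^ j.val * d ^ k.val := by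
  have hinj : Function.Injective (mc5_tv_coord3 hcomm hexp x y d) := by
    rw [injective_iff_map_eq_one]
    intro v hv
    rw [mc5_tv_coord3_apply] at hv
    obtain ⟨h0, h1, h2⟩ := hind _ _ _ hv
    have : Multiplicative.toAdd v = 0 := by
      funext k
      fin_cases k
      · exact h0
      · exact h1
      · exact h2
    exact this
  have hbij : Function.Bijective (mc5_tv_coord3 hcomm hexp x y d) :=
    Function.Injective.bijective_of_nat_card_le hinj (by rw [mc5_tv_card_V3, hcard])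
  obtain ⟨v, rfl⟩ := hbij.2 e
  exact ⟨_, _, _, rfl⟩

namespace Mc5TvPair

variable {A : Subgroup (MulAut E)} {τ τ' : MulAut E} {C C' : Subgroup E}

/-- coordinates adapted to the pair -/
theorem exists_coords (P : Mc5TvPair p A τ τ' C C') :
    ∃ x y d : E, x ≠ 1 ∧ τ x = x ∧ τ y = x * y ∧ τ' y = y ∧ τ d = d ∧ τ' d = d ∧
      (∃ c : ZMod p, c ≠ 0 ∧ τ' x = y ^ c.val * x) ∧
      (∀ i j k : ZMod p, x ^ i.val * y ^ j.val * d ^ k.val = 1 → i = 0 ∧ j = 0 ∧ k = 0) := by
  have hcomm := P.comm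
  have hexp := P.exp
  -- `y` in the commutator group of `τ'`, not fixed by `τ`
  obtain ⟨y, hyZ', hyC⟩ := SetLike.not_le_iff_exists.1 P.symm.not_le
  have hy1 : y ≠ 1 := fun h => hyC (h ▸ Subgroup.one_mem _)
  have hτ'y : τ' y = y := P.symm.fix_range y hyZ'
  have hgenZ' : Subgroup.zpowers y = (mc5_tv_nu hcomm τ').range :=
    mc5_tv_zpowers_eq P.symm.card_range hyZ' hy1
  obtain ⟨x, hx⟩ : ∃ x : E, x = mc5_tv_nu hcomm τ y := ⟨_, rfl⟩
  have hxZ : x ∈ (mc5_tv_nu hcomm τ).range := ⟨y, hx.symm⟩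
  have hx1 : x ≠ 1 := by
    intro h1
    apply hyC
    rw [← P.ker_eq, MonoidHom.mem_ker, ← hx, h1]
  have hτx : τ x = x := P.fix_range x hxZ
  have hτy : τ y = x * y := by
    rw [mc5_tv_apply_eq hcomm τ y, ← hx, hcomm]
  have hgenZ : Subgroup.zpowers x = (mc5_tv_nu hcomm τ).range :=
    mc5_tv_zpowers_eq P.card_range hxZ hx1
  have hxC' : x ∉ C' := by
    intro hxC'
    apply P.not_le
    rw [← hgenZ, Subgroup.zpowers_le]
    exact hxC'
  -- `τ' x`
  have hνx : mc5_tv_nu hcomm τ' x ∈ Subgroup.zpowers y := by rw [hgenZ']; exact ⟨x, rfl⟩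
  obtain ⟨c, hc⟩ := (mc5_tv_mem_zpowers_iff (hexp y)).1 hνx
  have hc0 : c ≠ 0 := by
    rintro rfl
    apply hxC'
    rw [← P.symm.ker_eq, MonoidHom.mem_ker, hc, ZMod.val_zero, pow_zero]
  have hτ'x : τ' x = y ^ c.val * x := by
    rw [mc5_tv_apply_eq hcomm τ' x, hc, hcomm]
  -- `d`
  have hZ'C' : (mc5_tv_nu hcomm τ').range ≤ C' := P.symm.range_le
  obtain ⟨u, huC', huZ'⟩ : ∃ u ∈ C', u ∉ (mc5_tv_nu hcomm τ').range := by
    by_contra hcon
    push Not at hcon
    have hle : C' ≤ (mc5_tv_nu hcomm τ').range := fun u hu => hcon u hu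
    have := Subgroup.card_le_of_le hle
    rw [P.cardC', P.symm.card_range] at this
    have h1 := hp.out.one_lt
    nlinarith
  have hνu : mc5_tv_nu hcomm τ u ∈ Subgroup.zpowers x := by rw [hgenZ]; exact ⟨u, rfl⟩
  obtain ⟨i₀, hi₀⟩ := (mc5_tv_mem_zpowers_iff (hexp x)).1 hνu
  obtain ⟨d, hd⟩ : ∃ d : E, d = u * (y ^ i₀.val)⁻¹ := ⟨_, rfl⟩
  have hyC' : y ∈ C' := hZ'C' hyZ'
  have hdC' : d ∈ C' := by
    rw [hd]
    exact C'.mul_mem huC' (C'.inv_mem (C'.pow_mem hyC' _))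
  have hτ'd : τ' d = d := P.fix' d hdC'
  have hτd : τ d = d := by
    rw [← mc5_tv_mem_ker hcomm, MonoidHom.mem_ker, hd, map_mul, map_inv, map_pow, ← hx, hi₀,
      mul_inv_cancel]
  have hd1 : d ≠ 1 := by
    intro h1
    apply huZ'
    rw [← hgenZ']
    have : u = y ^ i₀.val := by
      rw [h1] at hd
      exact (mul_inv_eq_one.1 hd.symm)
    rw [this]
    exact Subgroup.pow_mem _ (Subgroup.mem_zpowers y) _
  refine ⟨x, y, d, hx1, hτx, hτy, hτ'y, hτd, hτ'd, ⟨c, hc0, hτ'x⟩, ?_⟩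
  intro i j k hijk
  have hνx0 : mc5_tv_nu hcomm τ x = 1 := by
    rw [← MonoidHom.mem_ker, mc5_tv_mem_ker]; exact hτx
  have hνd0 : mc5_tv_nu hcomm τ d = 1 := by
    rw [← MonoidHom.mem_ker, mc5_tv_mem_ker]; exact hτd
  have hν'd0 : mc5_tv_nu hcomm τ' d = 1 := by
    rw [← MonoidHom.mem_ker, mc5_tv_mem_ker]; exact hτ'd
  have hj : j = 0 := by
    have h1 := congrArg (mc5_tv_nu hcomm τ) hijk
    rw [map_mul, map_mul, map_pow, map_pow, map_pow, hνx0, hνd0, ← hx, one_pow, one_pow,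
      one_mul, mul_one, map_one] at h1
    exact mc5_tv_pow_val_eq_one (hexp x) hx1 h1
  subst hj
  rw [ZMod.val_zero, pow_zero, mul_one] at hijk
  have hi : i = 0 := by
    have h1 := congrArg (mc5_tv_nu hcomm τ') hijk
    rw [map_mul, map_pow, map_pow, hν'd0, hc, one_pow, mul_one, map_one,
      ← pow_val_mul (hexp y)] at h1
    have := mc5_tv_pow_val_eq_one (hexp y) hy1 h1
    rcases mul_eq_zero.1 this with h | h
    · exact absurd h hc0
    · exact h
  subst hi
  rw [ZMod.val_zero, pow_zero, one_mul] at hijk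
  exact ⟨rfl, rfl, mc5_tv_pow_val_eq_one (hexp d) hd1 hijk⟩

end Mc5TvPair

end Cfsg.Agent.MC5
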