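import Mathlib
import Cfsg.Agent.MC5.TvD

set_option autoImplicit false

/-!
S5316, linear step, part E: restriction to the plane `W = ⟨x, y⟩`, the `SL₂(p)` engine, the torus
element.
-/

namespace Cfsg.Agent.MC5

open Cfsg.Agent.Lead.EssPSq

variable {E : Type*} [Group E] [Finite E] {p : ℕ} [hp : Fact p.Prime]

/-- restriction of an automorphism to an invariant subgroup of a finite group -/
noncomputable def mc5_tv_restr (W : Subgroup E) (a : MulAut E) (h1 : ∀ w ∈ W, a w ∈ W) :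
    MulAut W :=
  MulEquiv.ofBijective
    ({ toFun := fun w => ⟨a w, h1 w w.2⟩
       map_one' := Subtype.ext (map_one a)
       map_mul' := fun u v => Subtype.ext (map_mul a (u : E) (v : E)) } : W →* W)
    (Finite.injective_iff_bijective.1 (by
      intro u v huv
      have := congrArg Subtype.val huv
      exact Subtype.ext (a.injective this)))

theorem mc5_tv_restr_apply (W : Subgroup E) (a : MulAut E) (h1 : ∀ w ∈ W, a w ∈ W) (w : W) :
    ((mc5_tv_restr W a h1 w : W) : E) = a w := rfl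

theorem mc5_tv_restr_pow (W : Subgroup E) (a : MulAut E) (h1 : ∀ w ∈ W, a w ∈ W) (n : ℕ)
    (w : W) : (((mc5_tv_restr W a h1) ^ n) w : E) = (a ^ n) w := by
  induction n generalizing w with
  | zero => rfl
  | succ n ih =>
    rw [pow_succ, pow_succ, MulAut.mul_apply, MulAut.mul_apply, ih, mc5_tv_restr_apply]

omit [Finite E] in
/-- the automorphisms of `W` induced by elements of `A` fixing `d` -/
def mc5_tv_resSub (A : Subgroup (MulAut E)) (W : Subgroup E) (d : E) : Subgroup (MulAut W) where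
  carrier := {γ | ∃ a ∈ A, (∀ w : W, a (w : E) = (γ w : E)) ∧ a d = d}
  one_mem' := ⟨1, A.one_mem, fun _ => rfl, rfl⟩
  mul_mem' := by
    rintro γ δ ⟨a, ha, ha1, ha2⟩ ⟨b, hb, hb1, hb2⟩
    refine ⟨a * b, A.mul_mem ha hb, fun w => ?_, ?_⟩
    · rw [MulAut.mul_apply, hb1, ha1]; rfl
    · rw [MulAut.mul_apply, hb2, ha2]
  inv_mem' := by
    rintro γ ⟨a, ha, ha1, ha2⟩
    refine ⟨a⁻¹, A.inv_mem ha, fun w => ?_, ?_⟩
    · apply a.injective
      rw [MulAut.apply_inv_self, ha1, MulAut.apply_inv_self]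
    · apply a.injective
      rw [MulAut.apply_inv_self, ha2]

/-- the plane spanned by `x` and `y` -/
noncomputable def mc5_tv_plane (hcomm : ∀ a b : E, a * b = b * a) (hexp : ∀ a : E, a ^ p = 1)
    (x y : E) : Subgroup E := (mc5_tv_coord3 hcomm hexp x y 1).range

omit [Finite E] in
theorem mc5_tv_mem_plane (hcomm : ∀ a b : E, a * b = b * a) (hexp : ∀ a : E, a ^ p = 1)
    (x y e : E) :
    e ∈ mc5_tv_plane hcomm hexp x y ↔ ∃ i j : ZMod p, e = x ^ i.val * y ^ j.val := by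
  constructor
  · rintro ⟨v, rfl⟩
    refine ⟨Multiplicative.toAdd v 0, Multiplicative.toAdd v 1, ?_⟩
    rw [mc5_tv_coord3_apply, one_pow, mul_one]
  · rintro ⟨i, j, rfl⟩
    refine ⟨Multiplicative.ofAdd ![i, j, 0], ?_⟩
    rw [mc5_tv_coord3_apply, one_pow, mul_one]
    simp

omit [Finite E] in
theorem mc5_tv_pow_neg_one_val {d : E} (hd : d ^ p = 1) : d * d ^ ((-1 : ZMod p)).val = 1 := by
  have h1 : d ^ ((1 : ZMod p)).val * d ^ ((-1 : ZMod p)).val = 1 := by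
    rw [← pow_val_add hd, add_neg_cancel, ZMod.val_zero, pow_zero]
  rwa [pow_val_one] at h1

namespace Mc5TvPair

variable {A : Subgroup (MulAut E)} {τ τ' : MulAut E} {C C' : Subgroup E}

/-- The pair lemma: coordinates `x, y, d` and, for every `a b = 1` in `ZMod p`, a torus element
`h ∈ A` acting as `a` on `x`, `b` on `y` and trivially on `d`. -/
theorem main (P : Mc5TvPair p A τ τ' C C') :
    ∃ x y d : E, x ≠ 1 ∧ τ x = x ∧ τ y = x * y ∧ τ' y = y ∧ τ d = d ∧ τ' d = d ∧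
      (∃ c : ZMod p, c ≠ 0 ∧ τ' x = y ^ c.val * x) ∧
      (∀ i j k : ZMod p, x ^ i.val * y ^ j.val * d ^ k.val = 1 → i = 0 ∧ j = 0 ∧ k = 0) ∧
      ∀ a b : ZMod p, a * b = 1 → ∃ h ∈ A, h x = x ^ a.val ∧ h y = y ^ b.val ∧ h d = d := by
  obtain ⟨x, y, d, hx1, hτx, hτy, hτ'y, hτd, hτ'd, ⟨c, hc0, hτ'x⟩, hind⟩ := P.exists_coords
  refine ⟨x, y, d, hx1, hτx, hτy, hτ'y, hτd, hτ'd, ⟨c, hc0, hτ'x⟩, hind, ?_⟩
  have hcomm := P.comm
  have hexp := P.exp
  obtain ⟨W, hW⟩ : ∃ W : Subgroup E, W = mc5_tv_plane hcomm hexp x y := ⟨_, rfl⟩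
  have hmemW : ∀ e : E, e ∈ W ↔ ∃ i j : ZMod p, e = x ^ i.val * y ^ j.val := by
    intro e; rw [hW]; exact mc5_tv_mem_plane hcomm hexp x y e
  have hxW : x ∈ W := (hmemW x).2 ⟨1, 0, by rw [pow_val_one, ZMod.val_zero, pow_zero, mul_one]⟩
  have hyW : y ∈ W := (hmemW y).2 ⟨0, 1, by rw [pow_val_one, ZMod.val_zero, pow_zero, one_mul]⟩
  have hτW : ∀ w ∈ W, τ w ∈ W := by
    intro w hw
    obtain ⟨i, j, rfl⟩ := (hmemW w).1 hw
    rw [map_mul, map_pow, map_pow, hτx, hτy]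
    exact W.mul_mem (W.pow_mem hxW _) (W.pow_mem (W.mul_mem hxW hyW) _)
  have hτ'W : ∀ w ∈ W, τ' w ∈ W := by
    intro w hw
    obtain ⟨i, j, rfl⟩ := (hmemW w).1 hw
    rw [map_mul, map_pow, map_pow, hτ'x, hτ'y]
    exact W.mul_mem (W.pow_mem (W.mul_mem (W.pow_mem hyW _) hxW) _) (W.pow_mem hyW _)
  have hyx : y ∉ Subgroup.zpowers x := by
    intro hy
    obtain ⟨i, hi⟩ := (mc5_tv_mem_zpowers_iff (hexp x)).1 hy
    have h1 : x ^ i.val * y ^ ((-1 : ZMod p)).val * d ^ ((0 : ZMod p)).val = 1 := by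
      rw [ZMod.val_zero, pow_zero, mul_one, ← hi]
      exact mc5_tv_pow_neg_one_val (hexp y)
    have := (hind _ _ _ h1).2.1
    exact one_ne_zero (neg_eq_zero.1 this)
  have hdW : d ∉ W := by
    intro hd
    obtain ⟨i, j, hij⟩ := (hmemW d).1 hd
    have h1 : x ^ i.val * y ^ j.val * d ^ ((-1 : ZMod p)).val = 1 := by
      rw [← hij]
      exact mc5_tv_pow_neg_one_val (hexp d)
    have := (hind _ _ _ h1).2.2
    exact one_ne_zero (neg_eq_zero.1 this)
  have hcardW : Nat.card W = p ^ 2 := by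
    have hdvd : Nat.card W ∣ p ^ 3 := P.card ▸ Subgroup.card_subgroup_dvd_card W
    obtain ⟨k, hk3, hk⟩ := (Nat.dvd_prime_pow hp.out).1 hdvd
    have hzx : Subgroup.zpowers x ≤ W := by rw [Subgroup.zpowers_le]; exact hxW
    have hzc : Nat.card (Subgroup.zpowers x) = p := by
      rw [Nat.card_zpowers]; exact orderOf_eq_prime (hexp x) hx1
    have hk0 : k ≠ 0 := by
      rintro rfl
      rw [pow_zero] at hk
      have := Subgroup.card_eq_one.1 hk
      rw [this, Subgroup.mem_bot] at hxW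
      exact hx1 hxW
    have hk1 : k ≠ 1 := by
      rintro rfl
      rw [pow_one] at hk
      have := Subgroup.eq_of_le_of_card_ge hzx (by rw [hzc, hk])
      apply hyx
      rw [this]; exact hyW
    have hk3' : k ≠ 3 := by
      rintro rfl
      apply hdW
      rw [Subgroup.eq_top_of_card_eq W (by rw [hk, P.card])]
      exact Subgroup.mem_top d
    have : k = 2 := by omega
    rw [hk, this]
  have hEA : EA p W := ⟨fun a b => Subtype.ext (hcomm _ _),
    fun a => Subtype.ext (by rw [Subgroup.coe_pow, hexp, Subgroup.coe_one]), hcardW⟩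
  obtain ⟨xW, hxWd⟩ : ∃ xW : W, xW = ⟨x, hxW⟩ := ⟨_, rfl⟩
  obtain ⟨yW, hyWd⟩ : ∃ yW : W, yW = ⟨y, hyW⟩ := ⟨_, rfl⟩
  have hxWv : (xW : E) = x := by rw [hxWd]
  have hyWv : (yW : E) = y := by rw [hyWd]
  have hxW1 : xW ≠ 1 := by
    intro h
    apply hx1
    rw [← hxWv, h, Subgroup.coe_one]
  have hyWx : yW ∉ Subgroup.zpowers xW := by
    intro hy
    apply hyx
    obtain ⟨k, hk⟩ := Subgroup.mem_zpowers_iff.1 hy
    rw [Subgroup.mem_zpowers_iff]
    refine ⟨k, ?_⟩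
    rw [← hxWv, ← hyWv, ← hk, Subgroup.coe_zpow]
  have hα : mc5_tv_restr W τ hτW ∈ mc5_tv_resSub A W d := ⟨τ, P.mem, fun _ => rfl, hτd⟩
  have hβ : mc5_tv_restr W τ' hτ'W ∈ mc5_tv_resSub A W d := ⟨τ', P.mem', fun _ => rfl, hτ'd⟩
  have hαp : (mc5_tv_restr W τ hτW) ^ p = 1 := by
    ext w
    rw [mc5_tv_restr_pow, P.pow]; rfl
  have hβp : (mc5_tv_restr W τ' hτ'W) ^ p = 1 := by
    ext w
    rw [mc5_tv_restr_pow, P.pow']; rfl
  have hα1 : mc5_tv_restr W τ hτW ≠ 1 := by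
    intro h
    have h1 := congrArg (fun γ : MulAut W => ((γ yW : W) : E)) h
    simp only [mc5_tv_restr_apply, MulAut.one_apply] at h1
    rw [hyWv, hτy] at h1
    exact hx1 (mul_eq_right.1 h1)
  have hβ1 : mc5_tv_restr W τ' hτ'W ≠ 1 := by
    intro h
    have h1 := congrArg (fun γ : MulAut W => ((γ xW : W) : E)) h
    simp only [mc5_tv_restr_apply, MulAut.one_apply] at h1
    rw [hxWv, hτ'x] at h1
    have h2 : y ^ c.val = 1 := mul_eq_right.1 h1
    have hy1 : y ≠ 1 := fun h => hyx (h ▸ Subgroup.one_mem _)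
    exact hc0 (mc5_tv_pow_val_eq_one (hexp y) hy1 h2)
  have hαx : mc5_tv_restr W τ hτW xW = xW := by
    apply Subtype.ext
    rw [mc5_tv_restr_apply, hxWv, hτx]
  have hβy : mc5_tv_restr W τ' hτ'W yW = yW := by
    apply Subtype.ext
    rw [mc5_tv_restr_apply, hyWv, hτ'y]
  have hrange := mc5_tv_sl2_range hEA (mc5_tv_resSub A W d) _ _ hα hβ hαp hβp hα1 hβ1 hxW1 hyWx
    hαx hβy
  intro a b hab
  obtain ⟨h, hhA, hhW, hhd⟩ := hrange ⟨mc5_tv_torus a b hab, rfl⟩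
  obtain ⟨t1, t2⟩ := mc5_tv_torus_apply hEA hxW1 hyWx a b hab
  refine ⟨h, hhA, ?_, ?_, hhd⟩
  · rw [← hxWv, hhW, t1, Subgroup.coe_pow]
  · rw [← hyWv, hhW, t2, Subgroup.coe_pow]

end Mc5TvPair

end Cfsg.Agent.MC5
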