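import Mathlib
import Cfsg.Agent.MC5.TvE
import Cfsg.Agent.Helper1.Cores

set_option autoImplicit false

/-!
S5316, linear step, part F: the torus element normalizes `⟨τ⟩`; the statement for a single
transvection `τ` whose subgroup is not normal in `A`.
-/

namespace Cfsg.Agent.MC5

open Cfsg.Agent.Lead.EssPSq

variable {E : Type*} [Group E] {p : ℕ} [hp : Fact p.Prime]

omit hp in
/-- automorphisms agreeing on generators agree -/
theorem mc5_tv_agree3 {x y d : E}
    (hgen : ∀ e : E, ∃ i j k : ZMod p, e = x ^ i.val * y ^ j.val * d ^ k.val)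
    (γ δ : MulAut E) (h1 : γ x = δ x) (h2 : γ y = δ y) (h3 : γ d = δ d) : γ = δ := by
  ext e
  obtain ⟨i, j, k, rfl⟩ := hgen e
  rw [map_mul, map_mul, map_pow, map_pow, map_pow, map_mul, map_mul, map_pow, map_pow, map_pow,
    h1, h2, h3]

omit hp in
/-- powers of a transvection in coordinates -/
theorem mc5_tv_pow_formula {x y : E} (τ : MulAut E)
    (hτx : τ x = x) (hτy : τ y = x * y) (n : ℕ) : (τ ^ n) x = x ∧ (τ ^ n) y = x ^ n * y := by
  induction n with
  | zero => exact ⟨rfl, by rw [pow_zero, pow_zero, one_mul]; rfl⟩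
  | succ n ih =>
    obtain ⟨ih1, ih2⟩ := ih
    constructor
    · rw [pow_succ', MulAut.mul_apply, ih1, hτx]
    · rw [pow_succ', MulAut.mul_apply, ih2, map_mul, map_pow, hτx, hτy, ← mul_assoc, ← pow_succ]

/-- the torus element conjugates `τ` to `τ ^ a²` -/
theorem mc5_tv_conj (hcomm : ∀ a b : E, a * b = b * a) (hexp : ∀ a : E, a ^ p = 1) {x y d : E}
    (hgen : ∀ e : E, ∃ i j k : ZMod p, e = x ^ i.val * y ^ j.val * d ^ k.val)
    (τ h : MulAut E) (hτx : τ x = x) (hτy : τ y = x * y) (hτd : τ d = d)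
    {a b : ZMod p} (hab : a * b = 1) (hx : h x = x ^ a.val) (hy : h y = y ^ b.val) (hd : h d = d) :
    h * τ * h⁻¹ = τ ^ (a * a).val := by
  have key : h * τ = τ ^ (a * a).val * h := by
    obtain ⟨f1, f2⟩ := mc5_tv_pow_formula τ hτx hτy (a * a).val
    have f3 : (τ ^ (a * a).val) d = d := by
      have : ∀ n : ℕ, (τ ^ n) d = d := by
        intro n
        induction n with
        | zero => rfl
        | succ n ih => rw [pow_succ', MulAut.mul_apply, ih, hτd]
      exact this _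
    apply mc5_tv_agree3 hgen
    · rw [MulAut.mul_apply, MulAut.mul_apply, hτx, hx, map_pow, f1]
    · rw [MulAut.mul_apply, MulAut.mul_apply, hτy, map_mul, hx, hy, map_pow, f2,
        (show Commute (x ^ (a * a).val) y from hcomm _ _).mul_pow, ← pow_val_mul (hexp x),
        mul_assoc, hab, mul_one]
    · rw [MulAut.mul_apply, MulAut.mul_apply, hτd, hd, f3]
  rw [key, mul_assoc, mul_inv_cancel, mul_one]

variable [Finite E]

/-- **Linear step (b) of S5316.**  `E` elementary abelian of order `p³`, `A ≤ Aut(E)` whose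
`p`-subgroups have order at most `p`, `τ ∈ A` of order `p` fixing a subgroup `C` of order `p²`
pointwise (a transvection), `⟨τ⟩` not normal in `A`.  Then there are coordinates `x, y, d` with
`C = ⟨x, d⟩`, `[E, τ] = ⟨x⟩`, `τ y = x y`, and for all `a b = 1` in `ZMod p` a torus element
`h ∈ A` with weights `a, b, 1` on `x, y, d`, and `h τ h⁻¹ = τ ^ a²`. -/
theorem mc5_tv_main (hcomm : ∀ a b : E, a * b = b * a) (hexp : ∀ a : E, a ^ p = 1)
    (hcard : Nat.card E = p ^ 3) (A : Subgroup (MulAut E)) (τ : MulAut E) (hτA : τ ∈ A)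
    (hτp : τ ^ p = 1) (hτ1 : τ ≠ 1) (C : Subgroup E) (hC : Nat.card C = p ^ 2)
    (hfix : ∀ c ∈ C, τ c = c)
    (hsyl : ∀ Q : Subgroup (MulAut E), Q ≤ A → IsPGroup p Q → Nat.card Q ≤ p)
    (hnn : ∃ g ∈ A, g * τ * g⁻¹ ∉ Subgroup.zpowers τ) :
    ∃ x y d : E, x ≠ 1 ∧ x ∈ C ∧ d ∈ C ∧ y ∉ C ∧ τ x = x ∧ τ y = x * y ∧ τ d = d ∧
      (∀ i j k : ZMod p, x ^ i.val * y ^ j.val * d ^ k.val = 1 → i = 0 ∧ j = 0 ∧ k = 0) ∧
      (∀ e : E, ∃ i j k : ZMod p, e = x ^ i.val * y ^ j.val * d ^ k.val) ∧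
      ∀ a b : ZMod p, a * b = 1 → ∃ h ∈ A, h x = x ^ a.val ∧ h y = y ^ b.val ∧ h d = d ∧
        h * τ * h⁻¹ = τ ^ (a * a).val := by
  obtain ⟨g, hgA, hg⟩ := hnn
  have P : Mc5TvPair p A τ (g * τ * g⁻¹) C (C.map g.toMonoidHom) :=
    { comm := hcomm
      exp := hexp
      card := hcard
      mem := hτA
      mem' := A.mul_mem (A.mul_mem hgA hτA) (A.inv_mem hgA)
      pow := hτp
      pow' := by rw [conj_pow, hτp, mul_one, mul_inv_cancel]
      ne := hτ1
      notMem := hg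
      cardC := hC
      cardC' := by
        rw [Subgroup.card_map_of_injective (MulEquiv.injective g), hC]
      fix := hfix
      fix' := by
        rintro _ ⟨c, hc, rfl⟩
        show (g * τ * g⁻¹) (g c) = g c
        rw [MulAut.mul_apply, MulAut.mul_apply, MulAut.inv_apply_self, hfix c hc]
      syl := hsyl }
  obtain ⟨x, y, d, hx1, hτx, hτy, -, hτd, -, -, hind, htor⟩ := P.main
  have hgen := mc5_tv_exists_coord3 hcomm hexp hcard x y d hind
  have hmemC : ∀ e : E, e ∈ C ↔ τ e = e := by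
    intro e
    rw [← P.ker_eq, mc5_tv_mem_ker]
  refine ⟨x, y, d, hx1, (hmemC x).2 hτx, (hmemC d).2 hτd, ?_, hτx, hτy, hτd, hind, hgen, ?_⟩
  · intro hy
    rw [hmemC, hτy] at hy
    exact hx1 (mul_eq_right.1 hy)
  · intro a b hab
    obtain ⟨h, hhA, hhx, hhy, hhd⟩ := htor a b hab
    exact ⟨h, hhA, hhx, hhy, hhd, mc5_tv_conj hcomm hexp hgen τ h hτx hτy hτd hab hhx hhy hhd⟩

omit [Finite E] in
/-- if `p²` does not divide `|A|`, the `p`-subgroups of `A` have order at most `p` -/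
theorem mc5_tv_syl_of_not_dvd (A : Subgroup (MulAut E)) [Finite A]
    (h : ¬ p ^ 2 ∣ Nat.card A) :
    ∀ Q : Subgroup (MulAut E), Q ≤ A → IsPGroup p Q → Nat.card Q ≤ p := by
  intro Q hQA hQ
  have : Finite Q := Finite.of_injective (Subgroup.inclusion hQA) (Subgroup.inclusion_injective hQA)
  obtain ⟨k, hk⟩ := IsPGroup.iff_card.1 hQ
  have hdvd : Nat.card Q ∣ Nat.card A := Subgroup.card_dvd_of_le hQA
  rw [hk]
  rw [hk] at hdvd
  have hk1 : k ≤ 1 := by
    by_contra hk2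
    apply h
    exact (pow_dvd_pow p (by omega : 2 ≤ k)).trans hdvd
  calc p ^ k ≤ p ^ 1 := Nat.pow_le_pow_right hp.out.pos hk1
    _ = p := pow_one p

omit hp [Finite E] in
/-- if `O_p(A) = 1`, a subgroup of order `p` of `A` is not normal -/
theorem mc5_tv_conj_not_mem_of_pCore (A : Subgroup (MulAut E)) (hcore : Cfsg.pCore p A = ⊥)
    (τ : MulAut E) (hτA : τ ∈ A) (hτp : τ ^ p = 1) (hτ1 : τ ≠ 1) :
    ∃ g ∈ A, g * τ * g⁻¹ ∉ Subgroup.zpowers τ := by
  by_contra hcon
  push Not at hcon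
  obtain ⟨α₀, hα₀⟩ : ∃ α₀ : A, α₀ = ⟨τ, hτA⟩ := ⟨_, rfl⟩
  have hα₀v : (α₀ : MulAut E) = τ := by rw [hα₀]
  have hn : (Subgroup.zpowers α₀).Normal := by
    constructor
    intro n hn g
    obtain ⟨k, rfl⟩ := Subgroup.mem_zpowers_iff.1 hn
    obtain ⟨m, hm⟩ := Subgroup.mem_zpowers_iff.1 (hcon g g.2)
    rw [Subgroup.mem_zpowers_iff]
    refine ⟨m * k, Subtype.ext ?_⟩
    rw [← conj_zpow]
    simp only [Subgroup.coe_zpow, Subgroup.coe_mul, Subgroup.coe_inv, hα₀v]
    rw [zpow_mul, hm]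
  have hpg : IsPGroup p (Subgroup.zpowers α₀) := by
    rintro ⟨γ, hγ⟩
    obtain ⟨k, rfl⟩ := Subgroup.mem_zpowers_iff.1 hγ
    refine ⟨1, Subtype.ext (Subtype.ext ?_)⟩
    simp only [pow_one, Subgroup.coe_pow, Subgroup.coe_zpow, Subgroup.coe_one, hα₀v]
    rw [← zpow_natCast, ← zpow_mul, mul_comm, zpow_mul, zpow_natCast, hτp, one_zpow]
  have hle := Cfsg.Agent.Helper1.le_pCore hn hpg
  rw [hcore] at hle
  have := Subgroup.mem_bot.1 (hle (Subgroup.mem_zpowers α₀))
  apply hτ1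
  rw [← hα₀v, this, Subgroup.coe_one]

omit [Finite E] in
/-- the torus element has order dividing `p - 1` -/
theorem mc5_tv_torus_pow (hexp : ∀ a : E, a ^ p = 1) {x y d : E}
    (hgen : ∀ e : E, ∃ i j k : ZMod p, e = x ^ i.val * y ^ j.val * d ^ k.val)
    (h : MulAut E) {a b : ZMod p} (hab : a * b = 1) (hx : h x = x ^ a.val)
    (hy : h y = y ^ b.val) (hd : h d = d) : h ^ (p - 1) = 1 := by
  have ha0 : a ≠ 0 := fun h0 => by rw [h0, zero_mul] at hab; exact zero_ne_one hab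
  have hb0 : b ≠ 0 := fun h0 => by rw [h0, mul_zero] at hab; exact zero_ne_one hab
  have kx : ∀ n : ℕ, (h ^ n) x = x ^ (a ^ n).val := by
    intro n
    induction n with
    | zero => rw [pow_zero, pow_zero, pow_val_one]; rfl
    | succ n ih =>
      rw [pow_succ', MulAut.mul_apply, ih, map_pow, hx, ← pow_val_mul (hexp x), ← pow_succ']
  have ky : ∀ n : ℕ, (h ^ n) y = y ^ (b ^ n).val := by
    intro n
    induction n with
    | zero => rw [pow_zero, pow_zero, pow_val_one]; rfl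
    | succ n ih =>
      rw [pow_succ', MulAut.mul_apply, ih, map_pow, hy, ← pow_val_mul (hexp y), ← pow_succ']
  have kd : ∀ n : ℕ, (h ^ n) d = d := by
    intro n
    induction n with
    | zero => rfl
    | succ n ih => rw [pow_succ', MulAut.mul_apply, ih, hd]
  apply mc5_tv_agree3 hgen
  · rw [kx, ZMod.pow_card_sub_one_eq_one ha0, pow_val_one]; rfl
  · rw [ky, ZMod.pow_card_sub_one_eq_one hb0, pow_val_one]; rfl
  · rw [kd]; rfl

omit hp [Finite E] in
/-- the torus element acts as `b` modulo `C = ⟨x, d⟩` -/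
theorem mc5_tv_torus_mod (hcomm : ∀ a b : E, a * b = b * a)
    {x y d : E} (hgen : ∀ e : E, ∃ i j k : ZMod p, e = x ^ i.val * y ^ j.val * d ^ k.val)
    (C : Subgroup E) (hxC : x ∈ C) (hdC : d ∈ C)
    (h : MulAut E) {a b : ZMod p} (hx : h x = x ^ a.val)
    (hy : h y = y ^ b.val) (hd : h d = d) (e : E) : ∃ c ∈ C, h e = e ^ b.val * c := by
  let _ : CommGroup E := { ‹Group E› with mul_comm := hcomm }
  obtain ⟨i, j, k, rfl⟩ := hgen e
  refine ⟨(x ^ i.val) ^ a.val * ((x ^ i.val) ^ b.val)⁻¹ * (d ^ k.val * ((d ^ k.val) ^ b.val)⁻¹),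
    C.mul_mem (C.mul_mem (C.pow_mem (C.pow_mem hxC _) _) (C.inv_mem (C.pow_mem (C.pow_mem hxC _) _)))
      (C.mul_mem (C.pow_mem hdC _) (C.inv_mem (C.pow_mem (C.pow_mem hdC _) _))), ?_⟩
  rw [map_mul, map_mul, map_pow, map_pow, map_pow, hx, hy, hd, mul_pow, mul_pow,
    ← pow_mul, ← pow_mul, ← pow_mul, ← pow_mul, ← pow_mul, ← pow_mul, mul_comm a.val i.val,
    mul_comm b.val j.val]
  have hXX : ∀ u v w : E, u * w * v * (u⁻¹ * (v * v⁻¹)) = w * v := by
    intro u v w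
    rw [mul_inv_cancel, mul_one, mul_comm u w, mul_assoc w u v, mul_comm u v, ← mul_assoc,
      mul_assoc, mul_inv_cancel, mul_one]
  calc x ^ (i.val * a.val) * y ^ (j.val * b.val) * d ^ k.val
      = x ^ (i.val * b.val) * y ^ (j.val * b.val) * d ^ (k.val * b.val) *
          (x ^ (i.val * a.val) * (x ^ (i.val * b.val))⁻¹ *
            (d ^ k.val * (d ^ (k.val * b.val))⁻¹)) := by
        have e1 : x ^ (i.val * b.val) * (x ^ (i.val * b.val))⁻¹ = 1 := mul_inv_cancel _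
        have e2 : d ^ (k.val * b.val) * (d ^ (k.val * b.val))⁻¹ = 1 := mul_inv_cancel _
        calc x ^ (i.val * a.val) * y ^ (j.val * b.val) * d ^ k.val
            = (x ^ (i.val * b.val) * (x ^ (i.val * b.val))⁻¹) * x ^ (i.val * a.val) *
                y ^ (j.val * b.val) * ((d ^ (k.val * b.val) * (d ^ (k.val * b.val))⁻¹) *
                  d ^ k.val) := by rw [e1, e2, one_mul, one_mul]
          _ = _ := by ac_rfl

end Cfsg.Agent.MC5
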