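import Mathlib
import Cfsg.Agent.MC5.TvF

set_option autoImplicit false
set_option linter.unusedVariables false
set_option linter.style.haveILetI false

/-!
# S5316 project, glue part C: the torus element in the form used by the glue
-/

namespace Cfsg.Agent.MC5

variable {V : Type*} [Group V] [Finite V] {p : ℕ} [hp : Fact p.Prime]

omit [Finite V] in
theorem mc5_glue_pow_val {x : V} (hx : x ^ p = 1) (k : ℕ) : x ^ ((k : ZMod p)).val = x ^ k := by
  rw [ZMod.val_natCast]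
  conv_rhs => rw [← Nat.mod_add_div k p]
  rw [pow_add, pow_mul, hx, one_pow, mul_one]

/-- a primitive root modulo `p` -/
theorem mc5_glue_exists_primitive_root (p : ℕ) [hp : Fact p.Prime] :
    ∃ a b : ZMod p, a * b = 1 ∧ orderOf a = p - 1 := by
  obtain ⟨g, hg⟩ := IsCyclic.exists_generator (α := (ZMod p)ˣ)
  refine ⟨(g : ZMod p), ((g⁻¹ : (ZMod p)ˣ) : ZMod p), Units.mul_inv g, ?_⟩
  rw [orderOf_units, orderOf_eq_card_of_forall_mem_zpowers hg, Nat.card_eq_fintype_card,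
    ZMod.card_units_eq_totient, Nat.totient_prime hp.out]

theorem mc5_glue_tv (hcomm : ∀ a b : V, a * b = b * a) (hexp : ∀ a : V, a ^ p = 1)
    (hcard : Nat.card V = p ^ 3) (A : Subgroup (MulAut V)) (τ : MulAut V) (hτA : τ ∈ A)
    (hτp : τ ^ p = 1) (hτ1 : τ ≠ 1) (C : Subgroup V) (hC : Nat.card C = p ^ 2)
    (hfix : ∀ c ∈ C, τ c = c)
    (hsyl : ∀ Q : Subgroup (MulAut V), Q ≤ A → IsPGroup p Q → Nat.card Q ≤ p)
    (hnn : ∃ g ∈ A, g * τ * g⁻¹ ∉ Subgroup.zpowers τ) :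
    ∃ (h : MulAut V) (l l' : ℕ) (x d : V), h ∈ A ∧ orderOf (l : ZMod p) = p - 1 ∧
      (l : ZMod p) * (l' : ZMod p) = 1 ∧ x ≠ 1 ∧ x ∈ C ∧ (∀ e : V, ∃ m : ℕ, τ e * e⁻¹ = x ^ m) ∧
      h x = x ^ l ∧ (∀ e : V, h e * (e ^ l')⁻¹ ∈ C) ∧ d ∈ C ∧ (∀ m : ℕ, d ≠ x ^ m) ∧ h d = d ∧
      h * τ * h⁻¹ = τ ^ (l ^ 2) := by
  obtain ⟨x, y, d, hx1, hxC, hdC, hyC, hτx, hτy, hτd, hind, hspan, htor⟩ :=
    mc5_tv_main hcomm hexp hcard A τ hτA hτp hτ1 C hC hfix hsyl hnn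
  obtain ⟨a, b, hab, horda⟩ := mc5_glue_exists_primitive_root p
  obtain ⟨h, hhA, hhx, hhy, hhd, hhτ⟩ := htor a b hab
  letI : CommGroup V := { (inferInstance : Group V) with mul_comm := hcomm }
  refine ⟨h, a.val, b.val, x, d, hhA, ?_, ?_, hx1, hxC, ?_, hhx, ?_, hdC, ?_, hhd, ?_⟩
  · rw [ZMod.natCast_zmod_val]; exact horda
  · rw [ZMod.natCast_zmod_val, ZMod.natCast_zmod_val]; exact hab
  · intro e
    obtain ⟨i, j, k, rfl⟩ := hspan e
    refine ⟨j.val, ?_⟩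
    rw [map_mul, map_mul, map_pow, map_pow, map_pow, hτx, hτy, hτd, mul_pow]
    rw [mul_inv_eq_iff_eq_mul]
    simp only [mul_left_comm, mul_assoc]
  · intro e
    obtain ⟨i, j, k, rfl⟩ := hspan e
    rw [map_mul, map_mul, map_pow, map_pow, map_pow, hhx, hhy, hhd, mul_pow, mul_pow]
    have h1 : (x ^ a.val) ^ i.val * (y ^ b.val) ^ j.val * d ^ k.val *
        ((x ^ i.val) ^ b.val * (y ^ j.val) ^ b.val * (d ^ k.val) ^ b.val)⁻¹ =
        ((x ^ a.val) ^ i.val * ((x ^ i.val) ^ b.val)⁻¹) * (d ^ k.val * ((d ^ k.val) ^ b.val)⁻¹) := by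
      have h2 : (y ^ b.val) ^ j.val = (y ^ j.val) ^ b.val := by
        rw [← pow_mul, ← pow_mul, mul_comm]
      rw [h2, mul_inv, mul_inv]
      simp only [mul_comm, mul_left_comm, mul_assoc]
      rw [mul_inv_cancel_left]
    rw [h1]
    exact C.mul_mem (C.mul_mem (C.pow_mem (C.pow_mem hxC _) _) (C.inv_mem (C.pow_mem (C.pow_mem hxC _) _)))
      (C.mul_mem (C.pow_mem hdC _) (C.inv_mem (C.pow_mem (C.pow_mem hdC _) _)))
  · intro m hm
    have h1 := hind (m : ZMod p) 0 (-1) (by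
      rw [ZMod.val_zero, pow_zero, mul_one, mc5_glue_pow_val (hexp x), ← hm]
      have h3 : (-1 : ZMod p) = ((p - 1 : ℕ) : ZMod p) := by
        rw [Nat.cast_sub hp.out.one_le, Nat.cast_one, ZMod.natCast_self, zero_sub]
      rw [h3, mc5_glue_pow_val (hexp d), ← pow_succ']
      have h6 : p - 1 + 1 = p := Nat.sub_add_cancel hp.out.one_le
      rw [h6, hexp])
    have h4 : (-1 : ZMod p) = 0 := h1.2.2
    have h5 : (1 : ZMod p) = 0 := by
      have := congrArg (fun z => -z) h4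
      simp at this
    exact one_ne_zero h5
  · rw [hhτ]
    have h1 : (a * a).val % p = (a.val ^ 2) % p := by
      rw [ZMod.val_mul, pow_two, Nat.mod_mod]
    have h2 : ∀ k : ℕ, τ ^ k = τ ^ (k % p) := by
      intro k
      conv_lhs => rw [← Nat.mod_add_div k p]
      rw [pow_add, pow_mul, hτp, one_pow, mul_one]
    rw [h2 (a * a).val, h2 (a.val ^ 2), h1]

end Cfsg.Agent.MC5
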