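import Mathlib
import Cfsg.Prelude.Def_FusionSystem
import Cfsg.Agent.MC5.GlueA
import Cfsg.Agent.MC5.GlueB
import Cfsg.Agent.MC5.GlueC
import Cfsg.Agent.Lead.FusionSat3
import Cfsg.Agent.Lead.ConjAutDef

set_option autoImplicit false
set_option linter.unusedVariables false
set_option linter.style.haveILetI false

/-!
# S5316 project, glue part D: the torus element of an essential `C_p³` and its extension to `N_S(E)`
-/

namespace Cfsg.Agent.MC5

open scoped commutatorElement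
open Cfsg Cfsg.FusionSystem Cfsg.Agent.Lead Cfsg.Agent.Helper4.MC

variable {Ω : Type*} [Group Ω] {S : Subgroup Ω}

/-- every `p`-subgroup of `Aut_F(E)` has order at most `p` -/
theorem mc5_glue_hsyl [Finite S] (p : ℕ) [hp : Fact p.Prime] (hS : IsPGroup p S)
    (F : FusionSystem S) (hF : F.IsSaturated p) (E : Subgroup Ω) (hE : F.IsEssential p E)
    (hEA : Cfsg.IsElementaryAbelian p E) (hEc : Nat.card E = p ^ 3) :
    ∀ Q : Subgroup (MulAut ↥E), Q ≤ F.autGroup E → IsPGroup p Q → Nat.card Q ≤ p := by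
  intro Q hQA hQp
  have hES : E ≤ S := hE.1.1
  haveI : Finite E := Fusion.finite_of_le hES
  have hcomm : ∀ a b : ↥E, a * b = b * a := fun a b => hEA.1.is_comm.comm a b
  have hexp : ∀ v : ↥E, v ^ p = 1 := by
    intro v
    apply Subtype.ext
    have := hEA.2 v.1 v.2
    simpa using this
  obtain ⟨-, -, hn, Y, hY⟩ := hE
  haveI := hn
  have hInn : Cfsg.Inn ↥E = ⊥ := by
    rw [eq_bot_iff]
    rintro _ ⟨a, rfl⟩
    rw [Subgroup.mem_bot]
    ext x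
    simp only [MulAut.conj_apply, MulAut.one_apply]
    rw [hcomm a x, mul_assoc, mul_inv_cancel, mul_one]
  have hN : (Cfsg.Inn ↥E).subgroupOf (F.autGroup E) = ⊥ := by
    rw [hInn, Subgroup.bot_subgroupOf]
  let e : (↥(F.autGroup E) ⧸ (Cfsg.Inn ↥E).subgroupOf (F.autGroup E)) ≃* ↥(F.autGroup E) :=
    (QuotientGroup.quotientMulEquivOfEq hN).trans QuotientGroup.quotientBot
  haveI : Finite (↥(F.autGroup E) ⧸ (Cfsg.Inn ↥E).subgroupOf (F.autGroup E)) :=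
    Finite.of_injective e e.injective
  let ρ : (↥(F.autGroup E) ⧸ (Cfsg.Inn ↥E).subgroupOf (F.autGroup E)) →* MulAut ↥E :=
    (F.autGroup E).subtype.comp e.toMonoidHom
  have hρ : Function.Injective ρ := by
    intro a b hab
    apply e.injective
    exact Subtype.ext hab
  set Q₁ := (Q.subgroupOf (F.autGroup E)).map e.symm.toMonoidHom with hQ₁
  have hQ₁p : IsPGroup p Q₁ := (hQp.comap_subtype).map _
  have hle := Cfsg.Agent.Helper9.G3.card_le_of_isPGroup_of_stronglyPEmbedded' hcomm hEc hexp ρ hρ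
    Y hY Q₁ hQ₁p
  have hQc : Nat.card Q₁ = Nat.card Q := by
    rw [hQ₁, Subgroup.card_map_of_injective e.symm.injective,
      Nat.card_congr (Subgroup.subgroupOfEquivOfLe hQA).toEquiv]
  rw [hQc] at hle
  exact hle

/-- a subgroup of prime order is generated by any of its nontrivial elements -/
theorem mc5_glue_zpowers_eq {X : Type*} [Group X] {p : ℕ} [hp : Fact p.Prime] (T : Subgroup X)
    (hT : Nat.card T = p) {t : X} (ht : t ∈ T) (ht1 : t ≠ 1) : Subgroup.zpowers t = T := by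
  haveI : Finite T := Nat.finite_of_card_ne_zero (by rw [hT]; exact hp.out.ne_zero)
  have hle : Subgroup.zpowers t ≤ T := (Subgroup.zpowers_le).2 ht
  apply Subgroup.eq_of_le_of_card_ge hle
  rw [hT, Nat.card_zpowers]
  have hdvd : orderOf t ∣ p := by
    have h1 : orderOf (⟨t, ht⟩ : T) ∣ Nat.card T := orderOf_dvd_natCard _
    rw [hT] at h1
    have h2 : orderOf (⟨t, ht⟩ : T) = orderOf t := by
      rw [← Subgroup.orderOf_coe]
    rwa [h2] at h1
  rcases (Nat.dvd_prime hp.out).1 hdvd with h | h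
  · exact absurd (orderOf_eq_one_iff.1 h) ht1
  · rw [h]

theorem mc5_glue_exists_nat_pow {X : Type*} [Group X] {τ u : X} {p : ℕ} (hτp : τ ^ p = 1)
    (hp : 0 < p) (hu : u ∈ Subgroup.zpowers τ) : ∃ i : ℕ, u = τ ^ i := by
  obtain ⟨k, rfl⟩ := Subgroup.mem_zpowers_iff.1 hu
  refine ⟨(k % (p : ℤ)).toNat, ?_⟩
  have h1 : (0 : ℤ) ≤ k % (p : ℤ) := Int.emod_nonneg _ (by exact_mod_cast hp.ne')
  rw [← zpow_natCast, Int.toNat_of_nonneg h1]
  conv_lhs => rw [← Int.emod_add_mul_ediv k (p : ℤ)]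
  rw [zpow_add, zpow_mul, zpow_natCast, hτp, one_zpow, mul_one]

/-- powers of an automorphism move elements by powers of `x` if the automorphism does -/
theorem mc5_glue_pow_move {V : Type*} [Group V] (hcomm : ∀ a b : V, a * b = b * a)
    (τ : MulAut V) (x : V) (hmove : ∀ e : V, ∃ m : ℕ, τ e * e⁻¹ = x ^ m) (i : ℕ) :
    ∀ e : V, ∃ m : ℕ, (τ ^ i) e * e⁻¹ = x ^ m := by
  induction i with
  | zero => intro e; exact ⟨0, by simp⟩
  | succ i ih =>
    intro e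
    obtain ⟨m₁, hm₁⟩ := ih e
    obtain ⟨m₂, hm₂⟩ := hmove ((τ ^ i) e)
    refine ⟨m₂ + m₁, ?_⟩
    rw [pow_succ', MulAut.mul_apply, pow_add, ← hm₁, ← hm₂]
    group

theorem mc5_normalizerIn_le (S E : Subgroup Ω) : normalizerIn S E ≤ S := inf_le_left

/-- The torus element and its extension to `N_S(E)`. -/
theorem mc5_glue_torus [Finite S] (p : ℕ) [hp : Fact p.Prime] (hp5 : 5 ≤ p) (hS : IsPGroup p ↥S)
    (n : ℕ) (hn : Nat.card S = p ^ n) (h5 : 5 ≤ n)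
    (hmax : Subgroup.lowerCentralSeries S (n - 2) ≠ ⊥) (F : FusionSystem S)
    (hF : F.IsSaturated p) (E : Subgroup Ω) (hE : F.IsEssential p E)
    (hEA : Cfsg.IsElementaryAbelian p E) (hEc : Nat.card E = p ^ 3) :
    ∃ (γ : MulAut ↥(normalizerIn S E)) (l l' : ℕ) (d : ↥S), γ ∈ F.autGroup (normalizerIn S E) ∧
      orderOf (l : ZMod p) = p - 1 ∧ (l : ZMod p) * (l' : ZMod p) = 1 ∧
      (∀ e ∈ E.subgroupOf S, mc5FunAut F (mc5_normalizerIn_le S E) γ e ∈ E.subgroupOf S) ∧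
      (∀ y ∈ Subgroup.normalizer ((E.subgroupOf S : Subgroup ↥S) : Set ↥S), ∀ e ∈ E.subgroupOf S,
        mc5FunAut F (mc5_normalizerIn_le S E) γ ⁅y, e⁆ = ⁅y, e⁆ ^ l) ∧
      (∀ e ∈ E.subgroupOf S, mc5FunAut F (mc5_normalizerIn_le S E) γ e * (e ^ l')⁻¹ ∈
        E.subgroupOf S ⊓ gam ↥S (n - 3)) ∧
      d ∈ E.subgroupOf S ⊓ gam ↥S (n - 3) ∧
      (∀ y ∈ Subgroup.normalizer ((E.subgroupOf S : Subgroup ↥S) : Set ↥S), ∀ e ∈ E.subgroupOf S,
        d ≠ ⁅y, e⁆) ∧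
      mc5FunAut F (mc5_normalizerIn_le S E) γ d = d ∧
      (∀ y ∈ Subgroup.normalizer ((E.subgroupOf S : Subgroup ↥S) : Set ↥S),
        mc5FunAut F (mc5_normalizerIn_le S E) γ y * (y ^ (l ^ 2))⁻¹ ∈ E.subgroupOf S) := by
  have hpp := hp.out
  have hES : E ≤ S := hE.1.1
  have hNS : normalizerIn S E ≤ S := mc5_normalizerIn_le S E
  have hEN : E ≤ normalizerIn S E := Fusion.le_normalizerIn hES
  haveI : Finite E := Fusion.finite_of_le hES
  have hcfg := mc5_glue_cfg p hp5 hS n hn h5 hmax F hF E hE hEA hEc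
  have hG := hcfg.mc
  have hcent : centralizerIn S E ≤ E := hE.1.2 E (Fusion.isConj_refl F hES)
  have hcomm : ∀ a b : ↥E, a * b = b * a := fun a b => hEA.1.is_comm.comm a b
  have hexp : ∀ v : ↥E, v ^ p = 1 := by
    intro v
    apply Subtype.ext
    have := hEA.2 v.1 v.2
    simpa using this
  obtain ⟨hrec, hnn0, -, -⟩ := Cfsg.Agent.Helper4.Rk.essential_facts hS F hF hE
  set E' : Subgroup ↥S := E.subgroupOf S with hE'
  -- an element of `Z₃` outside `E`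
  obtain ⟨s₀, hs₀Z, hs₀E⟩ : ∃ s₀ : ↥S, s₀ ∈ gam ↥S (n - 3) ∧ s₀ ∉ E' := by
    by_contra hcon
    push Not at hcon
    have h1 : E' ⊓ gam ↥S (n - 3) = gam ↥S (n - 3) := inf_eq_right.2 hcon
    have h2 := mc5_base_card_H hcfg
    rw [h1, hG.card_gam (by omega) (by omega)] at h2
    have h3 : n - (n - 3) = 3 := by omega
    rw [h3] at h2
    have := Nat.pow_right_injective hpp.two_le h2
    omega
  have hs₀N : s₀ ∈ Subgroup.normalizer ((E' : Subgroup ↥S) : Set ↥S) := mc5_base_Z3_le hcfg hs₀Z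
  have hx₀N : (s₀ : Ω) ∈ normalizerIn S E := (mc5_glue_mem_normalizer hES s₀).1 hs₀N
  have hx₀n : (s₀ : Ω) ∈ Subgroup.normalizer (E : Set Ω) := (Subgroup.mem_inf.1 hx₀N).2
  set τ : MulAut ↥E := conjAut E (s₀ : Ω) hx₀n with hτ
  have hτT : τ ∈ autInducedBy S E :=
    (mem_autInducedBy_iff S E τ).2 ⟨(s₀ : Ω), s₀.2, fun x => rfl⟩
  have hTA := Fusion.autInducedBy_le_autGroup F hES
  have hTcard := Cfsg.Agent.Helper9.G3.card_autInducedBy_of_essential p hS F hF E hE hEA hEc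
  have hτp : τ ^ p = 1 := by
    have h1 := pow_card_eq_one' (G := ↥(autInducedBy S E)) (x := ⟨τ, hτT⟩)
    rw [hTcard] at h1
    exact congrArg Subtype.val h1
  have hτ1 : τ ≠ 1 := by
    intro h1
    apply hs₀E
    rw [hE', Subgroup.mem_subgroupOf]
    apply hcent
    refine Subgroup.mem_inf.2 ⟨s₀.2, ?_⟩
    rw [Subgroup.mem_centralizer_iff]
    intro y hy
    have h2 := congrArg (fun α : MulAut ↥E => ((α ⟨y, hy⟩ : ↥E) : Ω)) h1
    simp only [hτ, conjAut_apply, MulAut.one_apply] at h2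
    calc y * (s₀ : Ω) = ((s₀ : Ω) * y * (s₀ : Ω)⁻¹) * (s₀ : Ω) := by rw [h2]
      _ = (s₀ : Ω) * y := by group
  have hTz : Subgroup.zpowers τ = autInducedBy S E := mc5_glue_zpowers_eq _ hTcard hτT hτ1
  -- the fixed subgroup `C`
  set ιE : ↥E →* ↥S := Subgroup.inclusion hES with hιE
  have hιEinj : Function.Injective ιE := Subgroup.inclusion_injective hES
  set C : Subgroup ↥E := (gam ↥S (n - 3)).comap ιE with hC
  have hCmap : C.map ιE = E' ⊓ gam ↥S (n - 3) := by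
    ext s
    constructor
    · rintro ⟨c, hc, rfl⟩
      exact Subgroup.mem_inf.2 ⟨Subgroup.mem_subgroupOf.2 c.2, hc⟩
    · intro hs
      obtain ⟨h1, h2⟩ := Subgroup.mem_inf.1 hs
      exact ⟨⟨s.1, Subgroup.mem_subgroupOf.1 h1⟩, h2, rfl⟩
  have hCcard : Nat.card C = p ^ 2 := by
    rw [← Subgroup.card_map_of_injective hιEinj, hCmap]
    exact mc5_base_card_H hcfg
  have hfix : ∀ c ∈ C, τ c = c := by
    intro c hc
    have h1 : ιE c ∈ E' ⊓ gam ↥S (n - 3) := by rw [← hCmap]; exact ⟨c, hc, rfl⟩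
    have h2 := mc5_base_H_central hcfg h1 hs₀N
    apply Subtype.ext
    have h3 : ((ιE c : ↥S) : Ω) * (s₀ : Ω) = (s₀ : Ω) * ((ιE c : ↥S) : Ω) :=
      congrArg (Subtype.val : ↥S → Ω) h2.eq
    have h4 : ((ιE c : ↥S) : Ω) = (c : Ω) := rfl
    rw [h4] at h3
    simp only [hτ, conjAut_apply]
    rw [← h3]
    group
  have hsyl := mc5_glue_hsyl p hS F hF E hE hEA hEc
  have hnn : ∃ g ∈ F.autGroup E, g * τ * g⁻¹ ∉ Subgroup.zpowers τ := by
    obtain ⟨β, hβA, τ₀, hτ₀T, hβτ₀⟩ := hnn0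
    refine ⟨β, hβA, fun hmem => hβτ₀ ?_⟩
    rw [← hTz] at hτ₀T ⊢
    obtain ⟨i, rfl⟩ := Subgroup.mem_zpowers_iff.1 hτ₀T
    have : β * τ ^ i * β⁻¹ = (β * τ * β⁻¹) ^ i := by
      rw [conj_zpow]
    rw [this]
    exact Subgroup.zpow_mem _ hmem i
  obtain ⟨h, l, l', x, dV, hhA, hl, hll, hx1, hxC, hmove, hhx, hquot, hdC, hdx, hhd, hconj⟩ :=
    mc5_glue_tv hcomm hexp hEc (F.autGroup E) τ (hTA hτT) hτp hτ1 C hCcard hfix hsyl hnn
  -- `h` normalizes `Aut_S(E)`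
  have hnorm : ∀ u ∈ autInducedBy S E, h * u * h⁻¹ ∈ autInducedBy S E := by
    intro u hu
    rw [← hTz] at hu ⊢
    obtain ⟨i, rfl⟩ := Subgroup.mem_zpowers_iff.1 hu
    have : h * τ ^ i * h⁻¹ = (h * τ * h⁻¹) ^ i := by rw [conj_zpow]
    rw [this, hconj]
    exact Subgroup.zpow_mem _ (Subgroup.pow_mem _ (Subgroup.mem_zpowers τ) _) i
  obtain ⟨γ, hγA, hγE⟩ := Fusion.exists_aut_normalizerIn_extension F hrec h hhA hnorm
  set f := mc5FunAut F (mc5_normalizerIn_le S E) γ with hf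
  -- `f` on `E'`
  have hfE : ∀ (e : ↥S) (he : (e : Ω) ∈ E), ((f e : ↥S) : Ω) = ((h ⟨e, he⟩ : ↥E) : Ω) := by
    intro e he
    rw [hf, mc5FunAut_apply F (mc5_normalizerIn_le S E) γ e (hEN he)]
    exact hγE ⟨e, he⟩
  have hfιE : ∀ v : ↥E, f (ιE v) = ιE (h v) := by
    intro v
    apply Subtype.ext
    exact hfE (ιE v) v.2
  -- commutators `⁅y, e⁆` are powers of `x`
  have hcommx : ∀ y ∈ Subgroup.normalizer ((E' : Subgroup ↥S) : Set ↥S), ∀ e ∈ E',
      ∃ m : ℕ, ⁅y, e⁆ = ιE (x ^ m) := by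
    intro y hy e he
    have hyN : (y : Ω) ∈ normalizerIn S E := (mc5_glue_mem_normalizer hES y).1 hy
    have hyn : (y : Ω) ∈ Subgroup.normalizer (E : Set Ω) := (Subgroup.mem_inf.1 hyN).2
    have hτy : conjAut E (y : Ω) hyn ∈ Subgroup.zpowers τ := by
      rw [hTz]
      exact (mem_autInducedBy_iff S E _).2 ⟨(y : Ω), y.2, fun x => rfl⟩
    obtain ⟨i, hi⟩ := mc5_glue_exists_nat_pow hτp hpp.pos hτy
    have hi := hi.symm
    have heE : (e : Ω) ∈ E := Subgroup.mem_subgroupOf.1 he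
    obtain ⟨m, hm⟩ := mc5_glue_pow_move hcomm τ x hmove i ⟨e, heE⟩
    refine ⟨m, ?_⟩
    apply Subtype.ext
    rw [hi] at hm
    have h2 := congrArg (Subtype.val : ↥E → Ω) hm
    simp only [Subgroup.coe_mul, conjAut_apply, Subgroup.coe_inv] at h2
    rw [commutatorElement_def]
    simp only [Subgroup.coe_mul, Subgroup.coe_inv, hιE, Subgroup.coe_inclusion]
    exact h2
  refine ⟨γ, l, l', ιE dV, hγA, hl, hll, ?_, ?_, ?_, ?_, ?_, ?_, ?_⟩ <;> try rw [← hf]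
  · intro e he
    rw [Subgroup.mem_subgroupOf] at he ⊢
    rw [hfE e he]
    exact (h ⟨e, he⟩).2
  · intro y hy e he
    obtain ⟨m, hm⟩ := hcommx y hy e he
    rw [hm, hfιE, map_pow, hhx, ← map_pow, ← pow_mul, ← pow_mul, mul_comm]
  · intro e he
    have heE : (e : Ω) ∈ E := Subgroup.mem_subgroupOf.1 he
    have h1 : e = ιE ⟨e, heE⟩ := rfl
    rw [← hCmap]
    refine ⟨h ⟨e, heE⟩ * (⟨e, heE⟩ ^ l')⁻¹, hquot ⟨e, heE⟩, ?_⟩
    rw [map_mul, map_inv, map_pow, ← hfιE, ← h1]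
  · rw [← hCmap]
    exact ⟨dV, hdC, rfl⟩
  · intro y hy e he heq
    obtain ⟨m, hm⟩ := hcommx y hy e he
    rw [hm] at heq
    exact hdx m (hιEinj heq)
  · rw [hfιE, hhd]
  · intro y hy
    have hyN : (y : Ω) ∈ normalizerIn S E := (mc5_glue_mem_normalizer hES y).1 hy
    have hyn : (y : Ω) ∈ Subgroup.normalizer (E : Set Ω) := (Subgroup.mem_inf.1 hyN).2
    have hτy : conjAut E (y : Ω) hyn ∈ Subgroup.zpowers τ := by
      rw [hTz]
      exact (mem_autInducedBy_iff S E _).2 ⟨(y : Ω), y.2, fun x => rfl⟩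
    obtain ⟨i, hi⟩ := mc5_glue_exists_nat_pow hτp hpp.pos hτy
    set a : Ω := ((γ ⟨y, hyN⟩ : ↥(normalizerIn S E)) : Ω) with ha
    have haS : a ∈ S := hNS (γ ⟨y, hyN⟩).2
    have hfy : ((f y : ↥S) : Ω) = a := by
      rw [hf, mc5FunAut_apply F (mc5_normalizerIn_le S E) γ y hyN]
    have hconjy : h * conjAut E (y : Ω) hyn * h⁻¹ = (conjAut E (y : Ω) hyn) ^ (l ^ 2) := by
      rw [hi, ← pow_mul, mul_comm, pow_mul, ← hconj, conj_pow]
    have key : ∀ e : ↥E, a * (e : Ω) * a⁻¹ = (y : Ω) ^ (l ^ 2) * (e : Ω) * ((y : Ω) ^ (l ^ 2))⁻¹ := by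
      intro e
      set e' : ↥E := h.symm e with he'
      have h1 : ((γ ⟨(e' : Ω), hEN e'.2⟩ : ↥(normalizerIn S E)) : Ω) = (e : Ω) := by
        rw [hγE e', he']
        simp
      have hmem : (y : Ω) * (e' : Ω) * (y : Ω)⁻¹ ∈ E :=
        (Subgroup.mem_normalizer_iff.1 hyn (e' : Ω)).1 e'.2
      have h2 : (⟨(y : Ω) * (e' : Ω) * (y : Ω)⁻¹, hEN hmem⟩ : ↥(normalizerIn S E)) =
          ⟨y, hyN⟩ * ⟨(e' : Ω), hEN e'.2⟩ * (⟨y, hyN⟩ : ↥(normalizerIn S E))⁻¹ := by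
        apply Subtype.ext; rfl
      have h3 : ((γ ⟨(y : Ω) * (e' : Ω) * (y : Ω)⁻¹, hEN hmem⟩ : ↥(normalizerIn S E)) : Ω) =
          a * (e : Ω) * a⁻¹ := by
        rw [h2, map_mul, map_mul, map_inv, Subgroup.coe_mul, Subgroup.coe_mul, Subgroup.coe_inv, h1]
      have h4 := hγE ⟨(y : Ω) * (e' : Ω) * (y : Ω)⁻¹, hmem⟩
      have h5 : (⟨(y : Ω) * (e' : Ω) * (y : Ω)⁻¹, hmem⟩ : ↥E) = conjAut E (y : Ω) hyn e' := by
        apply Subtype.ext; rfl
      rw [← h3, h4, h5]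
      have h6 : h (conjAut E (y : Ω) hyn e') = (h * conjAut E (y : Ω) hyn * h⁻¹) e := by
        rw [MulAut.mul_apply, MulAut.mul_apply, he']
        rfl
      rw [h6, hconjy, conjAut_pow_apply]
    -- `g' := (y ^ (l ^ 2))⁻¹ * a` centralizes `E`
    have hyS : (y : Ω) ^ (l ^ 2) ∈ S := S.pow_mem y.2 _
    have hg' : ((y : Ω) ^ (l ^ 2))⁻¹ * a ∈ E := by
      apply hcent
      refine Subgroup.mem_inf.2 ⟨S.mul_mem (S.inv_mem hyS) haS, ?_⟩
      rw [Subgroup.mem_centralizer_iff]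
      intro e he
      have := key ⟨e, he⟩
      simp only at this
      calc e * (((y : Ω) ^ (l ^ 2))⁻¹ * a)
          = ((y : Ω) ^ (l ^ 2))⁻¹ * ((y : Ω) ^ (l ^ 2) * e * ((y : Ω) ^ (l ^ 2))⁻¹) * a := by group
        _ = ((y : Ω) ^ (l ^ 2))⁻¹ * (a * e * a⁻¹) * a := by rw [this]
        _ = ((y : Ω) ^ (l ^ 2))⁻¹ * a * e := by group
    rw [Subgroup.mem_subgroupOf]
    have hyln : (y : Ω) ^ (l ^ 2) ∈ Subgroup.normalizer (E : Set Ω) :=
      Subgroup.pow_mem _ hyn _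
    have h7 := (Subgroup.mem_normalizer_iff.1 hyln _).1 hg'
    have h8 : ((f y * (y ^ (l ^ 2))⁻¹ : ↥S) : Ω) =
        (y : Ω) ^ (l ^ 2) * (((y : Ω) ^ (l ^ 2))⁻¹ * a) * ((y : Ω) ^ (l ^ 2))⁻¹ := by
      rw [Subgroup.coe_mul, hfy, Subgroup.coe_inv, Subgroup.coe_pow]
      group
    rw [h8]
    exact h7

end Cfsg.Agent.MC5
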