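import Mathlib
import Cfsg.Prelude.Def_FusionSystem
import Cfsg.Agent.MC5.GlueD

set_option autoImplicit false
set_option linter.unusedVariables false
set_option linter.style.haveILetI false

/-!
# S5316 project, glue part E: every `F`-automorphism of `N = N_S(E)` stabilizes `Z₃`
-/

namespace Cfsg.Agent.MC5

open scoped commutatorElement
open Cfsg Cfsg.FusionSystem Cfsg.Agent.Lead Cfsg.Agent.Helper4.MC

variable {Ω : Type*} [Group Ω] {S : Subgroup Ω}

theorem mc5_glue_subgroupOf_normalizerIn {E : Subgroup Ω} (hES : E ≤ S) :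
    (normalizerIn S E).subgroupOf S =
      Subgroup.normalizer ((E.subgroupOf S : Subgroup ↥S) : Set ↥S) := by
  ext s
  rw [Subgroup.mem_subgroupOf]
  exact (mc5_glue_mem_normalizer hES s).symm

/-- `AutOn N' f` for the function attached to an automorphism of `N_S(E)` -/
theorem mc5_glue_autOn_N (F : FusionSystem S) {E : Subgroup Ω} (hES : E ≤ S)
    (φ : MulAut ↥(normalizerIn S E)) :
    AutOn (Subgroup.normalizer ((E.subgroupOf S : Subgroup ↥S) : Set ↥S))
      (mc5FunAut F (mc5_normalizerIn_le S E) φ) := by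
  rw [← mc5_glue_subgroupOf_normalizerIn hES]
  exact mc5FunAut_autOn F _ φ

/-- `H = Z(N)` is invariant under every automorphism of `N` -/
theorem mc5_glue_H_inv {G : Type*} [Group G] [Finite G] {p n : ℕ} [Fact p.Prime]
    {E : Subgroup G} (hcfg : Cfg p n G E) {f : G → G}
    (hf : AutOn (Subgroup.normalizer (E : Set G)) f) :
    ∀ c ∈ E ⊓ gam G (n - 3), f c ∈ E ⊓ gam G (n - 3) := by
  intro c hc
  have hcN : c ∈ Subgroup.normalizer (E : Set G) :=
    Subgroup.le_normalizer (Subgroup.mem_inf.1 hc).1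
  apply mc5_base_center_le hcfg (hf.mem c hcN)
  intro y hy
  exact hf.inv_centralizer le_rfl hf.mem hcN (fun k hk => mc5_base_H_central hcfg hc hk) y hy

/-- Every `F`-automorphism of `N_S(E)` stabilizes `Z₃`. -/
theorem mc5_glue_Z3_inv [Finite S] (p : ℕ) [hp : Fact p.Prime] (hp5 : 5 ≤ p) (hS : IsPGroup p ↥S)
    (n : ℕ) (hn : Nat.card S = p ^ n) (h5 : 5 ≤ n)
    (hmax : Subgroup.lowerCentralSeries S (n - 2) ≠ ⊥) (F : FusionSystem S)
    (hF : F.IsSaturated p) (E : Subgroup Ω) (hE : F.IsEssential p E)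
    (hEA : Cfsg.IsElementaryAbelian p E) (hEc : Nat.card E = p ^ 3)
    (φ : MulAut ↥(normalizerIn S E)) (hφ : φ ∈ F.autGroup (normalizerIn S E)) :
    ∀ z ∈ gam ↥S (n - 3), mc5FunAut F (mc5_normalizerIn_le S E) φ z ∈ gam ↥S (n - 3) := by
  have hpp := hp.out
  have hES : E ≤ S := hE.1.1
  have hNS : normalizerIn S E ≤ S := mc5_normalizerIn_le S E
  have hcfg := mc5_glue_cfg p hp5 hS n hn h5 hmax F hF E hE hEA hEc
  have hG := hcfg.mc
  set E' : Subgroup ↥S := E.subgroupOf S with hE'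
  set N' : Subgroup ↥S := Subgroup.normalizer ((E' : Subgroup ↥S) : Set ↥S) with hN'
  set f := mc5FunAut F (mc5_normalizerIn_le S E) φ with hf
  have hfA : AutOn N' f := mc5_glue_autOn_N F hES φ
  have hZN : gam ↥S (n - 3) ≤ N' := mc5_base_Z3_le hcfg
  have hHinv := mc5_glue_H_inv hcfg hfA
  -- the image `B'` of `Z₃`
  let g : ↥(gam ↥S (n - 3)) →* ↥S :=
    { toFun := fun z => f z.1
      map_one' := hfA.map_one
      map_mul' := fun a b => hfA.mul _ (hZN a.2) _ (hZN b.2) }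
  have hginj : Function.Injective g := by
    intro a b hab
    apply Subtype.ext
    exact hfA.injOn (hZN a.2) (hZN b.2) hab
  set B' : Subgroup ↥S := g.range with hB'
  have hB'card : Nat.card B' = p ^ 3 := by
    rw [hB', Nat.card_congr (MonoidHom.ofInjective hginj).toEquiv.symm,
      hG.card_gam (by omega) (by omega)]
    congr 1
    omega
  have hB'N : B' ≤ N' := by
    rintro _ ⟨z, rfl⟩
    exact hfA.mem _ (hZN z.2)
  have hHB' : E' ⊓ gam ↥S (n - 3) ≤ B' := by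
    intro c hc
    have hHN : E' ⊓ gam ↥S (n - 3) ≤ N' := inf_le_right.trans hZN
    obtain ⟨c', hc', hcc'⟩ := hfA.surjOn hHN hHinv hc
    exact ⟨⟨c', (Subgroup.mem_inf.1 hc').2⟩, hcc'⟩
  by_contra hcon
  push Not at hcon
  obtain ⟨z₀, hz₀, hfz₀⟩ := hcon
  have hne : B' ≠ gam ↥S (n - 3) := by
    intro h
    apply hfz₀
    rw [← h]
    exact ⟨⟨z₀, hz₀⟩, rfl⟩
  obtain ⟨g₀, hg₀, hB'E⟩ := mc5_base_max hcfg B' hHB' hB'N hB'card hne
  -- the `F`-isomorphism `Z₃ → E`
  set Z : Subgroup Ω := (gam ↥S (n - 3)).map S.subtype with hZ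
  have hZS : Z ≤ S := mc5_map_le _
  have hZNΩ : Z ≤ normalizerIn S E := by
    rintro _ ⟨z, hz, rfl⟩
    exact (mc5_glue_mem_normalizer hES z).1 (hZN hz)
  have hφhom := (Fusion.mem_autGroup_iff F hNS φ).1 hφ
  have h1 := Fusion.restrict_mem F hφhom hZNΩ
  have h2 : conjHom (normalizerIn S E) ((g₀ : Ω)⁻¹) ∈ F.Hom (normalizerIn S E) :=
    F.conj_mem hNS (S.inv_mem g₀.2)
  have h3 : ∀ x : ↥Z, (((normalizerIn S E).subtype.comp φ.toMonoidHom).comp
      (Subgroup.inclusion hZNΩ)) x ∈ normalizerIn S E := fun x => (φ _).2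
  obtain ⟨χ, hχ, hχx⟩ := Fusion.comp_mem' F h1 h2 h3
  have hχval : ∀ (z : ↥S) (hz : z ∈ gam ↥S (n - 3)),
      χ ⟨(z : Ω), Subgroup.mem_map_of_mem _ hz⟩ = (g₀ : Ω)⁻¹ * ((f z : ↥S) : Ω) * (g₀ : Ω) := by
    intro z hz
    rw [hχx]
    have hzN : (z : Ω) ∈ normalizerIn S E := hZNΩ (Subgroup.mem_map_of_mem _ hz)
    rw [hf, mc5FunAut_apply F (mc5_normalizerIn_le S E) φ z hzN]
    simp [conjHom]
    rfl
  have hχE : χ.range ≤ E := by
    rintro _ ⟨x, rfl⟩
    obtain ⟨z, hz, hzx⟩ := x.2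
    have hx : x = ⟨(z : Ω), Subgroup.mem_map_of_mem _ hz⟩ := Subtype.ext hzx.symm
    rw [hx, hχval z hz]
    have h4 : f z ∈ B' := ⟨⟨z, hz⟩, rfl⟩
    have h5 := (hB'E (f z)).1 h4
    exact Subgroup.mem_subgroupOf.1 h5
  haveI : Finite E := Fusion.finite_of_le hES
  have hχinj := F.injective_of_mem hχ
  have hχr : χ.range = E := by
    apply Subgroup.eq_of_le_of_card_ge hχE
    rw [hEc, Nat.card_congr (MonoidHom.ofInjective hχinj).toEquiv.symm, hZ,
      Subgroup.card_map_of_injective S.subtype_injective, hG.card_gam (by omega) (by omega)]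
    apply le_of_eq
    congr 1
    omega
  have hconj : F.IsConj E Z := Fusion.isConj_symm F ⟨χ, hχ, hχr⟩
  have h6 := hE.2.1.2 Z hconj
  rw [mc5_glue_card_normalizerIn p hS F hF E hE hEA hEc] at h6
  -- `N_S(Z₃) = S`
  have h7 : normalizerIn S Z = S := by
    apply le_antisymm inf_le_left
    intro s hs
    refine Subgroup.mem_inf.2 ⟨hs, ?_⟩
    rw [Subgroup.mem_normalizer_iff]
    intro y
    have hnorm : (gam ↥S (n - 3)).Normal := gam_normal _
    constructor
    · rintro ⟨z, hz, rfl⟩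
      exact ⟨⟨s, hs⟩ * z * ⟨s, hs⟩⁻¹, hnorm.conj_mem z hz _, rfl⟩
    · rintro ⟨z, hz, hzy⟩
      have hzy' : (z : Ω) = s * y * s⁻¹ := hzy
      have hy' : y = s⁻¹ * (z : Ω) * s := by rw [hzy']; group
      have hyS : y ∈ S := by
        rw [hy']
        exact S.mul_mem (S.mul_mem (S.inv_mem hs) z.2) hs
      refine ⟨⟨y, hyS⟩, ?_, rfl⟩
      have h8 : (⟨y, hyS⟩ : ↥S) = (⟨s, hs⟩ : ↥S)⁻¹ * z * (⟨s, hs⟩ : ↥S)⁻¹⁻¹ := by
        apply Subtype.ext
        rw [inv_inv]
        exact hy'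
      rw [h8]
      exact hnorm.conj_mem z hz _
  rw [h7, hn] at h6
  have := (Nat.pow_le_pow_iff_right hpp.one_lt).1 h6
  omega

end Cfsg.Agent.MC5
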