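import Mathlib
import Cfsg.Agent.Helper4.MCDefs
import Cfsg.Agent.MC5.Eig

set_option autoImplicit false

/-!
# S5316 project: the structure `Torus` (frozen header of `MC5/Pure.lean`, split off so that the
fusion glue, which produces it, and `MC5/Pure.lean`, which consumes it, can land independently)
-/

namespace Cfsg.Agent.MC5

open scoped commutatorElement
open Cfsg.Agent.Helper4.MC

universe u
variable {G : Type u} [Group G]

/-- the torus data on `N = N_G(E)` (produced by the fusion glue) -/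
structure Torus (p n : ℕ) (E : Subgroup G) (f : G → G) (l l' : ℕ) (d : G) : Prop where
  aut : AutOn (Subgroup.normalizer (E : Set G)) f
  ord : orderOf (l : ZMod p) = p - 1
  inv : (l : ZMod p) * (l' : ZMod p) = 1
  memE : ∀ e ∈ E, f e ∈ E
  a1 : ∀ y ∈ Subgroup.normalizer (E : Set G), ∀ e ∈ E, f ⁅y, e⁆ = ⁅y, e⁆ ^ l
  quot : ∀ e ∈ E, f e * (e ^ l')⁻¹ ∈ E ⊓ gam G (n - 3)
  d_mem : d ∈ E ⊓ gam G (n - 3)
  d_not : ∀ y ∈ Subgroup.normalizer (E : Set G), ∀ e ∈ E, d ≠ ⁅y, e⁆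
  d_fix : f d = d
  top : ∀ y ∈ Subgroup.normalizer (E : Set G), f y * (y ^ (l ^ 2))⁻¹ ∈ E
  z3 : ∀ z ∈ gam G (n - 3), f z ∈ gam G (n - 3)

end Cfsg.Agent.MC5
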