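import Mathlib
import Cfsg.Prelude.Def_FusionSystem
import Cfsg.Agent.MC5.GlueE
import Cfsg.Agent.MC5.Torus

set_option autoImplicit false
set_option linter.unusedVariables false
set_option linter.style.haveILetI false

/-!
# S5316 project, glue part F: the torus structure
-/

namespace Cfsg.Agent.MC5

open scoped commutatorElement
open Cfsg Cfsg.FusionSystem Cfsg.Agent.Lead Cfsg.Agent.Helper4.MC

variable {Ω : Type*} [Group Ω] {S : Subgroup Ω}

/-- The torus structure from the fusion system. -/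
theorem mc5_glue_Torus [Finite S] (p : ℕ) [hp : Fact p.Prime] (hp5 : 5 ≤ p) (hS : IsPGroup p ↥S)
    (n : ℕ) (hn : Nat.card S = p ^ n) (h5 : 5 ≤ n)
    (hmax : Subgroup.lowerCentralSeries S (n - 2) ≠ ⊥) (F : FusionSystem S)
    (hF : F.IsSaturated p) (E : Subgroup Ω) (hE : F.IsEssential p E)
    (hEA : Cfsg.IsElementaryAbelian p E) (hEc : Nat.card E = p ^ 3) :
    ∃ (γ : MulAut ↥(normalizerIn S E)) (l l' : ℕ) (d : ↥S), γ ∈ F.autGroup (normalizerIn S E) ∧
      Torus p n (E.subgroupOf S) (mc5FunAut F (mc5_normalizerIn_le S E) γ) l l' d := by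
  obtain ⟨γ, l, l', d, hγ, h1, h2, h3, h4, h5', h6, h7, h8, h9⟩ :=
    mc5_glue_torus p hp5 hS n hn h5 hmax F hF E hE hEA hEc
  exact ⟨γ, l, l', d, hγ, mc5_glue_autOn_N F hE.1.1 γ, h1, h2, h3, h4, h5', h6, h7, h8, h9,
    mc5_glue_Z3_inv p hp5 hS n hn h5 hmax F hF E hE hEA hEc γ hγ⟩

end Cfsg.Agent.MC5
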