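import Mathlib
import Cfsg.Prelude.Def_FusionSystem
import Cfsg.Agent.MC5.GlueE
import Cfsg.Agent.Helper1.MaxClassNormal

set_option autoImplicit false
set_option linter.unusedVariables false
set_option linter.style.haveILetI false

/-!
# S5316 project, glue part H: for `n ≤ 6` the normalizer `N_S(E)` is fully normalized
-/

namespace Cfsg.Agent.MC5

open scoped commutatorElement
open Cfsg Cfsg.FusionSystem Cfsg.Agent.Lead Cfsg.Agent.Helper4.MC

variable {Ω : Type*} [Group Ω] {S : Subgroup Ω}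

/-- A subgroup normalized by `S` is fully normalized. -/
theorem mc5_fullyNormalized_of_normal [Finite S] (F : FusionSystem S) {P : Subgroup Ω} (hPS : P ≤ S)
    (hN : S ≤ Subgroup.normalizer (P : Set Ω)) : F.IsFullyNormalized P := by
  refine ⟨hPS, fun Q _ => ?_⟩
  have e : normalizerIn S P = S := inf_eq_left.mpr hN
  rw [e]
  exact Subgroup.card_le_of_le inf_le_left

/-- the image in `Ω` of a normal subgroup of `↥S` is normalized by `S` -/
theorem mc5_normal_map_normalizer (P' : Subgroup ↥S) [hP : P'.Normal] :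
    S ≤ Subgroup.normalizer ((P'.map S.subtype : Subgroup Ω) : Set Ω) := by
  intro g hg
  apply mem_normalizer_of_conj_mem
  · rintro _ ⟨z, hz, rfl⟩
    exact ⟨⟨g, hg⟩ * z * ⟨g, hg⟩⁻¹, hP.conj_mem z hz ⟨g, hg⟩, rfl⟩
  · rintro _ ⟨z, hz, rfl⟩
    refine ⟨⟨g, hg⟩⁻¹ * z * ⟨g, hg⟩, ?_, rfl⟩
    have := hP.conj_mem z hz ⟨g, hg⟩⁻¹
    rwa [inv_inv] at this

/-- a subgroup of `S` normalized by `S` gives a normal subgroup of `↥S` -/
theorem mc5_subgroupOf_normal {Q : Subgroup Ω} (hQ : S ≤ Subgroup.normalizer (Q : Set Ω)) :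
    (Q.subgroupOf S).Normal := by
  constructor
  intro x hx g
  rw [Subgroup.mem_subgroupOf] at hx ⊢
  have := (Subgroup.mem_normalizer_iff.1 (hQ g.2) (x : Ω)).1 hx
  simpa using this

theorem mc5_card_subgroupOf {Q : Subgroup Ω} (hQS : Q ≤ S) :
    Nat.card (Q.subgroupOf S) = Nat.card Q :=
  Nat.card_congr (Subgroup.subgroupOfEquivOfLe hQS).toEquiv

/-- `|N_S(Q)| = |N_{↥S}(Q')|` -/
theorem mc5_card_normalizerIn {Q : Subgroup Ω} (hQS : Q ≤ S) :
    Nat.card (normalizerIn S Q) =
      Nat.card (Subgroup.normalizer ((Q.subgroupOf S : Subgroup ↥S) : Set ↥S)) := by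
  rw [← mc5_glue_map_normalizer hQS, Subgroup.card_map_of_injective S.subtype_injective]

/-- For `n ≤ 6`, `N_S(E)` is fully normalized. -/
theorem mc5_glue_N_fn [Finite S] (p : ℕ) [hp : Fact p.Prime] (hp5 : 5 ≤ p) (hS : IsPGroup p ↥S)
    (n : ℕ) (hn : Nat.card S = p ^ n) (h5 : 5 ≤ n)
    (hmax : Subgroup.lowerCentralSeries S (n - 2) ≠ ⊥) (F : FusionSystem S)
    (hF : F.IsSaturated p) (E : Subgroup Ω) (hE : F.IsEssential p E)
    (hEA : Cfsg.IsElementaryAbelian p E) (hEc : Nat.card E = p ^ 3) (hn6 : n ≤ 6) :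
    F.IsFullyNormalized (normalizerIn S E) := by
  have hpp := hp.out
  have hES : E ≤ S := hE.1.1
  have hNS : normalizerIn S E ≤ S := mc5_normalizerIn_le S E
  have hEN : E ≤ normalizerIn S E := Fusion.le_normalizerIn hES
  have hcfg := mc5_glue_cfg p hp5 hS n hn h5 hmax F hF E hE hEA hEc
  have hG := hcfg.mc
  set E' : Subgroup ↥S := E.subgroupOf S with hE'
  set N' : Subgroup ↥S := Subgroup.normalizer ((E' : Subgroup ↥S) : Set ↥S) with hN'
  have hNsub : (normalizerIn S E).subgroupOf S = N' := mc5_glue_subgroupOf_normalizerIn hES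
  have hNmap : N'.map S.subtype = normalizerIn S E := mc5_glue_map_normalizer hES
  have hNcard : Nat.card (normalizerIn S E) = p ^ 4 :=
    mc5_glue_card_normalizerIn p hS F hF E hE hEA hEc
  rcases mc5_base_cases hcfg with ⟨h5', hlev, -, -⟩ | ⟨h6, hexc, hcase⟩
  · -- `n = 5`
    apply mc5_fullyNormalized_of_normal F hNS
    have hN'lev : N' = lev ↥S 1 := hlev
    rw [← hNmap, hN'lev]
    haveI : (lev ↥S 1).Normal := lev_normal 1
    exact mc5_normal_map_normalizer (lev ↥S 1)
  · have hn6' : n = 6 := by omega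
    subst hn6'
    refine ⟨hNS, ?_⟩
    intro Q hQ
    by_contra hlt
    push Not at hlt
    obtain ⟨φ, hφ, hφr⟩ := hQ
    have hφinj := F.injective_of_mem hφ
    have hQS : Q ≤ S := by
      rw [← hφr]
      rintro _ ⟨x, rfl⟩
      exact Fusion.map_mem F hφ x
    haveI : Finite Q := Fusion.finite_of_le hQS
    haveI : Finite (normalizerIn S E) := Fusion.finite_of_le hNS
    have hNNcard : Nat.card (normalizerIn S (normalizerIn S E)) = p ^ 5 := by
      rw [mc5_card_normalizerIn hNS, hNsub]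
      exact mc5_base_card_NN hcfg
    rw [hNNcard] at hlt
    have hNQ : normalizerIn S Q = S := by
      have h1 : IsPGroup p (normalizerIn S Q) := hS.to_le inf_le_left
      haveI : Finite (normalizerIn S Q) := Fusion.finite_of_le inf_le_left
      obtain ⟨k, hk⟩ := IsPGroup.iff_card.1 h1
      have h2 : Nat.card (normalizerIn S Q) ≤ Nat.card S := Subgroup.card_le_of_le inf_le_left
      rw [hk] at hlt h2
      rw [hn] at h2
      have h3 : 5 < k := (Nat.pow_lt_pow_iff_right hpp.one_lt).1 hlt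
      have h4 : k ≤ 6 := (Nat.pow_le_pow_iff_right hpp.one_lt).1 h2
      have hk6 : k = 6 := by omega
      have h5' : Nat.card S ≤ Nat.card (normalizerIn S Q) := by rw [hk, hk6, hn]
      exact Subgroup.eq_of_le_of_card_ge inf_le_left h5'
    have hQnorm : S ≤ Subgroup.normalizer (Q : Set Ω) := by
      intro g hg
      have : g ∈ normalizerIn S Q := by rw [hNQ]; exact hg
      exact (Subgroup.mem_inf.1 this).2
    set Q' : Subgroup ↥S := Q.subgroupOf S with hQ'
    haveI hQ'n : Q'.Normal := mc5_subgroupOf_normal hQnorm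
    have hQcard : Nat.card Q = p ^ 4 := by
      rw [← hNcard, ← hφr]
      exact Nat.card_congr (MonoidHom.ofInjective hφinj).toEquiv.symm
    have hQ'card : Nat.card Q' = p ^ 4 := by rw [hQ', mc5_card_subgroupOf hQS, hQcard]
    have hQ'idx : Q'.index = p ^ 2 := by
      have h1 := Subgroup.card_mul_index Q'
      rw [hQ'card, hn] at h1
      have h2 : p ^ 6 = p ^ 4 * p ^ 2 := by ring
      rw [h2] at h1
      exact Nat.eq_of_mul_eq_mul_left (pow_pos hpp.pos 4) h1
    have hQ'eq : Q' = gam ↥S 2 :=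
      Cfsg.Agent.Helper1.maxClass_normal_eq_lcs 6 hG.card hG.cls (by omega) Q' 2 le_rfl hQ'idx
    -- the conjugate `Es` of `E` inside `Q`
    have hχ := Fusion.restrict_mem F hφ hEN
    set χ : ↥E →* Ω := φ.comp (Subgroup.inclusion hEN) with hχdef
    set Es : Subgroup Ω := χ.range with hEs
    have hconj : F.IsConj E Es := ⟨χ, hχ, rfl⟩
    have hEsQ : Es ≤ Q := by
      rintro _ ⟨x, rfl⟩
      rw [← hφr]
      exact ⟨_, rfl⟩
    have hEsS : Es ≤ S := hEsQ.trans hQS
    have hEs4 : Nat.card (normalizerIn S Es) ≤ p ^ 4 := by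
      have := hE.2.1.2 Es hconj
      rwa [hNcard] at this
    have hEscent : centralizerIn S Es ≤ Es := hE.1.2 Es hconj
    set Es' : Subgroup ↥S := Es.subgroupOf S with hEs'
    have hEs'g2 : Es' ≤ gam ↥S 2 := by
      rw [← hQ'eq]
      exact Subgroup.subgroupOf_mono _ hEsQ
    have hg4 : gam ↥S 4 ≤ Es' := by
      intro c hc
      rw [hEs', Subgroup.mem_subgroupOf]
      apply hEscent
      refine Subgroup.mem_inf.2 ⟨c.2, ?_⟩
      rw [Subgroup.mem_centralizer_iff]
      intro y hy
      have hy' : (⟨y, hEsS hy⟩ : ↥S) ∈ gam ↥S 2 := hEs'g2 (Subgroup.mem_subgroupOf.2 hy)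
      have h1 := comm_mem_gam (G := ↥S) (i := 4) (j := 2) (by omega) (by omega) hc hy'
      rw [hG.gam_eq_bot (by omega), Subgroup.mem_bot,
        commutatorElement_eq_one_iff_mul_comm] at h1
      have := congrArg (Subtype.val : ↥S → Ω) h1
      simpa using this.symm
    have hlev : lev ↥S 1 ≤ Subgroup.normalizer ((Es' : Subgroup ↥S) : Set ↥S) := by
      apply mc5_le_normalizer
      intro k hk e he
      have h1 : ⁅k, e⁆ ∈ gam ↥S 4 := by
        have h2 := Cfsg.Agent.Helper8.MC.lev_comm_gam_le' hG (by omega) (i := 1) (j := 2) le_rfl le_rfl (by omega)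
        exact h2 (Subgroup.commutator_mem_commutator hk (hEs'g2 he))
      have e1 : k * e * k⁻¹ = ⁅k, e⁆ * e := by
        rw [commutatorElement_def]; group
      rw [e1]
      exact Es'.mul_mem (hg4 h1) he
    have h1 : Nat.card (lev ↥S 1) = p ^ 5 := by
      rw [hG.card_lev (by omega) (by omega)]
    have h2 := Subgroup.card_le_of_le hlev
    rw [h1, ← mc5_card_normalizerIn hEsS] at h2
    have h3 := h2.trans hEs4
    have h4 : 5 ≤ 4 := (Nat.pow_le_pow_iff_right hpp.one_lt).1 h3
    omega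

end Cfsg.Agent.MC5
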