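import Mathlib
import Cfsg.Agent.MC5.Torus
import Cfsg.Agent.MC5.Base
import Cfsg.Agent.MC5.Blackburn
import Cfsg.Agent.MC5.EndA
import Cfsg.Agent.MC5.EndA6II
import Cfsg.Agent.MC5.EndA6III
import Cfsg.Agent.MC5.EndB8II
import Cfsg.Agent.MC5.EndB8III

set_option autoImplicit false

/-!
# S5316 project, file `MC5/Pure.lean` (helper7): from the torus data to the endgames

`mc5_pure_A` (`n ≤ 6`) and `mc5_pure_B` (`n ≥ 7`), statements verbatim from the frozen headers
(notes/S5316_headers.lean.txt, architect helper2); proof = section 5 of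
notes/S5316_chain_helper2.md.  Private names `mc5_pu_*`.
-/

namespace Cfsg.Agent.MC5

open scoped commutatorElement
open Cfsg.Agent.Helper4.MC

universe u
variable {G : Type u} [Group G] [Finite G] {p n : ℕ} [Fact p.Prime]
variable {E : Subgroup G}

/-! ## Generalities on the configuration -/

/-- `Z₃` is not contained in `E` -/
theorem mc5_pu_exists_z (h : Cfg p n G E) : ∃ z ∈ gam G (n - 3), z ∉ E := by
  by_contra hno
  push Not at hno
  have hle : gam G (n - 3) ≤ E := fun z hz => hno z hz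
  have hsup : E ⊔ gam G (n - 3) = E := sup_eq_left.mpr hle
  have h1 : Nat.card E = p ^ 4 := by
    have := h.norm
    rw [← mc5_base_sup h, hsup] at this
    exact this
  rw [h.card] at h1
  exact absurd h1 (ne_of_lt (h.pow_lt (by norm_num)))

omit [Finite G] [Fact p.Prime] in
/-- an element of `N` outside `E` does not centralize `E` -/
theorem mc5_pu_exists_comm (h : Cfg p n G E) {y : G} (hy : y ∉ E) : ∃ e ∈ E, ⁅y, e⁆ ≠ 1 := by
  by_contra hno
  push Not at hno
  apply hy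
  apply h.cent
  intro e he
  have := hno e he
  rw [commutatorElement_eq_one_iff_commute] at this
  exact this

/-- if all commutators `⁅N, E⁆` lie in `Z₁ = gam G (n - 1)`, every element of `Z₁` is such a
commutator. -/
theorem mc5_pu_Z1_surj (h : Cfg p n G E)
    (hc : ∀ y ∈ Subgroup.normalizer (E : Set G), ∀ e ∈ E, ⁅y, e⁆ ∈ gam G (n - 1))
    {a : G} (ha : a ∈ gam G (n - 1)) :
    ∃ y ∈ Subgroup.normalizer (E : Set G), ∃ e ∈ E, a = ⁅y, e⁆ := by
  obtain ⟨y, hy, hyE⟩ := mc5_pu_exists_z h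
  have hyN : y ∈ Subgroup.normalizer (E : Set G) := mc5_base_Z3_le h hy
  obtain ⟨e, he, hne⟩ := mc5_pu_exists_comm h hyE
  have hmem : ⁅y, e⁆ ∈ gam G (n - 1) := hc y hyN e he
  have hcen : ⁅y, e⁆ ∈ Subgroup.center G := by rw [h.mc.center_eq]; exact hmem
  have hcard : Nat.card (gam G (n - 1)) = p := by
    rw [← h.mc.center_eq]; exact h.mc.card_center
  have hne' : (⟨⁅y, e⁆, hmem⟩ : gam G (n - 1)) ≠ 1 := by
    intro h1
    apply hne
    exact congrArg Subtype.val h1
  have hpow := mem_powers_of_prime_card (G := gam G (n - 1)) hcard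
    (g := ⟨⁅y, e⁆, hmem⟩) (g' := ⟨a, ha⟩) hne'
  obtain ⟨k, hk⟩ := hpow
  have hk' : ⁅y, e⁆ ^ k = a := by
    have := congrArg Subtype.val hk
    simpa using this
  refine ⟨y, hyN, e ^ k, E.pow_mem he k, ?_⟩
  have h1 : Commute ⁅y, e⁆ y := (Subgroup.mem_center_iff.mp hcen y).symm
  have h2 : Commute ⁅y, e⁆ e := (Subgroup.mem_center_iff.mp hcen e).symm
  have := mc5_comm_pow_pow h1 h2 1 k
  rw [pow_one, one_mul] at this
  rw [this, hk']

/-- the difference `f z · z^{-l²}` lies in `H` for `z ∈ Z₃` -/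
theorem mc5_pu_h2 (h : Cfg p n G E) {f : G → G} {l l' : ℕ} {d : G}
    (ht : Torus p n E f l l' d) {z : G} (hz : z ∈ gam G (n - 3)) :
    f z * (z ^ (l ^ 2))⁻¹ ∈ E ⊓ gam G (n - 3) :=
  ⟨ht.top z (mc5_base_Z3_le h hz),
    (gam G (n - 3)).mul_mem (ht.z3 z hz) ((gam G (n - 3)).inv_mem ((gam G (n - 3)).pow_mem hz _))⟩

/-- `v ∈ E ∖ H` -/
theorem mc5_pu_exists_v (h : Cfg p n G E) : ∃ v ∈ E, v ∉ gam G (n - 3) := h.exists_e0

/-! ## `n ≤ 6` -/

/-- `n ≤ 6`: the torus automorphism does not extend to `N_G(N)` -/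
theorem mc5_pure_A (h : Cfg p n G E) (hn : n ≤ 6) {f : G → G} {l l' : ℕ} {d : G}
    (ht : Torus p n E f l l' d) (f₁ : G → G)
    (hf₁ : AutOn (Subgroup.normalizer ((Subgroup.normalizer (E : Set G) : Subgroup G) : Set G)) f₁)
    (hext : ∀ s ∈ Subgroup.normalizer (E : Set G), f₁ s = f s) : False := by
  obtain ⟨v, hvE, hvZ⟩ := mc5_pu_exists_v h
  have hEN : E ≤ Subgroup.normalizer (E : Set G) := Subgroup.le_normalizer
  have hZN : gam G (n - 3) ≤ Subgroup.normalizer (E : Set G) := mc5_base_Z3_le h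
  have hdE : d ∈ E := ht.d_mem.1
  have hfd : f₁ d = d := by rw [hext d (hEN hdE)]; exact ht.d_fix
  have hfv : f₁ v = f v := hext v (hEN hvE)
  rcases mc5_base_cases h with ⟨hn5, hN, hH, hc⟩ | ⟨hn6, hexc, hcase⟩
  · -- n = 5
    subst hn5
    have hNN : Subgroup.normalizer ((Subgroup.normalizer (E : Set G) : Subgroup G) : Set G) = ⊤ := by
      rw [hN]
      have hnorm : (lev G 1).Normal := lev_normal 1
      exact Subgroup.normalizer_eq_top_iff.mpr hnorm
    rw [hNN] at hf₁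
    have hc' : ∀ y ∈ Subgroup.normalizer (E : Set G), ∀ e ∈ E, ⁅y, e⁆ ∈ gam G (5 - 1) := hc
    refine mc5_end5 h.hp h.mc f₁ hf₁ l l' ht.ord ht.inv v d ?_ hvZ ?_ ?_ ?_ ?_ hfd ?_
    · rw [← hN]; exact hEN hvE
    · rw [hfv]; exact (ht.quot v hvE).2
    · intro z hz
      rw [hext z (hZN hz), ← hH]
      exact mc5_pu_h2 h ht hz
    · rw [← hH]; exact ht.d_mem
    · intro hd4
      obtain ⟨y, hy, e, he, hde⟩ := mc5_pu_Z1_surj h hc' hd4
      exact ht.d_not y hy e he hde
    · intro a ha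
      obtain ⟨y, hy, e, he, hae⟩ := mc5_pu_Z1_surj h hc' ha
      have haN : a ∈ Subgroup.normalizer (E : Set G) :=
        hZN (gam_anti (show 5 - 3 ≤ 4 by norm_num) ha)
      rw [hext a haN, hae]
      exact ht.a1 y hy e he
  · -- n = 6
    have hn6' : n = 6 := le_antisymm hn hn6
    subst hn6'
    have hNN6 := mc5_base_NN6 h
    rcases hcase with ⟨hEC, hH, hvC⟩ | ⟨hE1, hv2, hZ1, hc⟩
    · -- (II)
      rw [hNN6.2 hEC] at hf₁
      have hvH : v ∉ gam G (6 - 2) := by
        intro hv4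
        rw [← hH] at hv4
        exact hvZ hv4.2
      refine mc5_end6_II h.hp h.mc hexc f₁ hf₁ l l' ht.ord ht.inv v d (hEC hvE) (hvC v hvE hvH)
        ?_ ?_ ?_ ?_ hfd ?_
      · rw [hfv]; exact (ht.quot v hvE).2
      · intro z hz
        rw [hext z (hZN hz)]
        have := mc5_pu_h2 h ht hz
        rw [hH] at this
        exact this
      · have := ht.d_mem
        rw [hH] at this
        exact this
      · intro x hx
        exact ht.d_not x (hZN hx) v hvE
      · intro x hx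
        have hxN : x ∈ Subgroup.normalizer (E : Set G) := hZN hx
        have hcN : ⁅x, v⁆ ∈ Subgroup.normalizer (E : Set G) :=
          hEN (mc5_base_comm_mem h hxN hvE).1
        rw [hext _ hcN]
        exact ht.a1 x hxN v hvE
    · -- (III)
      rw [hNN6.1 hE1] at hf₁
      refine mc5_end6_III h.hp h.mc hexc f₁ hf₁ l l' ht.ord ht.inv v d (hE1 hvE) (hv2 v hvE hvZ)
        (E ⊓ gam G (6 - 3)) inf_le_right (mc5_base_card_H h) ?_ ?_ ?_ ?_ ?_ ht.d_mem ?_ hfd ?_
      · intro c hc'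
        exact h.comm c hc'.1 v hvE
      · exact le_inf hZ1 (gam_anti (by norm_num))
      · intro u hu huv
        have huE : u ∈ E := mc5_base_fact1 h hvE hvZ huv
        refine ⟨huE, ?_⟩
        by_contra hu3
        exact hv2 u huE hu3 hu
      · rw [hfv]; exact (ht.quot v hvE).2
      · intro z hz
        rw [hext z (hZN hz)]
        exact mc5_pu_h2 h ht hz
      · intro hd5
        obtain ⟨y, hy, e, he, hde⟩ := mc5_pu_Z1_surj h hc hd5
        exact ht.d_not y hy e he hde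
      · intro a ha
        obtain ⟨y, hy, e, he, hae⟩ := mc5_pu_Z1_surj h hc ha
        have haN : a ∈ Subgroup.normalizer (E : Set G) := hEN (hZ1 ha)
        rw [hext a haN, hae]
        exact ht.a1 y hy e he

/-! ## `n ≥ 7` -/

/-- `n ≥ 7`: the restriction of the torus automorphism to `Z₃` does not extend to `N g₃` compatibly -/
theorem mc5_pure_B (h : Cfg p n G E) (hn : 7 ≤ n) {f : G → G} {l l' : ℕ} {d : G}
    (ht : Torus p n E f l l' d) (f₂ : G → G)
    (hf₂ : AutOn ((Subgroup.normalizer (E : Set G) : Subgroup G) ⊔ gam G 3) f₂)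
    (hz : ∀ z ∈ gam G (n - 3), f₂ z = f z)
    (hN : ∀ s ∈ Subgroup.normalizer (E : Set G), f₂ s * (f s)⁻¹ ∈ gam G 3) : False := by
  obtain ⟨v, hvE, hvZ⟩ := mc5_pu_exists_v h
  have hEN : E ≤ Subgroup.normalizer (E : Set G) := Subgroup.le_normalizer
  have hZN : gam G (n - 3) ≤ Subgroup.normalizer (E : Set G) := mc5_base_Z3_le h
  have hdE : d ∈ E := ht.d_mem.1
  have hfd : f₂ d = d := by rw [hz d ht.d_mem.2]; exact ht.d_fix
  rcases mc5_base_cases h with ⟨hn5, -⟩ | ⟨hn6, hexc, hcase⟩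
  · omega
  obtain ⟨heven, -⟩ := mc5_exc_even h.mc h.hn hexc
  have hn8 : 8 ≤ n := by
    rcases heven with ⟨k, hk⟩
    omega
  rw [mc5_base_R h hn6 hvE hvZ] at hf₂
  have hZ3 : gam G (n - 3) ≤ gam G 3 := gam_anti (by omega)
  have h1 : f₂ v * (v ^ l')⁻¹ ∈ gam G 3 := by
    have e1 : f₂ v * (v ^ l')⁻¹ = (f₂ v * (f v)⁻¹) * (f v * (v ^ l')⁻¹) := by group
    rw [e1]
    exact (gam G 3).mul_mem (hN v (hEN hvE)) (hZ3 (ht.quot v hvE).2)
  rcases hcase with ⟨hEC, hH, hvC⟩ | ⟨hE1, hv2, hZ1, hc⟩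
  · -- (II)
    have hvH : v ∉ gam G (n - 2) := by
      intro hv4
      rw [← hH] at hv4
      exact hvZ hv4.2
    refine mc5_end8_II h.hp h.mc hn8 hexc v d f₂ hf₂ l l' ht.ord ht.inv (hEC hvE)
      (hvC v hvE hvH) h1 ?_ ?_ ?_ hfd ?_
    · intro z hz'
      rw [hz z hz']
      have := mc5_pu_h2 h ht hz'
      rw [hH] at this
      exact this
    · have := ht.d_mem
      rw [hH] at this
      exact this
    · intro x hx
      exact ht.d_not x (hZN hx) v hvE
    · intro x hx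
      have hxN : x ∈ Subgroup.normalizer (E : Set G) := hZN hx
      rw [hz _ (mc5_base_comm_mem h hxN hvE).2]
      exact ht.a1 x hxN v hvE
  · -- (III)
    refine mc5_end8_III h.hp h.mc hn8 hexc v d f₂ hf₂ l l' ht.ord ht.inv (hE1 hvE)
      (hv2 v hvE hvZ) (E ⊓ gam G (n - 3)) inf_le_right (mc5_base_card_H h) ?_ ?_ ?_ h1 ?_
      ht.d_mem ?_ hfd ?_
    · intro c hc'
      exact h.comm c hc'.1 v hvE
    · exact le_inf hZ1 (gam_anti (by omega))
    · intro u hu huv
      have huE : u ∈ E := mc5_base_fact1 h hvE hvZ huv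
      refine ⟨huE, ?_⟩
      by_contra hu3
      exact hv2 u huE hu3 hu
    · intro z hz'
      rw [hz z hz']
      exact mc5_pu_h2 h ht hz'
    · intro hd5
      obtain ⟨y, hy, e, he, hde⟩ := mc5_pu_Z1_surj h hc hd5
      exact ht.d_not y hy e he hde
    · intro a ha
      obtain ⟨y, hy, e, he, hae⟩ := mc5_pu_Z1_surj h hc ha
      have haZ : a ∈ gam G (n - 3) := gam_anti (by omega) ha
      rw [hz a haZ, hae]
      exact ht.a1 y hy e he

end Cfsg.Agent.MC5
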