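import Mathlib
import Cfsg.Prelude.Def_FusionSystem
import Cfsg.Agent.MC5.GlueF
import Cfsg.Agent.MC5.Pure
import Cfsg.Agent.MC5.GlueH
import Cfsg.Agent.MC5.Fus
import Cfsg.Agent.MC5.Blackburn
import Cfsg.Agent.Lead.FusionRestrict

set_option autoImplicit false
set_option linter.unusedVariables false
set_option linter.style.haveILetI false

/-!
# S5316 project, glue part G: stage 3b, `7 ≤ n`
-/

namespace Cfsg.Agent.MC5

open scoped commutatorElement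
open Cfsg Cfsg.FusionSystem Cfsg.Agent.Lead Cfsg.Agent.Helper4.MC

variable {Ω : Type*} [Group Ω] {S : Subgroup Ω}

theorem mc5Fun_mul (R : Subgroup Ω) (ψ : ↥R →* Ω) (hψS : ∀ x, ψ x ∈ S) {s t : ↥S}
    (hs : (s : Ω) ∈ R) (ht : (t : Ω) ∈ R) :
    mc5Fun R ψ hψS (s * t) = mc5Fun R ψ hψS s * mc5Fun R ψ hψS t := by
  apply Subtype.ext
  have hst : ((s * t : ↥S) : Ω) ∈ R := R.mul_mem hs ht
  rw [mc5Fun_apply R ψ hψS _ hst]
  have h1 : ((mc5Fun R ψ hψS s * mc5Fun R ψ hψS t : ↥S) : Ω) = ψ ⟨s, hs⟩ * ψ ⟨t, ht⟩ := by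
    rw [Subgroup.coe_mul, mc5Fun_apply R ψ hψS s hs, mc5Fun_apply R ψ hψS t ht]
  rw [h1, ← map_mul]
  rfl

theorem mc5Fun_eq_one (R : Subgroup Ω) (ψ : ↥R →* Ω) (hψS : ∀ x, ψ x ∈ S)
    (hinj : Function.Injective ψ) {s : ↥S} (hs : (s : Ω) ∈ R) (h1 : mc5Fun R ψ hψS s = 1) :
    s = 1 := by
  have h2 := congrArg (Subtype.val : ↥S → Ω) h1
  rw [mc5Fun_apply R ψ hψS s hs, Subgroup.coe_one, ← map_one ψ] at h2
  have h3 := hinj h2
  apply Subtype.ext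
  exact congrArg (Subtype.val : ↥R → Ω) h3

/-- Stage 3b: `7 ≤ n` is impossible. -/
theorem mc5_glue_stage3b [Finite S] (p : ℕ) [hp : Fact p.Prime] (hp5 : 5 ≤ p) (hS : IsPGroup p ↥S)
    (n : ℕ) (hn : Nat.card S = p ^ n) (h5 : 5 ≤ n)
    (hmax : Subgroup.lowerCentralSeries S (n - 2) ≠ ⊥) (F : FusionSystem S)
    (hF : F.IsSaturated p) (E : Subgroup Ω) (hE : F.IsEssential p E)
    (hEA : Cfsg.IsElementaryAbelian p E) (hEc : Nat.card E = p ^ 3) (h7 : 7 ≤ n) : False := by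
  have hpp := hp.out
  have hES : E ≤ S := hE.1.1
  have hNS : normalizerIn S E ≤ S := mc5_normalizerIn_le S E
  have hcfg := mc5_glue_cfg p hp5 hS n hn h5 hmax F hF E hE hEA hEc
  have hG := hcfg.mc
  obtain ⟨γ, l, l', d, hγ, ht⟩ := mc5_glue_Torus p hp5 hS n hn h5 hmax F hF E hE hEA hEc
  set E' : Subgroup ↥S := E.subgroupOf S with hE'
  set N' : Subgroup ↥S := Subgroup.normalizer ((E' : Subgroup ↥S) : Set ↥S) with hN'
  set f : ↥S → ↥S := mc5FunAut F hNS γ with hf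
  have hfN : AutOn N' f := ht.aut
  -- exceptional
  have hexc : twoStep ↥S (n - 2) ≠ twoStep ↥S 2 := by
    rcases mc5_base_cases hcfg with ⟨h, -⟩ | ⟨-, h, -⟩
    · omega
    · exact h
  have hcen := mc5_exc_centralizer hG (by omega) hexc
  -- `Z₃`
  set Z' : Subgroup ↥S := gam ↥S (n - 3) with hZ'
  haveI hZ'n : Z'.Normal := gam_normal (n - 3)
  haveI hg3n : (gam ↥S 3).Normal := gam_normal 3
  set Z : Subgroup Ω := Z'.map S.subtype with hZ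
  have hZS : Z ≤ S := mc5_map_le Z'
  have hZ'N' : Z' ≤ N' := mc5_base_Z3_le hcfg
  have hZnorm : S ≤ Subgroup.normalizer (Z : Set Ω) := mc5_normal_map_normalizer Z'
  have hZfn := mc5_fullyNormalized_of_normal F hZS hZnorm
  have hZfc := (Fusion.fullyCentralized_fullyAutomized_of_fullyNormalized p hS F hF hZfn).1
  have hZrec := Fusion.receptive_of_fullyCentralized p hS F hF hZfc
  have hZN : Z ≤ normalizerIn S E := by
    rintro _ ⟨z, hz, rfl⟩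
    exact (mc5_glue_mem_normalizer hES z).1 (hZ'N' hz)
  haveI : Finite Z := Fusion.finite_of_le hZS
  have hfval : ∀ (s : ↥S) (hs : (s : Ω) ∈ normalizerIn S E),
      ((f s : ↥S) : Ω) = ((γ ⟨s, hs⟩ : ↥(normalizerIn S E)) : Ω) :=
    fun s hs => mc5FunAut_apply F hNS γ s hs
  obtain ⟨θ, hθ, hθx⟩ := Fusion.exists_restrict_aut F hNS hZN γ hγ (by
    intro x hx
    obtain ⟨z, hz, hzx⟩ := hx
    have h1 := ht.z3 z hz
    have h2 : (⟨(z : Ω), hZN ⟨z, hz, rfl⟩⟩ : ↥(normalizerIn S E)) = x := Subtype.ext hzx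
    rw [← h2, ← hfval z]
    exact ⟨f z, h1, rfl⟩)
  -- the subgroup `R = N g₃`
  set R' : Subgroup ↥S := N' ⊔ gam ↥S 3 with hR'
  set R : Subgroup Ω := R'.map S.subtype with hR
  have hN'R' : N' ≤ R' := le_sup_left
  have hg3R' : gam ↥S 3 ≤ R' := le_sup_right
  have hZR : Z ≤ R := Subgroup.map_mono (hZ'N'.trans hN'R')
  have hRS : R ≤ S := mc5_map_le R'
  have hcommZ : ∀ c ∈ gam ↥S 3, ∀ z ∈ Z', c * z = z * c := by
    intro c hc z hz
    have h1 := comm_mem_gam (G := ↥S) (i := 3) (j := n - 3) (by omega) (by omega) hc hz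
    rw [hG.gam_eq_bot (by omega), Subgroup.mem_bot, commutatorElement_eq_one_iff_mul_comm] at h1
    exact h1
  obtain ⟨ψ, hψ, hψx⟩ := mc5_fus_extend F hZrec θ hθ R hZR (by
    intro g hg
    have hgS : g ∈ S := hRS hg
    refine ⟨hgS, hZnorm hgS, ?_⟩
    obtain ⟨s, hs, rfl⟩ := hg
    obtain ⟨a, ha, c, hc, rfl⟩ := Subgroup.mem_sup_of_normal_right.1 hs
    have haN : (a : Ω) ∈ normalizerIn S E := (mc5_glue_mem_normalizer hES a).1 ha
    refine ⟨((γ ⟨a, haN⟩ : ↥(normalizerIn S E)) : Ω), hNS (γ ⟨a, haN⟩).2, ?_⟩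
    intro x hx
    obtain ⟨z, hz, hzx⟩ := x.2
    have hxe : x = ⟨(z : Ω), ⟨z, hz, rfl⟩⟩ := Subtype.ext hzx.symm
    subst hxe
    rw [hθx, hθx]
    have h1 : (a * c) * z * (a * c)⁻¹ = a * z * a⁻¹ := by
      have := hcommZ c hc z hz
      calc (a * c) * z * (a * c)⁻¹ = a * (c * z) * c⁻¹ * a⁻¹ := by group
        _ = a * (z * c) * c⁻¹ * a⁻¹ := by rw [this]
        _ = a * z * a⁻¹ := by group
    have h2 : (⟨S.subtype (a * c) * (z : Ω) * (S.subtype (a * c))⁻¹, hZN hx⟩ :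
        ↥(normalizerIn S E)) = ⟨a, haN⟩ * ⟨(z : Ω), hZN ⟨z, hz, rfl⟩⟩ * ⟨a, haN⟩⁻¹ := by
      apply Subtype.ext
      have := congrArg (Subtype.val : ↥S → Ω) h1
      simpa using this
    rw [h2, map_mul, map_mul, map_inv]
    rfl)
  have hψS : ∀ x, ψ x ∈ S := fun x => Fusion.map_mem F hψ x
  have hψinj := F.injective_of_mem hψ
  set g₂ : ↥S → ↥S := mc5Fun R ψ hψS with hg₂
  have hmemR : ∀ s : ↥S, s ∈ R' → (s : Ω) ∈ R := fun s hs => ⟨s, hs, rfl⟩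
  have hg₂mul : ∀ s ∈ R', ∀ t ∈ R', g₂ (s * t) = g₂ s * g₂ t :=
    fun s hs t ht' => mc5Fun_mul R ψ hψS (hmemR s hs) (hmemR t ht')
  have hg₂Z : ∀ z ∈ Z', g₂ z = f z := by
    intro z hz
    apply Subtype.ext
    have hzZ : (z : Ω) ∈ Z := ⟨z, hz, rfl⟩
    rw [hg₂, mc5Fun_apply R ψ hψS z (hZR hzZ), hψx (z : Ω) hzZ, hθx, hfval z (hZN hzZ)]
  have hfsurj : ∀ z ∈ Z', ∃ z₀ ∈ Z', f z₀ = z := by
    intro z hz
    haveI : Finite Z' := Subgroup.instFiniteSubtypeMem Z'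
    exact hfN.surjOn hZ'N' ht.z3 hz
  -- (A)
  have hA : ∀ c ∈ gam ↥S 3, g₂ c ∈ gam ↥S 3 := by
    intro c hc
    rw [← hcen, Subgroup.mem_centralizer_iff]
    intro z hz
    obtain ⟨z₀, hz₀, rfl⟩ := hfsurj z hz
    rw [← hg₂Z z₀ hz₀, ← hg₂mul z₀ (hN'R' (hZ'N' hz₀)) c (hg3R' hc),
      ← hg₂mul c (hg3R' hc) z₀ (hN'R' (hZ'N' hz₀)), hcommZ c hc z₀ hz₀]
  -- (B)
  have hB : ∀ a ∈ N', g₂ a * (f a)⁻¹ ∈ gam ↥S 3 := by
    intro a ha
    have hu : (f a)⁻¹ * g₂ a ∈ gam ↥S 3 := by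
      rw [← hcen, Subgroup.mem_centralizer_iff]
      intro z hz
      obtain ⟨z₀, hz₀, rfl⟩ := hfsurj z hz
      have hconj : a * z₀ * a⁻¹ ∈ Z' := hZ'n.conj_mem z₀ hz₀ a
      have e1 : g₂ a * f z₀ = f (a * z₀ * a⁻¹) * g₂ a := by
        rw [← hg₂Z z₀ hz₀, ← hg₂Z _ hconj, ← hg₂mul a (hN'R' ha) z₀ (hN'R' (hZ'N' hz₀)),
          ← hg₂mul _ (hN'R' (hZ'N' hconj)) a (hN'R' ha)]
        congr 1
        group
      have e2 : f (a * z₀ * a⁻¹) * f a = f a * f z₀ := by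
        rw [← hfN.mul _ (hZ'N' hconj) a ha, ← hfN.mul a ha z₀ (hZ'N' hz₀)]
        congr 1
        group
      have e3 : f (a * z₀ * a⁻¹) = f a * f z₀ * (f a)⁻¹ := by
        rw [← e2]; group
      rw [e3] at e1
      calc f z₀ * ((f a)⁻¹ * g₂ a) = (f a)⁻¹ * (f a * f z₀ * (f a)⁻¹ * g₂ a) := by group
        _ = (f a)⁻¹ * (g₂ a * f z₀) := by rw [e1]
        _ = (f a)⁻¹ * g₂ a * f z₀ := by group
    have := hg3n.conj_mem _ hu (f a)
    have e : f a * ((f a)⁻¹ * g₂ a) * (f a)⁻¹ = g₂ a * (f a)⁻¹ := by group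
    rwa [e] at this
  -- (C), (D)
  have hAut : AutOn R' g₂ := by
    refine ⟨?_, hg₂mul, ?_⟩
    · intro s hs
      obtain ⟨a, ha, c, hc, rfl⟩ := Subgroup.mem_sup_of_normal_right.1 hs
      rw [hg₂mul a (hN'R' ha) c (hg3R' hc)]
      have e : g₂ a * g₂ c = (g₂ a * (f a)⁻¹) * f a * g₂ c := by group
      rw [e]
      exact R'.mul_mem (R'.mul_mem (hg3R' (hB a ha)) (hN'R' (hfN.mem a ha))) (hg3R' (hA c hc))
    · intro s hs h1
      exact mc5Fun_eq_one R ψ hψS hψinj (hmemR s hs) h1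
  exact mc5_pure_B hcfg h7 ht g₂ hAut hg₂Z hB

end Cfsg.Agent.MC5
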