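import Mathlib
import Cfsg.Prelude.Def_FusionSystem
import Cfsg.Agent.MC5.GlueF
import Cfsg.Agent.MC5.Pure
import Cfsg.Agent.MC5.GlueH
import Cfsg.Agent.MC5.Fus

set_option autoImplicit false
set_option linter.unusedVariables false
set_option linter.style.haveILetI false

/-!
# S5316 project, glue part I: stage 3a, `n ≤ 6`
-/

namespace Cfsg.Agent.MC5

open scoped commutatorElement
open Cfsg Cfsg.FusionSystem Cfsg.Agent.Lead Cfsg.Agent.Helper4.MC

variable {Ω : Type*} [Group Ω] {S : Subgroup Ω}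

/-- a chain of length `4` -/
def mc5Chain5 {X : Type*} (a0 a1 a2 a3 a4 : X) : ℕ → X
  | 0 => a0
  | 1 => a1
  | 2 => a2
  | 3 => a3
  | _ => a4

theorem mc5_card_comap_inclusion {P : Subgroup Ω} (hPS : P ≤ S) (A' : Subgroup ↥S)
    (hA : A' ≤ P.subgroupOf S) :
    Nat.card (A'.comap (Subgroup.inclusion hPS)) = Nat.card A' := by
  rw [← Subgroup.card_map_of_injective (Subgroup.inclusion_injective hPS)]
  congr 2
  ext s
  constructor
  · rintro ⟨x, hx, rfl⟩
    exact hx
  · intro hs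
    have h1 := hA hs
    rw [Subgroup.mem_subgroupOf] at h1
    exact ⟨⟨s, h1⟩, hs, rfl⟩

theorem mc5_comap_normal_of_central {P : Subgroup Ω} (hPS : P ≤ S) (A' : Subgroup ↥S)
    (hc : ∀ a ∈ A', ∀ y ∈ P.subgroupOf S, Commute a y) :
    (A'.comap (Subgroup.inclusion hPS)).Normal := by
  constructor
  intro a ha g
  rw [Subgroup.mem_comap] at ha ⊢
  have hg : Subgroup.inclusion hPS g ∈ P.subgroupOf S := by
    rw [Subgroup.mem_subgroupOf]
    exact g.2
  have h1 := hc _ ha _ hg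
  rw [map_mul, map_mul, map_inv]
  have e : Subgroup.inclusion hPS g * Subgroup.inclusion hPS a * (Subgroup.inclusion hPS g)⁻¹ =
      Subgroup.inclusion hPS a := by
    rw [← h1.eq]; group
  rw [e]
  exact ha

/-- Stage 3a: `n ≤ 6` is impossible. -/
theorem mc5_glue_stage3a [Finite S] (p : ℕ) [hp : Fact p.Prime] (hp5 : 5 ≤ p) (hS : IsPGroup p ↥S)
    (n : ℕ) (hn : Nat.card S = p ^ n) (h5 : 5 ≤ n)
    (hmax : Subgroup.lowerCentralSeries S (n - 2) ≠ ⊥) (F : FusionSystem S)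
    (hF : F.IsSaturated p) (E : Subgroup Ω) (hE : F.IsEssential p E)
    (hEA : Cfsg.IsElementaryAbelian p E) (hEc : Nat.card E = p ^ 3) (hn6 : n ≤ 6) : False := by
  have hpp := hp.out
  have hES : E ≤ S := hE.1.1
  have hNS : normalizerIn S E ≤ S := mc5_normalizerIn_le S E
  have hcfg := mc5_glue_cfg p hp5 hS n hn h5 hmax F hF E hE hEA hEc
  have hG := hcfg.mc
  obtain ⟨γ, l, l', d, hγ, ht⟩ := mc5_glue_Torus p hp5 hS n hn h5 hmax F hF E hE hEA hEc
  set E' : Subgroup ↥S := E.subgroupOf S with hE'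
  set N' : Subgroup ↥S := Subgroup.normalizer ((E' : Subgroup ↥S) : Set ↥S) with hN'
  set f : ↥S → ↥S := mc5FunAut F hNS γ with hf
  have hNsub : (normalizerIn S E).subgroupOf S = N' := mc5_glue_subgroupOf_normalizerIn hES
  have hNcard : Nat.card (normalizerIn S E) = p ^ 4 :=
    mc5_glue_card_normalizerIn p hS F hF E hE hEA hEc
  have hfn := mc5_glue_N_fn p hp5 hS n hn h5 hmax F hF E hE hEA hEc hn6
  obtain ⟨hfc, hfa⟩ := Fusion.fullyCentralized_fullyAutomized_of_fullyNormalized p hS F hF hfn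
  have hrec := Fusion.receptive_of_fullyCentralized p hS F hF hfc
  -- the chain
  set ι : ↥(normalizerIn S E) →* ↥S := Subgroup.inclusion hNS with hι
  set C' : Subgroup ↥S := ⁅N', N'⁆ with hC'
  set H' : Subgroup ↥S := E' ⊓ gam ↥S (n - 3) with hH'
  set Z' : Subgroup ↥S := gam ↥S (n - 3) with hZ'
  haveI hZ'n : Z'.Normal := gam_normal (n - 3)
  have hC'H' : C' ≤ H' := mc5_base_comm_le hcfg
  have hH'Z' : H' ≤ Z' := inf_le_right
  have hZ'N' : Z' ≤ N' := mc5_base_Z3_le hcfg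
  have hH'c : ∀ a ∈ H', ∀ y ∈ (normalizerIn S E).subgroupOf S, Commute a y := by
    intro a ha y hy
    rw [hNsub] at hy
    exact mc5_base_H_central hcfg ha hy
  set K : ℕ → Subgroup ↥(normalizerIn S E) :=
    mc5Chain5 ⊥ (C'.comap ι) (H'.comap ι) (Z'.comap ι) ⊤ with hK
  have hK0 : K 0 = ⊥ := rfl
  have hK1 : K 1 = C'.comap ι := rfl
  have hK2 : K 2 = H'.comap ι := rfl
  have hK3 : K 3 = Z'.comap ι := rfl
  have hK4 : K 4 = ⊤ := rfl
  have hmono : ∀ i < 4, K i ≤ K (i + 1) := by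
    intro i hi
    interval_cases i
    · rw [hK0]; exact bot_le
    · rw [hK1, hK2]; exact Subgroup.comap_mono hC'H'
    · rw [hK2, hK3]; exact Subgroup.comap_mono hH'Z'
    · rw [hK3, hK4]; exact le_top
  have hcard : ∀ i ≤ 4, Nat.card (K i) = p ^ i := by
    intro i hi
    interval_cases i
    · rw [hK0, Subgroup.card_bot, pow_zero]
    · rw [hK1, mc5_card_comap_inclusion hNS C' (by rw [hNsub]; exact hC'H'.trans (hH'Z'.trans hZ'N')),
        pow_one]
      exact mc5_base_card_comm hcfg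
    · rw [hK2, mc5_card_comap_inclusion hNS H' (by rw [hNsub]; exact hH'Z'.trans hZ'N')]
      exact mc5_base_card_H hcfg
    · rw [hK3, mc5_card_comap_inclusion hNS Z' (by rw [hNsub]; exact hZ'N'),
        hG.card_gam (by omega) (by omega)]
      congr 1
      omega
    · rw [hK4, Subgroup.card_top, hNcard]
  have hnorm : ∀ i ≤ 4, (K i).Normal := by
    intro i hi
    interval_cases i
    · rw [hK0]; infer_instance
    · rw [hK1]
      exact mc5_comap_normal_of_central hNS C' (fun a ha => hH'c a (hC'H' ha))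
    · rw [hK2]
      exact mc5_comap_normal_of_central hNS H' hH'c
    · rw [hK3]
      exact hZ'n.comap ι
    · rw [hK4]; infer_instance
  have hinv : ∀ φ ∈ F.autGroup (normalizerIn S E), ∀ i ≤ 4, ∀ y ∈ K i, φ y ∈ K i := by
    intro φ hφ i hi y hy
    have hA := mc5_glue_autOn_N F hES φ
    have hιφ : ι (φ y) = mc5FunAut F hNS φ (ι y) := by
      apply Subtype.ext
      rw [mc5FunAut_apply F hNS φ (ι y) y.2]
      rfl
    interval_cases i
    · rw [hK0, Subgroup.mem_bot] at hy ⊢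
      rw [hy, map_one]
    · rw [hK1, Subgroup.mem_comap] at hy ⊢
      rw [hιφ]
      exact hA.inv_commutator le_rfl le_rfl hA.mem hA.mem _ hy
    · rw [hK2, Subgroup.mem_comap] at hy ⊢
      rw [hιφ]
      exact mc5_glue_H_inv hcfg hA _ hy
    · rw [hK3, Subgroup.mem_comap] at hy ⊢
      rw [hιφ]
      exact mc5_glue_Z3_inv p hp5 hS n hn h5 hmax F hF E hE hEA hEc φ hφ _ hy
    · rw [hK4]; exact Subgroup.mem_top _
  have hnormal := mc5_fus_autS_normal p hS F hfa 4 K hmono hK0 hK4 hcard hnorm hinv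
  obtain ⟨γ₁, hγ₁, hγ₁x⟩ :=
    Fusion.exists_aut_normalizerIn_extension F hrec γ hγ (hnormal γ hγ)
  set f₁ : ↥S → ↥S := mc5FunAut F (mc5_normalizerIn_le S (normalizerIn S E)) γ₁ with hf₁def
  have hf₁ : AutOn (Subgroup.normalizer ((N' : Subgroup ↥S) : Set ↥S)) f₁ := by
    have := mc5_glue_autOn_N F hNS γ₁
    rwa [hNsub] at this
  have hext : ∀ s ∈ N', f₁ s = f s := by
    intro s hs
    apply Subtype.ext
    have hsN : (s : Ω) ∈ normalizerIn S E := (mc5_glue_mem_normalizer hES s).1 hs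
    have hsNN : (s : Ω) ∈ normalizerIn S (normalizerIn S E) := Fusion.le_normalizerIn hNS hsN
    rw [hf₁def, hf, mc5FunAut_apply F _ γ₁ s hsNN, mc5FunAut_apply F hNS γ s hsN]
    exact hγ₁x ⟨s, hsN⟩
  exact mc5_pure_A hcfg hn6 ht f₁ hf₁ hext

end Cfsg.Agent.MC5
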