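import Mathlib

set_option autoImplicit false

/-!
# S5316 (project MC5), the linear step

`E` elementary abelian of order `p ^ 3` (`p` odd), `A ≤ Aut(E)` with a strongly `p`-embedded subgroup `M`
(classical form) containing a Sylow `p`-subgroup `T` of `A`.  Then `|T| ≤ p` (`mc5_lin`).

For `t ∈ Aut(E)`: `mc5Fix t = C_E(t)`, `mc5Mov t = [E,t]` (the image of `e ↦ e⁻¹ t(e)`).
-/

namespace Cfsg.Agent.MC5

variable {E : Type*} [CommGroup E]

/-- `e ↦ e⁻¹ t(e)`, a homomorphism since `E` is commutative. -/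
def mc5D (t : MulAut E) : E →* E where
  toFun e := e⁻¹ * t e
  map_one' := by simp
  map_mul' a b := by
    rw [map_mul, mul_inv]
    exact mul_mul_mul_comm _ _ _ _

theorem mc5D_apply (t : MulAut E) (e : E) : mc5D t e = e⁻¹ * t e := rfl

/-- `C_E(t)`. -/
def mc5Fix (t : MulAut E) : Subgroup E := (mc5D t).ker

/-- `[E,t]`. -/
def mc5Mov (t : MulAut E) : Subgroup E := (mc5D t).range

theorem mem_mc5Fix {t : MulAut E} {e : E} : e ∈ mc5Fix t ↔ t e = e := by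
  unfold mc5Fix
  rw [MonoidHom.mem_ker, mc5D_apply, inv_mul_eq_one]
  exact eq_comm

theorem mc5D_mem_mov (t : MulAut E) (e : E) : e⁻¹ * t e ∈ mc5Mov t := ⟨e, rfl⟩

theorem apply_eq_mul_mc5D (t : MulAut E) (e : E) : t e = e * mc5D t e := by
  rw [mc5D_apply, mul_inv_cancel_left]

theorem mc5Fix_one : mc5Fix (1 : MulAut E) = ⊤ := by
  rw [eq_top_iff]
  intro e _
  exact mem_mc5Fix.mpr rfl

theorem eq_one_of_mc5Fix_eq_top {t : MulAut E} (h : mc5Fix t = ⊤) : t = 1 := by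
  ext e
  have : e ∈ mc5Fix t := by rw [h]; exact Subgroup.mem_top e
  exact mem_mc5Fix.mp this

theorem card_mc5Fix_mul_card_mc5Mov [Finite E] (t : MulAut E) :
    Nat.card (mc5Fix t) * Nat.card (mc5Mov t) = Nat.card E := by
  unfold mc5Fix mc5Mov
  rw [← Subgroup.index_ker]
  exact Subgroup.card_mul_index _

theorem mem_mc5Fix_conj {g t : MulAut E} {e : E} :
    e ∈ mc5Fix (g * t * g⁻¹) ↔ g⁻¹ e ∈ mc5Fix t := by
  rw [mem_mc5Fix, mem_mc5Fix]
  constructor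
  · intro h
    have h1 : g (t (g⁻¹ e)) = e := h
    have h2 := congrArg (g⁻¹ : MulAut E) h1
    simpa using h2
  · intro h
    show g (t (g⁻¹ e)) = e
    rw [h]
    simp

theorem mem_mc5Mov_conj {g t : MulAut E} {e : E} :
    e ∈ mc5Mov (g * t * g⁻¹) ↔ g⁻¹ e ∈ mc5Mov t := by
  constructor
  · rintro ⟨x, rfl⟩
    refine ⟨g⁻¹ x, ?_⟩
    rw [mc5D_apply, mc5D_apply, map_mul, map_inv]
    show (g⁻¹ x)⁻¹ * t (g⁻¹ x) = (g⁻¹ x)⁻¹ * g⁻¹ (g (t (g⁻¹ x)))
    rw [MulAut.inv_apply_self]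
  · rintro ⟨x, hx⟩
    refine ⟨g x, ?_⟩
    rw [mc5D_apply] at hx ⊢
    show (g x)⁻¹ * g (t (g⁻¹ (g x))) = e
    rw [MulAut.inv_apply_self, ← map_inv, ← map_mul, hx, MulAut.apply_inv_self]

theorem card_mc5Fix_conj [Finite E] (g t : MulAut E) :
    Nat.card (mc5Fix (g * t * g⁻¹)) = Nat.card (mc5Fix t) := by
  have h : mc5Fix (g * t * g⁻¹) = (mc5Fix t).map g.toMonoidHom := by
    ext e
    rw [mem_mc5Fix_conj, Subgroup.mem_map]
    constructor
    · intro h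
      exact ⟨g⁻¹ e, h, by simp⟩
    · rintro ⟨x, hx, rfl⟩
      show g⁻¹ (g x) ∈ _
      rwa [MulAut.inv_apply_self]
  rw [h]
  exact Subgroup.card_map_of_injective g.injective

theorem card_mc5Mov_conj [Finite E] (g t : MulAut E) :
    Nat.card (mc5Mov (g * t * g⁻¹)) = Nat.card (mc5Mov t) := by
  have h1 := card_mc5Fix_mul_card_mc5Mov (g * t * g⁻¹)
  have h2 := card_mc5Fix_mul_card_mc5Mov t
  rw [card_mc5Fix_conj, ← h2] at h1
  exact Nat.eq_of_mul_eq_mul_left Nat.card_pos h1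

/-- `t` maps `[E,t]` into itself. -/
theorem apply_mem_mc5Mov {t : MulAut E} {n : E} (hn : n ∈ mc5Mov t) : t n ∈ mc5Mov t := by
  obtain ⟨x, rfl⟩ := hn
  refine ⟨t x, ?_⟩
  rw [mc5D_apply, mc5D_apply, map_mul, map_inv]

/-- A subgroup of prime order lies in every subgroup containing one of its nontrivial elements. -/
theorem mc5_le_of_mem (p : ℕ) [Fact p.Prime] {H K : Subgroup E} (hH : Nat.card H = p) {e : E}
    (heH : e ∈ H) (he1 : e ≠ 1) (heK : e ∈ K) : H ≤ K := by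
  intro m hm
  have hne : (⟨e, heH⟩ : H) ≠ 1 := fun h => he1 (congrArg Subtype.val h)
  have hmem : (⟨m, hm⟩ : H) ∈ Subgroup.zpowers (⟨e, heH⟩ : H) := mem_zpowers_of_prime_card hH hne
  obtain ⟨j, hj⟩ := hmem
  have hj' : e ^ j = m := by
    have := congrArg Subtype.val hj
    simpa using this
  rw [← hj']
  exact K.zpow_mem heK j

/-- If `t e = e n` and `t n = n` then `t ^ k e = e n ^ k`. -/
theorem mc5_iter {t : MulAut E} {e n : E} (h1 : t e = e * n) (h2 : t n = n) (k : ℕ) :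
    (t ^ k) e = e * n ^ k := by
  induction k with
  | zero => simp
  | succ k ih =>
    rw [pow_succ', MulAut.mul_apply, ih, map_mul, map_pow, h1, h2, pow_succ', mul_assoc]

/-- (K3) a `p`-element whose commutator `[E,t]` has order `p` centralizes it. -/
theorem mc5Mov_le_mc5Fix (p : ℕ) [Fact p.Prime] {t : MulAut E} {k : ℕ}
    (htk : t ^ p ^ k = 1) (hmov : Nat.card (mc5Mov t) = p) : mc5Mov t ≤ mc5Fix t := by
  intro n hn
  rw [mem_mc5Fix]
  by_cases hn1 : n = 1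
  · rw [hn1, map_one]
  have hne : (⟨n, hn⟩ : mc5Mov t) ≠ 1 := fun h => hn1 (congrArg Subtype.val h)
  have hgen : (⟨t n, apply_mem_mc5Mov hn⟩ : mc5Mov t) ∈ Submonoid.powers (⟨n, hn⟩ : mc5Mov t) :=
    mem_powers_of_prime_card hmov hne
  obtain ⟨j, hj⟩ := hgen
  have hj' : t n = n ^ j := by
    have := congrArg Subtype.val hj
    simpa using this.symm
  have hiter : ∀ i : ℕ, (t ^ i) n = n ^ (j ^ i) := by
    intro i
    induction i with
    | zero => simp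
    | succ i ih =>
      rw [pow_succ', MulAut.mul_apply, ih, map_pow, hj', ← pow_mul, pow_succ']
  have h1 : n ^ (j ^ p ^ k) = n ^ 1 := by
    rw [← hiter, htk, pow_one]
    rfl
  have hord : orderOf n = p := by
    have hdvd : orderOf n ∣ p := by
      have h := orderOf_dvd_natCard (⟨n, hn⟩ : mc5Mov t)
      rw [hmov] at h
      rwa [Subgroup.orderOf_mk] at h
    rcases (Nat.dvd_prime (Fact.out : p.Prime)).mp hdvd with h | h
    · exact absurd (orderOf_eq_one_iff.mp h) hn1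
    · exact h
  rw [pow_eq_pow_iff_modEq, hord] at h1
  have h2 : ((j ^ p ^ k : ℕ) : ZMod p) = ((1 : ℕ) : ZMod p) :=
    (ZMod.natCast_eq_natCast_iff _ _ _).mpr h1
  rw [Nat.cast_pow, ZMod.pow_card_pow] at h2
  have h3 : j ≡ 1 [MOD p] := (ZMod.natCast_eq_natCast_iff _ _ _).mp h2
  rw [hj']
  have h4 : n ^ j = n ^ 1 := by
    rw [pow_eq_pow_iff_modEq, hord]
    exact h3
  rw [h4, pow_one]

/-- (F0) a `p`-group of automorphisms of a nontrivial `p`-group has a nontrivial common fixed point. -/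
theorem mc5_common_fixed [Finite E] (p : ℕ) [Fact p.Prime] (hcard : p ∣ Nat.card E)
    {T : Subgroup (MulAut E)} (hT : IsPGroup p T) : ∃ b : E, b ≠ 1 ∧ ∀ t ∈ T, t b = b := by
  have h1 : (1 : E) ∈ MulAction.fixedPoints T E := by
    intro t
    rw [Subgroup.smul_def, MulAut.smul_def, map_one]
  obtain ⟨b, hb, hne⟩ := hT.exists_fixed_point_of_prime_dvd_card_of_fixed_point E hcard h1
  refine ⟨b, hne.symm, fun t ht => ?_⟩
  have := hb ⟨t, ht⟩
  rwa [Subgroup.smul_def, MulAut.smul_def] at this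

/-- The stabilizer of the chain `E ≥ B ≥ C ≥ 1`, acting trivially on the three factors. -/
def mc5Stab (B C : Subgroup E) (hCB : C ≤ B) : Subgroup (MulAut E) where
  carrier := {α | (∀ e, e⁻¹ * α e ∈ B) ∧ (∀ b ∈ B, b⁻¹ * α b ∈ C) ∧ ∀ c ∈ C, α c = c}
  one_mem' := ⟨fun e => by simp, fun b _ => by simp, fun c _ => rfl⟩
  mul_mem' := by
    rintro α β ⟨a1, a2, a3⟩ ⟨b1, b2, b3⟩
    refine ⟨fun e => ?_, fun b hb => ?_, fun c hc => ?_⟩
    · have h : e⁻¹ * (α * β) e = e⁻¹ * β e * ((β e)⁻¹ * α (β e)) := by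
        rw [MulAut.mul_apply, mul_assoc, mul_inv_cancel_left]
      rw [h]
      exact B.mul_mem (b1 e) (a1 (β e))
    · have hβb : β b ∈ B := by
        have : β b = b * (b⁻¹ * β b) := by rw [mul_inv_cancel_left]
        rw [this]
        exact B.mul_mem hb (hCB (b2 b hb))
      have h : b⁻¹ * (α * β) b = b⁻¹ * β b * ((β b)⁻¹ * α (β b)) := by
        rw [MulAut.mul_apply, mul_assoc, mul_inv_cancel_left]
      rw [h]
      exact C.mul_mem (b2 b hb) (a2 _ hβb)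
    · rw [MulAut.mul_apply, b3 c hc, a3 c hc]
  inv_mem' := by
    rintro α ⟨a1, a2, a3⟩
    have key : ∀ e, e⁻¹ * α⁻¹ e = ((α⁻¹ e)⁻¹ * α (α⁻¹ e))⁻¹ := by
      intro e
      rw [MulAut.apply_inv_self, mul_inv_rev, inv_inv]
    refine ⟨fun e => ?_, fun b hb => ?_, fun c hc => ?_⟩
    · rw [key]
      exact B.inv_mem (a1 _)
    · have hf : α⁻¹ b ∈ B := by
        have : α⁻¹ b = b * (b⁻¹ * α⁻¹ b) := by rw [mul_inv_cancel_left]
        rw [this, key]
        exact B.mul_mem hb (B.inv_mem (a1 _))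
      rw [key]
      exact C.inv_mem (a2 _ hf)
    · have := congrArg (α⁻¹ : MulAut E) (a3 c hc)
      simpa using this.symm

theorem mem_mc5Stab {B C : Subgroup E} {hCB : C ≤ B} {α : MulAut E} :
    α ∈ mc5Stab B C hCB ↔
      (∀ e, e⁻¹ * α e ∈ B) ∧ (∀ b ∈ B, b⁻¹ * α b ∈ C) ∧ ∀ c ∈ C, α c = c := Iff.rfl

/-- Iterating an element of the chain stabilizer. -/
theorem mc5_iter2 {α : MulAut E} {e b c : E} (h1 : α e = e * b) (h2 : α b = b * c) (h3 : α c = c)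
    (k : ℕ) : (α ^ k) e = e * b ^ k * c ^ (k.choose 2) := by
  induction k with
  | zero => simp
  | succ k ih =>
    rw [pow_succ', MulAut.mul_apply, ih, map_mul, map_mul, map_pow, map_pow, h1, h2, h3,
      Nat.choose_succ_succ' k 1, Nat.choose_one_right, pow_add c, mul_pow, pow_succ' b]
    simp only [mul_comm, mul_left_comm, mul_assoc]

/-- The chain stabilizer has exponent `p` when `E` has exponent `p` and `p` is odd. -/
theorem mc5Stab_pow (p : ℕ) [Fact p.Prime] (hp : p ≠ 2) (hexp : ∀ e : E, e ^ p = 1)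
    {B C : Subgroup E} {hCB : C ≤ B} {α : MulAut E} (hα : α ∈ mc5Stab B C hCB) : α ^ p = 1 := by
  obtain ⟨a1, a2, a3⟩ := hα
  ext e
  have h1 : α e = e * (e⁻¹ * α e) := by rw [mul_inv_cancel_left]
  have h2 : α (e⁻¹ * α e) = (e⁻¹ * α e) * ((e⁻¹ * α e)⁻¹ * α (e⁻¹ * α e)) := by
    rw [mul_inv_cancel_left]
  have h3 := a3 _ (a2 _ (a1 e))
  rw [mc5_iter2 h1 h2 h3 p, hexp]
  have hpp := (Fact.out : p.Prime)
  have hdvd : p ∣ p.choose 2 := hpp.dvd_choose_self (by norm_num) (by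
    have := hpp.two_le
    omega)
  obtain ⟨m, hm⟩ := hdvd
  rw [hm, pow_mul, hexp, one_pow, mul_one, mul_one]
  rfl

theorem mc5Stab_isPGroup (p : ℕ) [Fact p.Prime] (hp : p ≠ 2) (hexp : ∀ e : E, e ^ p = 1)
    (B C : Subgroup E) (hCB : C ≤ B) : IsPGroup p (mc5Stab B C hCB) := by
  rintro ⟨α, hα⟩
  refine ⟨1, Subtype.ext ?_⟩
  rw [pow_one]
  exact mc5Stab_pow p hp hexp hα

/-- (I1) two elements with `[E,t] ≤ C_E(t)` and `[E,t₂] ≤ C_E(t₁)` lie in a common `p`-subgroup. -/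
theorem mc5_pair (p : ℕ) [Fact p.Prime] (hp : p ≠ 2) (hexp : ∀ e : E, e ^ p = 1)
    {t1 t2 : MulAut E} (h1 : mc5Mov t1 ≤ mc5Fix t1) (h2 : mc5Mov t2 ≤ mc5Fix t2)
    (h21 : mc5Mov t2 ≤ mc5Fix t1) :
    ∃ Q : Subgroup (MulAut E), IsPGroup p Q ∧ t1 ∈ Q ∧ t2 ∈ Q := by
  refine ⟨mc5Stab (mc5Mov t1 ⊔ mc5Mov t2) (mc5Mov t2) le_sup_right,
    mc5Stab_isPGroup p hp hexp _ _ _, ?_, ?_⟩
  · refine ⟨fun e => ?_, fun b hb => ?_, fun c hc => ?_⟩
    · exact (le_sup_left : mc5Mov t1 ≤ _) (mc5D_mem_mov t1 e)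
    · have : t1 b = b := mem_mc5Fix.mp ((sup_le h1 h21) hb)
      rw [this, inv_mul_cancel]
      exact Subgroup.one_mem _
    · exact mem_mc5Fix.mp (h21 hc)
  · refine ⟨fun e => ?_, fun b _ => ?_, fun c hc => ?_⟩
    · exact (le_sup_right : mc5Mov t2 ≤ _) (mc5D_mem_mov t2 e)
    · exact mc5D_mem_mov t2 b
    · exact mem_mc5Fix.mp (h2 hc)

/-- (P) two nontrivial elements of conjugates `a T a⁻¹`, `b T b⁻¹` inside a common `p`-subgroup of `A`
force `a⁻¹ b ∈ M`. -/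
theorem mc5_P (p : ℕ) (A M T : Subgroup (MulAut E)) (hTM : T ≤ M) (hT : IsPGroup p T)
    (hsyl : ∀ Q : Subgroup (MulAut E), Q ≤ A → IsPGroup p Q → ∃ a ∈ A, ∀ q ∈ Q, a * q * a⁻¹ ∈ T)
    (hse : ∀ g ∈ A, g ∉ M → ∀ y ∈ M, g⁻¹ * y * g ∈ M → (∃ k : ℕ, y ^ p ^ k = 1) → y = 1)
    {Q : Subgroup (MulAut E)} (hQA : Q ≤ A) (hQ : IsPGroup p Q) {a b s1 s2 : MulAut E}
    (ha : a ∈ A) (hb : b ∈ A) (hs1 : s1 ∈ T) (hs2 : s2 ∈ T) (h1 : s1 ≠ 1) (h2 : s2 ≠ 1)
    (hq1 : a * s1 * a⁻¹ ∈ Q) (hq2 : b * s2 * b⁻¹ ∈ Q) : a⁻¹ * b ∈ M := by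
  obtain ⟨h, hhA, hh⟩ := hsyl Q hQA hQ
  have key : ∀ c ∈ A, ∀ s ∈ T, s ≠ 1 → c * s * c⁻¹ ∈ Q → h * c ∈ M := by
    intro c hc s hs hs1 hq
    by_contra hn
    have hgA : (h * c)⁻¹ ∈ A := A.inv_mem (A.mul_mem hhA hc)
    have hgM : (h * c)⁻¹ ∉ M := fun hm => hn (by simpa using M.inv_mem hm)
    have hconj : ((h * c)⁻¹)⁻¹ * s * (h * c)⁻¹ ∈ M := by
      have : ((h * c)⁻¹)⁻¹ * s * (h * c)⁻¹ = h * (c * s * c⁻¹) * h⁻¹ := by group
      rw [this]
      exact hTM (hh _ hq)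
    obtain ⟨k, hk⟩ := hT ⟨s, hs⟩
    have hk' : s ^ p ^ k = 1 := by
      have := congrArg Subtype.val hk
      simpa using this
    exact hs1 (hse _ hgA hgM s (hTM hs) hconj ⟨k, hk'⟩)
  have e1 := key a ha s1 hs1 h1 hq1
  have e2 := key b hb s2 hs2 h2 hq2
  have : a⁻¹ * b = (h * a)⁻¹ * (h * b) := by group
  rw [this]
  exact M.mul_mem (M.inv_mem e1) e2

/-- (1) a `p`-group of automorphisms of order `> p` of `E` (of order `p ^ 3`) contains an element whose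
centralizer in `E` has order `p ^ 2`. -/
theorem mc5_exists_tr [Finite E] (p : ℕ) [Fact p.Prime] (hcard : Nat.card E = p ^ 3)
    {T : Subgroup (MulAut E)} (hT : IsPGroup p T) (hbig : p < Nat.card T) :
    ∃ τ ∈ T, Nat.card (mc5Fix τ) = p ^ 2 := by
  classical
  by_contra hno
  push Not at hno
  have hpp := (Fact.out : p.Prime)
  obtain ⟨b, hb1, hb⟩ := mc5_common_fixed p (hcard ▸ dvd_pow_self p three_ne_zero) hT
  have hfix : ∀ t ∈ T, t ≠ 1 → Nat.card (mc5Fix t) = p := by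
    intro t ht ht1
    have hdvd : Nat.card (mc5Fix t) ∣ p ^ 3 := hcard ▸ Subgroup.card_subgroup_dvd_card _
    obtain ⟨j, hj3, hj⟩ := (Nat.dvd_prime_pow hpp).mp hdvd
    have hj0 : j ≠ 0 := by
      rintro rfl
      rw [pow_zero, Subgroup.card_eq_one] at hj
      have : b ∈ mc5Fix t := mem_mc5Fix.mpr (hb t ht)
      rw [hj, Subgroup.mem_bot] at this
      exact hb1 this
    have hj3' : j ≠ 3 := by
      rintro rfl
      rw [← hcard] at hj
      exact ht1 (eq_one_of_mc5Fix_eq_top ((Subgroup.card_eq_iff_eq_top _).mp hj))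
    have hj2 : j ≠ 2 := by
      rintro rfl
      exact hno t ht hj
    have : j = 1 := by omega
    rw [hj, this, pow_one]
  haveI : Fintype T := Fintype.ofFinite T
  haveI : ∀ t : T, Fintype (MulAction.fixedBy E t) := fun t => Fintype.ofFinite _
  haveI : Fintype (Quotient (MulAction.orbitRel T E)) := Fintype.ofFinite _
  have hB := MulAction.sum_card_fixedBy_eq_card_orbits_mul_card_group T E
  have hle : p ≤ p ^ 3 := Nat.le_self_pow three_ne_zero p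
  have hterm : ∀ t : T, Fintype.card (MulAction.fixedBy E t)
      = p + if t = 1 then p ^ 3 - p else 0 := by
    intro t
    have hbij : Fintype.card (MulAction.fixedBy E t) = Nat.card (mc5Fix (t : MulAut E)) := by
      rw [← Nat.card_eq_fintype_card]
      apply Nat.card_congr
      exact Equiv.subtypeEquivRight (fun e => by
        rw [MulAction.mem_fixedBy, Subgroup.smul_def, MulAut.smul_def, mem_mc5Fix])
    rw [hbij]
    by_cases ht : t = 1
    · rw [if_pos ht, ht, Subgroup.coe_one, mc5Fix_one, Subgroup.card_top, hcard]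
      omega
    · rw [if_neg ht, add_zero]
      exact hfix t t.2 (fun h => ht (Subtype.ext h))
  simp only [hterm, Finset.sum_add_distrib, Finset.sum_const, Finset.card_univ, smul_eq_mul,
    Finset.sum_ite_eq', Finset.mem_univ, if_true] at hB
  obtain ⟨k, hk⟩ := (IsPGroup.iff_card).mp hT
  rw [← Nat.card_eq_fintype_card, hk] at hB
  rw [hk] at hbig
  have hk2 : 2 ≤ k := by
    by_contra hlt
    have : k = 0 ∨ k = 1 := by omega
    rcases this with rfl | rfl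
    · rw [pow_zero] at hbig
      exact absurd hpp.one_lt (by omega)
    · rw [pow_one] at hbig
      exact lt_irrefl _ hbig
  have hd : p ^ 2 ∣ p ^ k := pow_dvd_pow p hk2
  have h1 : p ^ 2 ∣ p ^ k * p + (p ^ 3 - p) := by
    rw [hB]
    exact Dvd.dvd.mul_left hd _
  have h2 : p ^ 2 ∣ p ^ 3 - p := (Nat.dvd_add_right (Dvd.dvd.mul_right hd _)).mp h1
  have h3 : p ^ 2 ∣ p ^ 3 := pow_dvd_pow p (by norm_num)
  have h4 : p ^ 2 ∣ p := by
    have : p ^ 3 = (p ^ 3 - p) + p := by omega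
    rw [this] at h3
    exact (Nat.dvd_add_right h2).mp h3
  have h5 := Nat.le_of_dvd hpp.pos h4
  have := hpp.two_le
  nlinarith

/-- **The linear step.**  `E` elementary abelian of order `p ^ 3`, `p` odd; `M < A ≤ Aut(E)` with `M` strongly
`p`-embedded in `A` (classical form `hse`) and `T ≤ M` a Sylow `p`-subgroup of `A` (form `hsyl`).  Then
`|T| ≤ p`. -/
theorem mc5_lin {E : Type*} [CommGroup E] [Finite E] (p : ℕ) [Fact p.Prime] (hp : p ≠ 2)
    (hcard : Nat.card E = p ^ 3) (hexp : ∀ e : E, e ^ p = 1) (A M T : Subgroup (MulAut E))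
    (hMA : M ≤ A) (hMne : M ≠ A) (hTM : T ≤ M) (hT : IsPGroup p T)
    (hsyl : ∀ Q : Subgroup (MulAut E), Q ≤ A → IsPGroup p Q → ∃ a ∈ A, ∀ q ∈ Q, a * q * a⁻¹ ∈ T)
    (hse : ∀ g ∈ A, g ∉ M → ∀ y ∈ M, g⁻¹ * y * g ∈ M → (∃ k : ℕ, y ^ p ^ k = 1) → y = 1) :
    Nat.card T ≤ p := by
  by_contra hlt
  push Not at hlt
  have hpp := (Fact.out : p.Prime)
  obtain ⟨τ, hτT, hτfix⟩ := mc5_exists_tr p hcard hT hlt
  have hTA : T ≤ A := hTM.trans hMA
  have hτ1 : τ ≠ 1 := by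
    rintro rfl
    rw [mc5Fix_one, Subgroup.card_top, hcard] at hτfix
    have := Nat.pow_right_injective hpp.two_le hτfix
    omega
  have hτmov : Nat.card (mc5Mov τ) = p := by
    have h := card_mc5Fix_mul_card_mc5Mov τ
    rw [hτfix, hcard, pow_succ] at h
    exact Nat.eq_of_mul_eq_mul_left (pow_pos hpp.pos 2) h
  obtain ⟨kτ, hkτ⟩ : ∃ k : ℕ, τ ^ p ^ k = 1 := by
    obtain ⟨k, hk⟩ := hT ⟨τ, hτT⟩
    exact ⟨k, by simpa using congrArg Subtype.val hk⟩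
  have hconjcard : ∀ c : MulAut E, Nat.card (mc5Mov (c * τ * c⁻¹)) = p := fun c => by
    rw [card_mc5Mov_conj, hτmov]
  have hconjMF : ∀ c : MulAut E, mc5Mov (c * τ * c⁻¹) ≤ mc5Fix (c * τ * c⁻¹) := by
    intro c
    apply mc5Mov_le_mc5Fix p (k := kτ)
    · rw [conj_pow, hkτ, mul_one, mul_inv_cancel]
    · exact hconjcard c
  have hτMF : mc5Mov τ ≤ mc5Fix τ := by
    have := hconjMF 1
    simpa using this
  obtain ⟨g, hgA, hgM⟩ := SetLike.exists_of_lt (lt_of_le_of_ne hMA hMne)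
  -- generic consequence of (I1) and (P)
  have hIP : ∀ a ∈ A, ∀ b ∈ A, mc5Mov (b * τ * b⁻¹) ≤ mc5Fix (a * τ * a⁻¹) → a⁻¹ * b ∈ M := by
    intro a ha b hb hle
    obtain ⟨Q, hQ, hq1, hq2⟩ := mc5_pair p hp hexp (hconjMF a) (hconjMF b) hle
    have hQ' : IsPGroup p (Q ⊓ A : Subgroup (MulAut E)) := hQ.to_le inf_le_left
    have hcA : ∀ c ∈ A, c * τ * c⁻¹ ∈ A := fun c hc =>
      A.mul_mem (A.mul_mem hc (hTA hτT)) (A.inv_mem hc)
    exact mc5_P p A M T hTM hT hsyl hse inf_le_right hQ' ha hb hτT hτT hτ1 hτ1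
      ⟨hq1, hcA a ha⟩ ⟨hq2, hcA b hb⟩
  -- (2)
  have hnot : ¬ mc5Mov τ ≤ mc5Fix (g * τ * g⁻¹) := by
    intro hle
    have h := hIP g hgA 1 A.one_mem (by simpa using hle)
    exact hgM (by simpa using M.inv_mem h)
  -- (COV)
  have hcov : ∀ e : E, e ∈ mc5Fix τ ∨
      ∃ k : ℕ, e ∈ mc5Fix (τ ^ k * (g * τ * g⁻¹) * (τ ^ k)⁻¹) := by
    intro e
    by_cases he : e ∈ mc5Fix τ
    · exact Or.inl he
    right
    have hnmov : e⁻¹ * τ e ∈ mc5Mov τ := mc5D_mem_mov τ e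
    have hn1 : e⁻¹ * τ e ≠ 1 := by
      intro h
      apply he
      rw [mem_mc5Fix]
      exact (inv_mul_eq_one.mp h).symm
    have hnfix : e⁻¹ * τ e ∉ mc5Fix (g * τ * g⁻¹) := fun h =>
      hnot (mc5_le_of_mem p hτmov hnmov hn1 h)
    have hDn : mc5D (g * τ * g⁻¹) (e⁻¹ * τ e) ≠ 1 := fun h => hnfix h
    have hgen : (⟨mc5D (g * τ * g⁻¹) e, ⟨e, rfl⟩⟩ : mc5Mov (g * τ * g⁻¹)) ∈
        Submonoid.powers
          (⟨mc5D (g * τ * g⁻¹) (e⁻¹ * τ e), ⟨_, rfl⟩⟩ : mc5Mov (g * τ * g⁻¹)) :=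
      mem_powers_of_prime_card (hconjcard g) (fun h => hDn (congrArg Subtype.val h))
    obtain ⟨j, hj⟩ := hgen
    have hj' : mc5D (g * τ * g⁻¹) e = mc5D (g * τ * g⁻¹) (e⁻¹ * τ e) ^ j := by
      have := congrArg Subtype.val hj
      simpa using this.symm
    refine ⟨j, ?_⟩
    rw [mem_mc5Fix_conj]
    have hτe : τ e = e * (e⁻¹ * τ e) := by rw [mul_inv_cancel_left]
    have hτn : τ (e⁻¹ * τ e) = e⁻¹ * τ e := mem_mc5Fix.mp (hτMF hnmov)
    have hτn' : (τ ^ j) (e⁻¹ * τ e) = e⁻¹ * τ e := by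
      have := mc5_iter (t := τ) (e := e⁻¹ * τ e) (n := 1) (by rw [mul_one]; exact hτn) (map_one τ) j
      simpa using this
    have h1 : (τ ^ j) (e * ((e⁻¹ * τ e) ^ j)⁻¹) = e := by
      rw [map_mul, map_inv, map_pow, mc5_iter hτe hτn, hτn', mul_inv_cancel_right]
    have hinv : (τ ^ j)⁻¹ e = e * ((e⁻¹ * τ e) ^ j)⁻¹ := by
      conv_lhs => rw [← h1]
      simp
    rw [hinv]
    show mc5D (g * τ * g⁻¹) (e * ((e⁻¹ * τ e) ^ j)⁻¹) = 1
    rw [map_mul, map_inv, map_pow, hj', mul_inv_cancel]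
  -- (3)
  have hτp : τ ^ p = 1 := by
    ext e
    have hτe : τ e = e * (e⁻¹ * τ e) := by rw [mul_inv_cancel_left]
    have hτn : τ (e⁻¹ * τ e) = e⁻¹ * τ e := mem_mc5Fix.mp (hτMF (mc5D_mem_mov τ e))
    rw [mc5_iter hτe hτn, hexp, mul_one]
    rfl
  obtain ⟨x, hxT, hxτ⟩ : ∃ x ∈ T, x ∉ Subgroup.zpowers τ := by
    by_contra hall
    push Not at hall
    have hle : T ≤ Subgroup.zpowers τ := hall
    have h1 : Nat.card T ≤ Nat.card (Subgroup.zpowers τ) := Subgroup.card_le_of_le hle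
    rw [Nat.card_zpowers] at h1
    have h2 : orderOf τ ≤ p := Nat.le_of_dvd hpp.pos (orderOf_dvd_of_pow_eq_one hτp)
    omega
  have hxgA : x * g ∈ A := A.mul_mem (hTA hxT) hgA
  have hne : mc5Mov ((x * g) * τ * (x * g)⁻¹) ≠ ⊥ := by
    intro h
    have := hconjcard (x * g)
    rw [h, Subgroup.card_bot] at this
    exact hpp.one_lt.ne this
  obtain ⟨e, heMov, he1⟩ := (Subgroup.bot_or_exists_ne_one _).resolve_left hne
  rcases hcov e with hA | ⟨k, hB⟩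
  · have hle : mc5Mov ((x * g) * τ * (x * g)⁻¹) ≤ mc5Fix τ :=
      mc5_le_of_mem p (hconjcard _) heMov he1 hA
    have h := hIP 1 A.one_mem (x * g) hxgA (by simpa using hle)
    have hxg : x * g ∈ M := by simpa using h
    apply hgM
    have : g = x⁻¹ * (x * g) := by group
    rw [this]
    exact M.mul_mem (M.inv_mem (hTM hxT)) hxg
  · have heq : τ ^ k * (g * τ * g⁻¹) * (τ ^ k)⁻¹ = (τ ^ k * g) * τ * (τ ^ k * g)⁻¹ := by group
    rw [heq] at hB
    have hle : mc5Mov ((x * g) * τ * (x * g)⁻¹) ≤ mc5Fix ((τ ^ k * g) * τ * (τ ^ k * g)⁻¹) :=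
      mc5_le_of_mem p (hconjcard _) heMov he1 hB
    have hkA : τ ^ k * g ∈ A := A.mul_mem (A.pow_mem (hTA hτT) k) hgA
    have hm := hIP _ hkA _ hxgA hle
    have hy : g⁻¹ * ((τ ^ k)⁻¹ * x) * g ∈ M := by
      have : g⁻¹ * ((τ ^ k)⁻¹ * x) * g = (τ ^ k * g)⁻¹ * (x * g) := by group
      rw [this]
      exact hm
    have hyT : (τ ^ k)⁻¹ * x ∈ T := T.mul_mem (T.inv_mem (T.pow_mem hτT k)) hxT
    have hypel : ∃ m : ℕ, ((τ ^ k)⁻¹ * x) ^ p ^ m = 1 := by
      obtain ⟨m, hm⟩ := hT ⟨_, hyT⟩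
      exact ⟨m, by simpa using congrArg Subtype.val hm⟩
    have hy1 := hse g hgA hgM _ (hTM hyT) hy hypel
    apply hxτ
    have hx : x = τ ^ k := by
      have := congrArg (fun z => τ ^ k * z) hy1
      simpa using this
    rw [hx]
    exact Subgroup.npow_mem_zpowers τ k

end Cfsg.Agent.MC5
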