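import Mathlib
import Cfsg.Prelude.Def_FusionSystem
import Cfsg.Agent.MC5.GlueG
import Cfsg.Agent.MC5.GlueI

set_option autoImplicit false

/-!
# S5316 project: the main theorem

In a saturated fusion system over a `p`-group of maximal class of order `p ^ n`, `p ≥ 5`, `n ≥ 5`,
no essential subgroup is elementary abelian of order `p ^ 3`.
-/

namespace Cfsg.Agent.MC5

open Cfsg Cfsg.FusionSystem

variable {Ω : Type*} [Group Ω] {S : Subgroup Ω}

theorem mc5_main [Finite S] (p : ℕ) [hp : Fact p.Prime] (hp5 : 5 ≤ p) (hS : IsPGroup p ↥S)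
    (n : ℕ) (hn : Nat.card S = p ^ n) (h5 : 5 ≤ n)
    (hmax : Subgroup.lowerCentralSeries S (n - 2) ≠ ⊥) (F : FusionSystem S)
    (hF : F.IsSaturated p) (E : Subgroup Ω) (hE : F.IsEssential p E)
    (hEA : Cfsg.IsElementaryAbelian p E) (hEc : Nat.card E = p ^ 3) : False := by
  rcases Nat.lt_or_ge n 7 with h | h
  · exact mc5_glue_stage3a p hp5 hS n hn h5 hmax F hF E hE hEA hEc (by omega)
  · exact mc5_glue_stage3b p hp5 hS n hn h5 hmax F hF E hE hEA hEc h

end Cfsg.Agent.MC5
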