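import Mathlib
import Cfsg.Agent.S5185
import Cfsg.Agent.S5186
import Cfsg.Agent.Helper4.RkV

set_option autoImplicit false

/-!
# S5316 (project MC5): reduction to the case `E` elementary abelian of order `p ^ 3`

`mc5_red` is the S5316 statement with the extra hypothesis `hmain` excluding the case
"`E` elementary abelian of order `p ^ 3`".  Orders `1`, `p` are impossible for an essential subgroup
(its automorphism group would be abelian), order `p ^ 2` is S5185, order `p ^ 3` is S5186.
-/

namespace Cfsg.Agent.MC5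

open Cfsg

/-- an essential subgroup of a saturated fusion system is not cyclic of order dividing `p` -/
private theorem mc5_red_not_small {Ω : Type*} [Group Ω] {S : Subgroup Ω} [Finite S] (p : ℕ) [Fact p.Prime]
    (hS : IsPGroup p ↥S) (F : Cfsg.FusionSystem S) (hF : F.IsSaturated p)
    (E : Subgroup Ω) (hE : F.IsEssential p E) (hc : Nat.card ↥E ∣ p) : False := by
  haveI : IsCyclic ↥E := isCyclic_of_card_dvd_prime hc
  have hcomm : ∀ a b : MulAut ↥E, a * b = b * a := fun a b =>
    (IsCyclic.mulAutMulEquiv ↥E).injective (by rw [map_mul, map_mul, mul_comm])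
  obtain ⟨-, ⟨β, -, τ, hτ, hne⟩, -, -⟩ := Cfsg.Agent.Helper4.Rk.essential_facts hS F hF hE
  apply hne
  rw [hcomm β τ, mul_inv_cancel_right]
  exact hτ

/-- exponent `p` from `x ^ p = 1` for all `x` in a nontrivial group -/
private theorem mc5_red_exponent {G : Type*} [Group G] (p : ℕ) [hp : Fact p.Prime]
    (h : ∀ x : G, x ^ p = 1) (hnt : Nontrivial G) : Monoid.exponent G = p := by
  have hd : Monoid.exponent G ∣ p := Monoid.exponent_dvd_of_forall_pow_eq_one h
  rcases (Nat.dvd_prime hp.out).mp hd with h1 | h1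
  · exfalso
    have := Monoid.exp_eq_one_iff.mp h1
    exact not_subsingleton G this
  · exact h1

theorem mc5_red {Ω : Type*} [Group Ω] {S : Subgroup Ω} [Finite S] (p : ℕ) [Fact p.Prime] (hp : 5 ≤ p) (hS : IsPGroup p ↥S) (n : ℕ) (hn : Nat.card S = p ^ n) (h5 : 5 ≤ n)
    (hmax : Subgroup.lowerCentralSeries S (n - 2) ≠ ⊥) (F : Cfsg.FusionSystem S) (hF : F.IsSaturated p)
    (E : Subgroup Ω) (hE : F.IsEssential p E)
    (hnp : ¬ ((Nat.card ↥E = p ^ 2 ∧ Cfsg.IsElementaryAbelian p E) ∨ (Nat.card ↥E = p ^ 3 ∧ Cfsg.IsExtraspecial p ↥E ∧ Monoid.exponent ↥E = p)))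
    (hmain : Cfsg.IsElementaryAbelian p E → Nat.card ↥E = p ^ 3 → False) :
    p ^ 4 ≤ Nat.card ↥E := by
  have hp1 : 1 < p := by omega
  have hES : E ≤ S := hE.1.1
  have hEp : IsPGroup p ↥E := hS.of_injective (Subgroup.inclusion hES) (Subgroup.inclusion_injective hES)
  haveI : Finite ↥E := Finite.of_injective _ (Subgroup.inclusion_injective hES)
  obtain ⟨k, hk⟩ := IsPGroup.iff_card.mp hEp
  by_contra hlt
  rw [not_le, hk] at hlt
  have hk4 : k < 4 := (Nat.pow_lt_pow_iff_right hp1).mp hlt
  interval_cases k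
  · exact mc5_red_not_small p hS F hF E hE (by rw [hk, pow_zero]; exact one_dvd p)
  · exact mc5_red_not_small p hS F hF E hE (by rw [hk, pow_one])
  · exact hnp (Or.inl ⟨hk, (Cfsg.Agent.S5185.result p hS F hF E hE hk).1⟩)
  · rcases Cfsg.Agent.S5186.result p hS F hF E hE hk with h1 | ⟨-, hex, hpow⟩ | ⟨h2, -⟩
    · exact hmain h1 hk
    · refine hnp (Or.inr ⟨hk, hex, ?_⟩)
      apply mc5_red_exponent p
      · intro x
        have := hpow x.1 x.2
        exact Subtype.ext (by simpa using this)
      · have hc : 1 < Nat.card ↥E := by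
          rw [hk]; exact Nat.one_lt_pow (by norm_num) hp1
        exact (Finite.one_lt_card_iff_nontrivial).mp hc
    · omega

end Cfsg.Agent.MC5
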